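import Mathlib
import Cfsg.Prelude.Def_Amalgam
import Cfsg.Agent.Lib.Helper12.AmalDefs

/-!
# S2751 (helper68): the weak amalgam hypotheses (no condition on `Ω₁Z(T)`)

`LocW P T` = `Loc P T` of `Lib/Helper12/AmalDefs.lean` without the field `act`
(`P` does not centralize `Ω₁Z(T)`); `PairW` = `Pair` with `LocW`.  Everything in the files
`AmalW*.lean` is a copy of the corresponding S2858 module (helper12, helper1, helper43, helper7)
with `Loc`, `Pair` replaced by `LocW`, `PairW`; none of those proofs used `act`.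
-/

set_option autoImplicit false

namespace Cfsg.Agent.Lib.Helper68.AmalW

open Cfsg Cfsg.Agent.Lib.Helper12.Amal

variable {G : Type*} [Group G]

/-- the hypotheses of S2858 on one of the two subgroups, without `act` -/
structure LocW (P T : Subgroup G) : Prop where
  fin : Finite ↥P
  le : T ≤ P
  syl : ∃ S : Sylow 2 ↥P, (S : Subgroup ↥P) = T.subgroupOf P
  cent : P ⊓ Subgroup.centralizer (Qof P : Set G) ≤ Qof P
  quot : Nonempty (↥P ⧸ pCore 2 ↥P ≃* Equiv.Perm (Fin 3))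

/-- the hypotheses of S2858 without `act` -/
structure PairW (P₁ P₂ T : Subgroup G) : Prop where
  l₁ : LocW P₁ T
  l₂ : LocW P₂ T
  gen : P₁ ⊔ P₂ = ⊤
  core : ∀ N : Subgroup G, N.Normal → N ≤ T → N = ⊥

theorem PairW.symm {P₁ P₂ T : Subgroup G} (h : PairW P₁ P₂ T) : PairW P₂ P₁ T :=
  ⟨h.l₂, h.l₁, by rw [sup_comm]; exact h.gen, h.core⟩

theorem LocW.of_loc {P T : Subgroup G} (h : Loc P T) : LocW P T :=
  ⟨h.fin, h.le, h.syl, h.cent, h.quot⟩

theorem PairW.of_pair {P₁ P₂ T : Subgroup G} (h : Pair P₁ P₂ T) : PairW P₁ P₂ T :=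
  ⟨LocW.of_loc h.l₁, LocW.of_loc h.l₂, h.gen, h.core⟩

/-- the basic facts on one of the two subgroups (`LocFacts` without `cent_Z_le_Q`) -/
structure LocFactsW (P T : Subgroup G) : Prop where
  Q_le_T : Qof P ≤ T
  Q_conj : ∀ g ∈ P, ∀ x ∈ Qof P, g * x * g⁻¹ ∈ Qof P
  T_isPGroup : IsPGroup 2 ↥T
  card_P : Nat.card ↥P = 6 * Nat.card ↥(Qof P)
  card_T : Nat.card ↥T = 2 * Nat.card ↥(Qof P)
  ZT_le_Q : T ⊓ Subgroup.centralizer (T : Set G) ≤ Qof P
  Z_le_Q : Zof P ≤ Qof P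
  Z_le_cent_Q : Zof P ≤ Subgroup.centralizer (Qof P : Set G)
  Z_sq : ∀ z ∈ Zof P, z * z = 1
  Z_conj : ∀ g ∈ P, ∀ z ∈ Zof P, g * z * g⁻¹ ∈ Zof P
  ZT_le_Z : ZT T ≤ Zof P

/-- the basic facts on both subgroups -/
structure PairFactsW (P₁ P₂ T : Subgroup G) : Prop where
  f₁ : LocFactsW P₁ T
  f₂ : LocFactsW P₂ T

theorem PairFactsW.symm {P₁ P₂ T : Subgroup G} (f : PairFactsW P₁ P₂ T) : PairFactsW P₂ P₁ T :=
  ⟨f.f₂, f.f₁⟩

end Cfsg.Agent.Lib.Helper68.AmalW
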