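import Mathlib
import Cfsg.Prelude.Def_Amalgam
import Cfsg.Agent.Lib.Helper12.AmalDefs
import Cfsg.Agent.Lib.Helper12.AmalLoc
import Cfsg.Agent.Lib.Helper68.AmalWDefs
import Cfsg.Agent.Lib.Helper46.Amalgam2

/-!
# S2751 (helper68): copy of `Lib/Helper12/AmalLoc.lean` for `LocW`
-/

set_option autoImplicit false
set_option linter.unusedVariables false

namespace Cfsg.Agent.Lib.Helper68.AmalW

open Cfsg Cfsg.Agent.Lib.Helper46 Cfsg.Agent.Lib.Helper12.Amal

variable {G : Type*} [Group G] {P T : Subgroup G}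

theorem LocW.isSylIn (h : LocW P T) : IsSylIn 2 T P := by
  obtain ⟨S, hS⟩ := h.syl
  refine ⟨S, ?_⟩
  rw [hS, Subgroup.map_subgroupOf_eq_of_le h.le]

/-! ## [A-L1] -/

theorem LocW.Q_le_T (h : LocW P T) : Qof P ≤ T := pCoreOf_le_of_isSylIn h.isSylIn

theorem LocW.Q_conj (h : LocW P T) : ∀ g ∈ P, ∀ x ∈ Qof P, g * x * g⁻¹ ∈ Qof P := by
  intro g hg x hx
  have := le_normalizer_pCoreOf (p := 2) P hg
  rw [Subgroup.mem_normalizer_iff] at this
  exact (this x).1 hx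

theorem LocW.T_isPGroup (h : LocW P T) : IsPGroup 2 ↥T := h.isSylIn.isPGroup

theorem LocW.card_P (h : LocW P T) : Nat.card ↥P = 6 * Nat.card ↥(Qof P) := by
  obtain ⟨e⟩ := h.quot
  have h1 := Subgroup.card_mul_index (pCore 2 ↥P)
  have h2 : (pCore 2 ↥P).index = 6 := by
    rw [Subgroup.index, Nat.card_congr e.toEquiv, Nat.card_perm, Nat.card_eq_fintype_card,
      Fintype.card_fin]
    rfl
  rw [h2] at h1
  rw [card_Qof, ← h1, mul_comm]

theorem LocW.card_T (h : LocW P T) : Nat.card ↥T = 2 * Nat.card ↥(Qof P) := by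
  have : Fact (Nat.Prime 2) := ⟨Nat.prime_two⟩
  have := h.fin
  have h1 := h.isSylIn.card
  have hfin : Finite ↥(Qof P) :=
    Finite.of_injective _ (Subgroup.inclusion_injective (pCoreOf_le (p := 2) P))
  obtain ⟨k, hk⟩ := IsPGroup.iff_card.1 (pCoreOf_isPGroup (p := 2) P)
  have hk' : Nat.card ↥(Qof P) = 2 ^ k := hk
  rw [h1, h.card_P, hk']
  have h6 : 6 * 2 ^ k = 2 ^ (k + 1) * 3 := by rw [pow_succ]; ring
  rw [h6, Nat.factorization_mul (by positivity) (by norm_num),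
    Nat.Prime.factorization_pow Nat.prime_two]
  have h3 : (Nat.factorization 3) 2 = 0 :=
    Nat.factorization_eq_zero_of_not_dvd (by norm_num)
  simp only [Finsupp.coe_add, Pi.add_apply, Finsupp.single_eq_same, h3, add_zero]
  rw [pow_succ]; ring

theorem LocW.ZT_le_Q (h : LocW P T) : T ⊓ Subgroup.centralizer (T : Set G) ≤ Qof P := by
  rintro x ⟨hxT, hxC⟩
  apply h.cent
  exact ⟨h.le hxT, Subgroup.centralizer_le h.Q_le_T hxC⟩

/-! ## [A-L2] -/

theorem LocW.Z_le_Q (h : LocW P T) : Zof P ≤ Qof P :=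
  sylowCenterClosure_le_pCoreOf (p := 2) (H := P) h.cent

theorem LocW.Z_le_cent_Q (h : LocW P T) : Zof P ≤ Subgroup.centralizer (Qof P : Set G) := by
  apply sylowCenterClosure_le_iff.mpr
  intro T' hT'
  refine (omegaOne_le _).trans ?_
  rintro x ⟨-, hxC⟩
  exact Subgroup.centralizer_le (pCoreOf_le_of_isSylIn hT') hxC

theorem LocW.Z_le_omegaZQ (h : LocW P T) : Zof P ≤ omegaZQ P := by
  apply sylowCenterClosure_le_iff.mpr
  intro T' hT'
  unfold omegaZ omegaOne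
  rw [Subgroup.closure_le]
  rintro x ⟨⟨hxT, hxC⟩, hx2⟩
  have hxc : x ∈ Subgroup.centralizer (Qof P : Set G) :=
    Subgroup.centralizer_le (pCoreOf_le_of_isSylIn hT') hxC
  refine ⟨h.cent ⟨hT'.le hxT, hxc⟩, hxc, ?_⟩
  rw [← pow_two]; exact hx2

theorem LocW.Z_sq (h : LocW P T) : ∀ z ∈ Zof P, z * z = 1 :=
  fun z hz => (h.Z_le_omegaZQ hz).2.2

theorem LocW.Z_conj (h : LocW P T) : ∀ g ∈ P, ∀ z ∈ Zof P, g * z * g⁻¹ ∈ Zof P := by
  intro g hg z hz
  have := le_normalizer_sylowCenterClosure (p := 2) P hg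
  rw [Subgroup.mem_normalizer_iff] at this
  exact (this z).1 hz

theorem LocW.ZT_le_Z (h : LocW P T) : ZT T ≤ Zof P :=
  omegaZ_le_sylowCenterClosure h.isSylIn

end Cfsg.Agent.Lib.Helper68.AmalW
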