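import Mathlib
import Cfsg.Prelude.Def_Amalgam
import Cfsg.Agent.Lib.Helper12.AmalDefs
import Cfsg.Agent.Lib.Helper12.AmalVtx
import Cfsg.Agent.Lib.Helper68.AmalWDefs
import Cfsg.Agent.Lib.Helper68.AmalWLoc
import Cfsg.Agent.Lib.Helper12.AmalCover
import Cfsg.Agent.Lib.Helper46.CosetGraph

/-!
# S2751 (helper68): copy of `Lib/Helper12/AmalVtx.lean` for `PairW`, and `LocW.facts`

`PairW P₁ P₂ T` is invariant under conjugation, so for every edge `{δ, μ}` of the coset graph of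
`(P₁, P₂)` the pair of vertex stabilizers satisfies `PairW G_δ G_μ (G_δ ⊓ G_μ)`; hence all the
local facts (`PairW.facts`, module [A-*]) hold at every vertex and edge.
-/

set_option autoImplicit false

namespace Cfsg.Agent.Lib.Helper68.AmalW

open Cfsg Cfsg.Agent.Lib.Helper12.Amal

variable {G : Type*} [Group G] {P P₁ P₂ T : Subgroup G}

theorem LocW.conj (h : LocW P T) (x : G) :
    LocW (P.map (MulAut.conj x).toMonoidHom) (T.map (MulAut.conj x).toMonoidHom) := by
  have s := side_conj h.le x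
  have := h.fin
  exact ⟨s.finite, s.leT', s.h2 2 h.syl, s.h1 2 h.cent, s.h4 2 h.quot⟩

theorem PairW.conj (h : PairW P₁ P₂ T) (x : G) :
    PairW (P₁.map (MulAut.conj x).toMonoidHom) (P₂.map (MulAut.conj x).toMonoidHom)
      (T.map (MulAut.conj x).toMonoidHom) := by
  refine ⟨h.l₁.conj x, h.l₂.conj x, ?_, ?_⟩
  · rw [← Subgroup.map_sup, h.gen]
    exact Subgroup.map_top_of_surjective _ (MulAut.conj x).surjective
  · intro N hN hle
    apply h.core N hN
    intro n hn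
    have h1 : x * n * x⁻¹ ∈ N := hN.conj_mem n hn x
    obtain ⟨t, ht, hte⟩ := hle h1
    have : t = n := by
      have h2 : x * t * x⁻¹ = x * n * x⁻¹ := hte
      have h3 : t = x⁻¹ * (x * t * x⁻¹) * x := by group
      rw [h3, h2]; group
    rw [← this]; exact ht

theorem PairW.conj_inf (h : PairW P₁ P₂ (P₁ ⊓ P₂)) (x : G) :
    PairW (P₁.map (MulAut.conj x).toMonoidHom) (P₂.map (MulAut.conj x).toMonoidHom)
      (P₁.map (MulAut.conj x).toMonoidHom ⊓ P₂.map (MulAut.conj x).toMonoidHom) := by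
  have := h.conj x
  rwa [Subgroup.map_inf _ _ _ (MulAut.conj x).injective] at this

/-- **[T-VTX]** the hypotheses of S2858 hold at every edge of the coset graph -/
theorem PairW.edge (h : PairW P₁ P₂ (P₁ ⊓ P₂)) {δ μ : CosetVertex P₁ P₂}
    (hadj : (cosetGraph P₁ P₂).Adj δ μ) :
    PairW (MulAction.stabilizer G δ) (MulAction.stabilizer G μ)
      (MulAction.stabilizer G δ ⊓ MulAction.stabilizer G μ) := by
  rw [Cfsg.Agent.Lib.Helper46.cg_adj_iff] at hadj
  rcases hadj with ⟨x, rfl, rfl⟩ | ⟨x, rfl, rfl⟩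
  · rw [Cfsg.Agent.Lib.Helper46.cg_stab_inl, Cfsg.Agent.Lib.Helper46.cg_stab_inr]
    exact h.conj_inf x
  · rw [Cfsg.Agent.Lib.Helper46.cg_stab_inl, Cfsg.Agent.Lib.Helper46.cg_stab_inr]
    have := (h.conj_inf x).symm
    rwa [inf_comm] at this

theorem LocW.facts (h : LocW P T) : LocFactsW P T :=
  ⟨h.Q_le_T, h.Q_conj, h.T_isPGroup, h.card_P, h.card_T, h.ZT_le_Q, h.Z_le_Q, h.Z_le_cent_Q,
    h.Z_sq, h.Z_conj, h.ZT_le_Z⟩

theorem PairW.facts (h : PairW P₁ P₂ T) : PairFactsW P₁ P₂ T := ⟨h.l₁.facts, h.l₂.facts⟩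

end Cfsg.Agent.Lib.Helper68.AmalW
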