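import Mathlib
import Cfsg.Prelude.Def_Amalgam
import Cfsg.Agent.Lib.Helper12.AmalDefs
import Cfsg.Agent.Lib.Helper12.AmalCrit
import Cfsg.Agent.Lib.Helper46.CosetGraph
import Cfsg.Agent.Lib.Helper68.AmalWDefs
import Cfsg.Agent.Lib.Helper68.AmalWVtx

/-!
# S2751 (helper68): copy of the first part of `Lib/Helper12/AmalCrit.lean` for `PairW`
-/

set_option autoImplicit false

namespace Cfsg.Agent.Lib.Helper68.AmalW

open Cfsg Cfsg.Agent.Lib.Helper46 Cfsg.Agent.Lib.Helper12.Amal

variable {G : Type*} [Group G] {P₁ P₂ : Subgroup G}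

section

variable (h : PairW P₁ P₂ (P₁ ⊓ P₂))
include h

theorem cg_conn : (cosetGraph P₁ P₂).Connected := cg_connected h.gen

theorem edge_facts {x y : CosetVertex P₁ P₂} (hadj : (cosetGraph P₁ P₂).Adj x y) :
    PairFactsW (MulAction.stabilizer G x) (MulAction.stabilizer G y)
      (MulAction.stabilizer G x ⊓ MulAction.stabilizer G y) :=
  (h.edge hadj).facts

theorem vertexQ_le_stab_adj {x y : CosetVertex P₁ P₂} (hadj : (cosetGraph P₁ P₂).Adj x y) :
    vertexQ 2 x ≤ MulAction.stabilizer G y :=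
  ((edge_facts h hadj).f₁.Q_le_T).trans inf_le_right

theorem vertexZ_le_vertexQ_self (x : CosetVertex P₁ P₂) : vertexZ 2 x ≤ vertexQ 2 x := by
  obtain ⟨y, hadj⟩ := exists_adj x
  exact (edge_facts h hadj).f₁.Z_le_Q

end

end Cfsg.Agent.Lib.Helper68.AmalW
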