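import Mathlib
import Cfsg.Prelude.Def_Amalgam
import Cfsg.Agent.Lib.Helper12.AmalDefs
import Cfsg.Agent.Lib.Helper1.AmalVNbr
import Cfsg.Agent.Lib.Helper68.AmalWDefs
import Cfsg.Agent.Lib.Helper68.AmalWCrit
import Cfsg.Agent.Lib.Helper12.AmalCrit
import Cfsg.Agent.Lib.Helper46.CosetGraph
import Cfsg.Agent.Lib.Helper46.Ambient

/-!
# S2751 (helper68): copy of `Lib/Helper1/AmalVNbr.lean` for `PairW`

Exact stub names of `Lib/Helper12/AmalTreeStubs.lean.txt`, in helper12's namespace.
-/

set_option autoImplicit false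

namespace Cfsg.Agent.Lib.Helper68.AmalW

open Cfsg Cfsg.Agent.Lib.Helper46 Cfsg.Agent.Lib.Helper12.Amal

variable {G : Type*} [Group G] {P₁ P₂ : Subgroup G}

section VNbr
variable (h : PairW P₁ P₂ (P₁ ⊓ P₂))
include h

/-- `Q_x = ` kernel of `G_x` on `Δ(x)` -/
theorem neighbourKernel_eq (x : CosetVertex P₁ P₂) : neighbourKernel x = vertexQ 2 x := by
  apply le_antisymm
  · -- the kernel is a normal 2-subgroup of `G_x`
    obtain ⟨y, hadj⟩ := exists_adj x
    have fx := (edge_facts h hadj).f₁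
    set Gx := MulAction.stabilizer G x with hGx
    set K := neighbourKernel x with hK
    have hKGx : K ≤ Gx := inf_le_left
    have hKy : K ≤ MulAction.stabilizer G y := by
      intro k hk
      exact MulAction.mem_stabilizer_iff.mpr (((mem_neighbourKernel_iff' x k).mp hk).2 y hadj)
    have hKT : K ≤ Gx ⊓ MulAction.stabilizer G y := le_inf hKGx hKy
    have hKp : IsPGroup 2 ↥K := fx.T_isPGroup.to_le hKT
    have hKp' : IsPGroup 2 ↥(K.subgroupOf Gx) := hKp.comap_subtype
    have hKn : (K.subgroupOf Gx).Normal := by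
      constructor
      intro k hk g
      rw [Subgroup.mem_subgroupOf] at hk ⊢
      simp only [Subgroup.coe_mul, Subgroup.coe_inv]
      have hg : (g : G) ∈ Gx := g.2
      rw [hK, mem_neighbourKernel_iff']
      refine ⟨?_, ?_⟩
      · exact Gx.mul_mem (Gx.mul_mem hg (hKGx hk)) (Gx.inv_mem hg)
      · intro μ hadjμ
        -- `g⁻¹ • μ` is a neighbour of `x`
        have hgx : (g : G)⁻¹ • x = x := by
          have : (g : G)⁻¹ ∈ Gx := Gx.inv_mem hg
          exact MulAction.mem_stabilizer_iff.mp this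
        have hadj' : (cosetGraph P₁ P₂).Adj x ((g : G)⁻¹ • μ) := by
          have := cg_adj_smul (g : G)⁻¹ hadjμ
          rwa [hgx] at this
        have h4 : (k : G) • ((g : G)⁻¹ • μ) = (g : G)⁻¹ • μ :=
          ((mem_neighbourKernel_iff' x k).mp hk).2 _ hadj'
        rw [mul_smul, mul_smul, h4, smul_inv_smul]
    have hle : K.subgroupOf Gx ≤ pCore 2 ↥Gx := le_pCore hKn hKp'
    intro k hk
    exact ⟨⟨k, hKGx hk⟩, hle (by rw [Subgroup.mem_subgroupOf]; exact hk), rfl⟩
  · unfold neighbourKernel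
    refine le_inf (vertexQ_le_stab x) ?_
    refine le_iInf₂ ?_
    intro μ hμ
    exact vertexQ_le_stab_adj h hμ

/-- `x` has exactly three neighbours -/
theorem card_nbrs (x : CosetVertex P₁ P₂) : ((cosetGraph P₁ P₂).neighborSet x).ncard = 3 := by
  obtain ⟨y, hadj⟩ := exists_adj x
  have fx := (edge_facts h hadj).f₁
  have hfin : Finite ↥(MulAction.stabilizer G x) := (h.edge hadj).l₁.fin
  set Gx := MulAction.stabilizer G x with hGx
  set Gy := MulAction.stabilizer G y with hGy
  -- the neighbours are the `G_x`-orbit of `y`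
  have horb : (cosetGraph P₁ P₂).neighborSet x = MulAction.orbit ↥Gx y := by
    ext μ
    constructor
    · intro hμ
      obtain ⟨g, hg, hgμ⟩ := cg_stab_trans_nbrs x y μ hadj hμ
      exact ⟨⟨g, hg⟩, hgμ⟩
    · rintro ⟨g, rfl⟩
      have hgx : (g : G) • x = x := MulAction.mem_stabilizer_iff.mp g.2
      have := cg_adj_smul (g : G) hadj
      rw [hgx] at this
      exact this
  have hidx : (MulAction.stabilizer ↥Gx y).index = (MulAction.orbit ↥Gx y).ncard :=
    MulAction.index_stabilizer _ y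
  rw [horb, ← hidx]
  -- the stabilizer of `y` in `G_x` is `T_xy`
  have hstab : MulAction.stabilizer ↥Gx y = (Gx ⊓ Gy).subgroupOf Gx := by
    ext g
    rw [MulAction.mem_stabilizer_iff, Subgroup.mem_subgroupOf, Subgroup.mem_inf]
    constructor
    · intro hg
      exact ⟨g.2, MulAction.mem_stabilizer_iff.mpr hg⟩
    · intro hg
      exact MulAction.mem_stabilizer_iff.mp hg.2
  rw [hstab]
  have h1 := Subgroup.card_mul_index ((Gx ⊓ Gy).subgroupOf Gx)
  have h2 : Nat.card ↥((Gx ⊓ Gy).subgroupOf Gx) = Nat.card ↥(Gx ⊓ Gy) :=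
    Nat.card_congr (Subgroup.subgroupOfEquivOfLe inf_le_left).toEquiv
  have h3 := fx.card_P
  have h4 := fx.card_T
  have hq : 0 < Nat.card ↥(Qof Gx) := by
    have hpos : 0 < Nat.card ↥Gx := Nat.card_pos
    rw [h3] at hpos
    omega
  rw [h2, h4, h3] at h1
  -- `2q * idx = 6q`
  have : 2 * Nat.card ↥(Qof Gx) * ((Gx ⊓ Gy).subgroupOf Gx).index = 2 * Nat.card ↥(Qof Gx) * 3 := by
    rw [h1]; ring
  exact Nat.eq_of_mul_eq_mul_left (by positivity) this

end VNbr

end Cfsg.Agent.Lib.Helper68.AmalW
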