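import Mathlib
import Cfsg.Prelude.Def_Amalgam
import Cfsg.Agent.Lib.Helper12.AmalDefs
import Cfsg.Agent.Lib.Helper1.AmalVEdge
import Cfsg.Agent.Lib.Helper68.AmalWDefs
import Cfsg.Agent.Lib.Helper68.AmalWCrit
import Cfsg.Agent.Lib.Helper68.AmalWNbr
import Cfsg.Agent.Lib.Helper12.AmalCrit
import Cfsg.Agent.Lib.Helper46.CosetGraph
import Cfsg.Agent.Lib.Helper46.Ambient
import Cfsg.Agent.Lib.Helper1.AmalVNbr

/-!
# S2751 (helper68): copy of `Lib/Helper1/AmalVEdge.lean` for `PairW`

`stab_finite, mul_mem_vertexQ, edge_inf_edge, smul_ne_of_not_mem, edge_sup_edge, exists_three,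
eq_bot_of_normalized` with the exact stub names of `Lib/Helper12/AmalTreeStubs.lean.txt`, in
helper12's namespace.  `edge_inf_edge` is deduced from [V-NBR] (three neighbours, kernel `Q_x`).
-/

set_option autoImplicit false

namespace Cfsg.Agent.Lib.Helper68.AmalW

open Cfsg Cfsg.Agent.Lib.Helper46 Cfsg.Agent.Lib.Helper12.Amal

variable {G : Type*} [Group G] {P₁ P₂ : Subgroup G}

section VEdge
variable (h : PairW P₁ P₂ (P₁ ⊓ P₂))
include h

/-- `G_x` is finite -/
theorem stab_finite (x : CosetVertex P₁ P₂) : Finite ↥(MulAction.stabilizer G x) := by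
  obtain ⟨y, hadj⟩ := exists_adj x
  exact (h.edge hadj).l₁.fin

/-- `|Q_x| > 0` -/
theorem card_vertexQ_pos (x : CosetVertex P₁ P₂) : 0 < Nat.card ↥(vertexQ 2 x) := by
  obtain ⟨y, hadj⟩ := exists_adj x
  have fx := (edge_facts h hadj).f₁
  have hfin : Finite ↥(MulAction.stabilizer G x) := stab_finite h x
  have hpos : 0 < Nat.card ↥(MulAction.stabilizer G x) := Nat.card_pos
  have h3 := fx.card_P
  rw [h3] at hpos
  have : 0 < Nat.card ↥(Qof (MulAction.stabilizer G x)) := by omega
  exact this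

/-- `|T_xy : Q_x| = 2`: two elements of `T_xy ∖ Q_x` differ by an element of `Q_x` -/
theorem mul_mem_vertexQ {x y : CosetVertex P₁ P₂} (hadj : (cosetGraph P₁ P₂).Adj x y) {g g' : G}
    (hg : g ∈ MulAction.stabilizer G x ⊓ MulAction.stabilizer G y) (hgQ : g ∉ vertexQ 2 x)
    (hg' : g' ∈ MulAction.stabilizer G x ⊓ MulAction.stabilizer G y) (hgQ' : g' ∉ vertexQ 2 x) :
    g⁻¹ * g' ∈ vertexQ 2 x := by
  have fx := (edge_facts h hadj).f₁
  set T := MulAction.stabilizer G x ⊓ MulAction.stabilizer G y with hT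
  set Q := vertexQ 2 x with hQ
  have hQT : Q ≤ T := fx.Q_le_T
  have hfin : Finite ↥(MulAction.stabilizer G x) := stab_finite h x
  have hfinT : Finite ↥T := Finite.of_injective (Subgroup.inclusion (inf_le_left : T ≤ _))
    (Subgroup.inclusion_injective _)
  have hqpos := card_vertexQ_pos h x
  have hidx : (Q.subgroupOf T).index = 2 := by
    have h1 := Subgroup.card_mul_index (Q.subgroupOf T)
    have h2 : Nat.card ↥(Q.subgroupOf T) = Nat.card ↥Q :=
      Nat.card_congr (Subgroup.subgroupOfEquivOfLe hQT).toEquiv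
    have h4 := fx.card_T
    rw [h2, h4] at h1
    have : Nat.card ↥Q * (Q.subgroupOf T).index = Nat.card ↥Q * 2 := by
      rw [h1]; ring
    exact Nat.eq_of_mul_eq_mul_left hqpos this
  have key := Subgroup.mul_mem_iff_of_index_two hidx (a := (⟨g, hg⟩ : ↥T)⁻¹) (b := ⟨g', hg'⟩)
  have hmem : (⟨g, hg⟩ : ↥T)⁻¹ * ⟨g', hg'⟩ ∈ Q.subgroupOf T := by
    rw [key]
    constructor
    · intro hin
      exfalso
      rw [Subgroup.inv_mem_iff, Subgroup.mem_subgroupOf] at hin
      exact hgQ hin
    · intro hin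
      exfalso
      rw [Subgroup.mem_subgroupOf] at hin
      exact hgQ' hin
  rw [Subgroup.mem_subgroupOf] at hmem
  simpa using hmem

/-- two edge groups at `x` meet in `Q_x` -/
theorem edge_inf_edge {x l m : CosetVertex P₁ P₂} (hl : (cosetGraph P₁ P₂).Adj x l)
    (hm : (cosetGraph P₁ P₂).Adj x m) (hlm : l ≠ m) :
    MulAction.stabilizer G x ⊓ MulAction.stabilizer G l ⊓ MulAction.stabilizer G m
      = vertexQ 2 x := by
  apply le_antisymm
  · intro g hg
    obtain ⟨⟨hgx, hgl⟩, hgm⟩ := hg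
    rw [← neighbourKernel_eq h x, mem_neighbourKernel_iff']
    refine ⟨hgx, ?_⟩
    intro μ hμ
    by_cases hμl : μ = l
    · rw [hμl]; exact MulAction.mem_stabilizer_iff.mp hgl
    by_cases hμm : μ = m
    · rw [hμm]; exact MulAction.mem_stabilizer_iff.mp hgm
    -- the three neighbours are `l, m, μ`
    have hcard := card_nbrs h x
    have hfinN : ((cosetGraph P₁ P₂).neighborSet x).Finite :=
      Set.finite_of_ncard_ne_zero (by rw [hcard]; norm_num)
    have hsub : ({l, m, μ} : Set (CosetVertex P₁ P₂)) ⊆ (cosetGraph P₁ P₂).neighborSet x := by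
      intro v hv
      rcases hv with rfl | rfl | rfl
      · exact hl
      · exact hm
      · exact hμ
    have hc3 : ({l, m, μ} : Set (CosetVertex P₁ P₂)).ncard = 3 := by
      rw [Set.ncard_eq_three]
      exact ⟨l, m, μ, hlm, fun e => hμl e.symm, fun e => hμm e.symm, rfl⟩
    have heq : ({l, m, μ} : Set (CosetVertex P₁ P₂)) = (cosetGraph P₁ P₂).neighborSet x :=
      Set.eq_of_subset_of_ncard_le hsub (by rw [hcard, hc3]) hfinN
    have hgμ : g • μ ∈ (cosetGraph P₁ P₂).neighborSet x := by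
      have := cg_adj_smul g hμ
      rw [MulAction.mem_stabilizer_iff.mp hgx] at this
      exact this
    rw [← heq] at hgμ
    rcases hgμ with e | e | e
    · exfalso
      have : g • μ = g • l := by rw [e, MulAction.mem_stabilizer_iff.mp hgl]
      exact hμl (smul_left_cancel g this)
    · exfalso
      have : g • μ = g • m := by rw [e, MulAction.mem_stabilizer_iff.mp hgm]
      exact hμm (smul_left_cancel g this)
    · exact Set.mem_singleton_iff.mp e
  · refine le_inf (le_inf (vertexQ_le_stab x) (vertexQ_le_stab_adj h hl)) (vertexQ_le_stab_adj h hm)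

/-- `g ∈ T_xl ∖ Q_x` moves every other neighbour of `x` -/
theorem smul_ne_of_not_mem {x l m : CosetVertex P₁ P₂} (hl : (cosetGraph P₁ P₂).Adj x l)
    (hm : (cosetGraph P₁ P₂).Adj x m)
    (hlm : l ≠ m) {g : G} (hg : g ∈ MulAction.stabilizer G x ⊓ MulAction.stabilizer G l)
    (hgQ : g ∉ vertexQ 2 x) : g • m ≠ m := by
  intro hgm
  apply hgQ
  rw [← edge_inf_edge h hl hm hlm]
  exact ⟨hg, MulAction.mem_stabilizer_iff.mpr hgm⟩

/-- two edge groups at `x` generate `G_x` -/
theorem edge_sup_edge {x l m : CosetVertex P₁ P₂} (hl : (cosetGraph P₁ P₂).Adj x l)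
    (hm : (cosetGraph P₁ P₂).Adj x m) (hlm : l ≠ m) :
    (MulAction.stabilizer G x ⊓ MulAction.stabilizer G l) ⊔
      (MulAction.stabilizer G x ⊓ MulAction.stabilizer G m) = MulAction.stabilizer G x := by
  have fl := (edge_facts h hl).f₁
  have fm := (edge_facts h hm).f₁
  have hfin : Finite ↥(MulAction.stabilizer G x) := stab_finite h x
  have hqpos := card_vertexQ_pos h x
  set Gx := MulAction.stabilizer G x with hGx
  set Tl := Gx ⊓ MulAction.stabilizer G l with hTl
  set Tm := Gx ⊓ MulAction.stabilizer G m with hTm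
  set S := Tl ⊔ Tm with hS
  have hSle : S ≤ Gx := sup_le inf_le_left inf_le_left
  have hfinS : Finite ↥S := Finite.of_injective (Subgroup.inclusion hSle)
    (Subgroup.inclusion_injective _)
  have hd1 : Nat.card ↥Tl ∣ Nat.card ↥S := Subgroup.card_dvd_of_le le_sup_left
  have hd2 : Nat.card ↥S ∣ Nat.card ↥Gx := Subgroup.card_dvd_of_le hSle
  have cT : Nat.card ↥Tl = 2 * Nat.card ↥(vertexQ 2 x) := fl.card_T
  have cTm : Nat.card ↥Tm = 2 * Nat.card ↥(vertexQ 2 x) := fm.card_T
  have cP : Nat.card ↥Gx = 6 * Nat.card ↥(vertexQ 2 x) := fl.card_P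
  set q := Nat.card ↥(vertexQ 2 x) with hq
  obtain ⟨k, hk⟩ := hd1
  rw [cT] at hk
  rw [hk, cP] at hd2
  -- `2 q k ∣ 6 q` so `k ∣ 3`
  have hk3 : k ∣ 3 := by
    have h6 : 2 * q * k ∣ 2 * q * 3 := by
      have : 6 * q = 2 * q * 3 := by ring
      rwa [this] at hd2
    exact Nat.dvd_of_mul_dvd_mul_left (by positivity) h6
  have hk13 : k = 1 ∨ k = 3 := by
    have := (Nat.dvd_prime Nat.prime_three).mp hk3
    exact this
  rcases hk13 with rfl | rfl
  · -- `S = T_xl`, impossible
    exfalso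
    have hST : Tl = S := by
      apply Subgroup.eq_of_le_of_card_ge le_sup_left
      rw [hk, cT]; omega
    have hTmle : Tm ≤ Tl := by rw [hST]; exact le_sup_right
    have hTmQ : Tm ≤ vertexQ 2 x := by
      rw [← edge_inf_edge h hl hm hlm]
      intro t ht
      exact ⟨hTmle ht, ht.2⟩
    have hfinQ : Finite ↥(vertexQ 2 x) := Finite.of_injective
      (Subgroup.inclusion (vertexQ_le_stab x)) (Subgroup.inclusion_injective _)
    have := Subgroup.card_le_of_le hTmQ
    rw [cTm] at this
    omega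
  · -- `|S| = |G_x|`
    apply Subgroup.eq_of_le_of_card_ge hSle
    rw [hk, cP]; omega

/-- a subgroup of `T_xy` normalized by `G_x` and `G_y` is trivial -/
theorem eq_bot_of_normalized {x y : CosetVertex P₁ P₂} (hadj : (cosetGraph P₁ P₂).Adj x y)
    (N : Subgroup G)
    (hN : N ≤ MulAction.stabilizer G x ⊓ MulAction.stabilizer G y)
    (hx : ∀ g ∈ MulAction.stabilizer G x, ∀ n ∈ N, g * n * g⁻¹ ∈ N)
    (hy : ∀ g ∈ MulAction.stabilizer G y, ∀ n ∈ N, g * n * g⁻¹ ∈ N) : N = ⊥ := by
  have hp := h.edge hadj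
  refine hp.core N ?_ hN
  -- the set of elements conjugating `N` into itself (both ways) is a subgroup containing both
  let M : Subgroup G :=
    { carrier := {g | ∀ n, n ∈ N ↔ g * n * g⁻¹ ∈ N}
      one_mem' := by intro n; simp
      mul_mem' := by
        intro a b ha hb n
        have : a * b * n * (a * b)⁻¹ = a * (b * n * b⁻¹) * a⁻¹ := by group
        rw [this, ← ha, ← hb]
      inv_mem' := by
        intro a ha n
        have h1 := ha (a⁻¹ * n * a⁻¹⁻¹)
        have : a * (a⁻¹ * n * a⁻¹⁻¹) * a⁻¹ = n := by group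
        rw [this] at h1
        exact h1.symm }
  have hxM : MulAction.stabilizer G x ≤ M := by
    intro g hg n
    constructor
    · exact hx g hg n
    · intro hn
      have := hx g⁻¹ (Subgroup.inv_mem _ hg) _ hn
      have e : g⁻¹ * (g * n * g⁻¹) * g⁻¹⁻¹ = n := by group
      rwa [e] at this
  have hyM : MulAction.stabilizer G y ≤ M := by
    intro g hg n
    constructor
    · exact hy g hg n
    · intro hn
      have := hy g⁻¹ (Subgroup.inv_mem _ hg) _ hn
      have e : g⁻¹ * (g * n * g⁻¹) * g⁻¹⁻¹ = n := by group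
      rwa [e] at this
  have hM : M = ⊤ := by
    apply top_le_iff.mp
    rw [← hp.gen]
    exact sup_le hxM hyM
  constructor
  intro n hn g
  have hg : g ∈ M := by rw [hM]; exact Subgroup.mem_top g
  exact (hg n).mp hn

/-- an element of order `3` -/
theorem exists_three (x : CosetVertex P₁ P₂) :
    ∃ d ∈ MulAction.stabilizer G x, d ∉ vertexQ 2 x ∧ d * d * d = 1 := by
  obtain ⟨y, hadj⟩ := exists_adj x
  have fx := (edge_facts h hadj).f₁
  have hfin : Finite ↥(MulAction.stabilizer G x) := stab_finite h x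
  have h3 : 3 ∣ Nat.card ↥(MulAction.stabilizer G x) := by
    rw [fx.card_P]
    exact Dvd.dvd.mul_right (by norm_num) _
  have : Fact (Nat.Prime 3) := ⟨Nat.prime_three⟩
  obtain ⟨d, hd⟩ := exists_prime_orderOf_dvd_card' 3 h3
  refine ⟨(d : G), d.2, ?_, ?_⟩
  · intro hdQ
    have hp : IsPGroup 2 ↥(vertexQ 2 x) := pCoreOf_isPGroup _
    obtain ⟨k, hk⟩ := hp ⟨(d : G), hdQ⟩
    have hk' : (d : G) ^ 2 ^ k = 1 := by
      have := congrArg Subtype.val hk
      simpa using this
    have ho : orderOf (d : G) = 3 := by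
      rw [Subgroup.orderOf_coe]; exact hd
    have hdvd : 3 ∣ 2 ^ k := by
      rw [← ho]; exact orderOf_dvd_of_pow_eq_one hk'
    have := Nat.Prime.dvd_of_dvd_pow Nat.prime_three hdvd
    omega
  · have h1 : d ^ 3 = 1 := by rw [← hd]; exact pow_orderOf_eq_one d
    have h2 : (d : G) ^ 3 = 1 := by
      have := congrArg Subtype.val h1
      simpa using this
    rw [← h2, pow_succ, pow_two]

end VEdge

end Cfsg.Agent.Lib.Helper68.AmalW
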