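import Mathlib
import Cfsg.Prelude.Def_Amalgam
import Cfsg.Agent.Lib.Helper12.AmalDefs
import Cfsg.Agent.Lib.Helper43.AmalVZ
import Cfsg.Agent.Lib.Helper68.AmalWDefs
import Cfsg.Agent.Lib.Helper68.AmalWCrit
import Cfsg.Agent.Lib.Helper12.AmalCrit
import Cfsg.Agent.Lib.Helper12.AmalTreeDefs
import Cfsg.Agent.Lib.Helper46.Amalgam3

/-!
# S2751 (helper68): copy of `Lib/Helper43/AmalVZ.lean` for `PairW`
`C_x ∩ C_y = 1`, `Z_x ≤ ⟨Z_l : l ~ x⟩`.

Statements from helper12's sheet `Lib/Helper12/AmalTreeSHEET.md`, with the stub names.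
-/

set_option autoImplicit false

namespace Cfsg.Agent.Lib.Helper68.AmalW

open Cfsg Cfsg.Agent.Lib.Helper46 Cfsg.Agent.Lib.Helper12.Amal

variable {G : Type*} [Group G] {P₁ P₂ : Subgroup G}

section VZ
variable (h : PairW P₁ P₂ (P₁ ⊓ P₂))
include h

/-- private copy of `eq_bot_of_normalized` (module [V-EDGE]) so that this file does not depend on it -/
theorem vz_eq_bot_of_normalized {x y : CosetVertex P₁ P₂} (hadj : (cosetGraph P₁ P₂).Adj x y)
    (N : Subgroup G)
    (hN : N ≤ MulAction.stabilizer G x ⊓ MulAction.stabilizer G y)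
    (hx : ∀ g ∈ MulAction.stabilizer G x, ∀ n ∈ N, g * n * g⁻¹ ∈ N)
    (hy : ∀ g ∈ MulAction.stabilizer G y, ∀ n ∈ N, g * n * g⁻¹ ∈ N) : N = ⊥ := by
  have hp := h.edge hadj
  refine hp.core N ?_ hN
  -- the set of `g` with `g N g⁻¹ ≤ N` and `g⁻¹ N g ≤ N` is a subgroup containing `G_x`, `G_y`
  let K : Subgroup G :=
    { carrier := {g | (∀ n ∈ N, g * n * g⁻¹ ∈ N) ∧ ∀ n ∈ N, g⁻¹ * n * g ∈ N}
      one_mem' := by
        refine ⟨fun n hn => ?_, fun n hn => ?_⟩ <;> simpa using hn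
      mul_mem' := by
        rintro a b ⟨ha, ha'⟩ ⟨hb, hb'⟩
        refine ⟨fun n hn => ?_, fun n hn => ?_⟩
        · have := ha _ (hb n hn)
          have e : a * b * n * (a * b)⁻¹ = a * (b * n * b⁻¹) * a⁻¹ := by group
          rw [e]; exact this
        · have := hb' _ (ha' n hn)
          have e : (a * b)⁻¹ * n * (a * b) = b⁻¹ * (a⁻¹ * n * a) * b := by group
          rw [e]; exact this
      inv_mem' := by
        rintro a ⟨ha, ha'⟩
        refine ⟨fun n hn => ?_, fun n hn => ?_⟩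
        · have := ha' n hn
          simpa using this
        · have := ha n hn
          simpa using this }
  have hKx : MulAction.stabilizer G x ≤ K := by
    intro g hg
    refine ⟨hx g hg, fun n hn => ?_⟩
    have := hx g⁻¹ (inv_mem hg) n hn
    simpa using this
  have hKy : MulAction.stabilizer G y ≤ K := by
    intro g hg
    refine ⟨hy g hg, fun n hn => ?_⟩
    have := hy g⁻¹ (inv_mem hg) n hn
    simpa using this
  have hK : K = ⊤ := by
    rw [eq_top_iff, ← hp.gen]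
    exact sup_le hKx hKy
  constructor
  intro n hn g
  have hg : g ∈ K := by rw [hK]; exact Subgroup.mem_top g
  exact hg.1 n hn

/-- `Q_x ≠ Q_y` for adjacent vertices -/
theorem vz_vertexQ_ne {x y : CosetVertex P₁ P₂} (hadj : (cosetGraph P₁ P₂).Adj x y) :
    vertexQ 2 x ≠ vertexQ 2 y := by
  intro heq
  have hp := h.edge hadj
  have f := edge_facts h hadj
  have hbot : vertexQ 2 x = ⊥ := by
    apply vz_eq_bot_of_normalized h hadj
    · exact f.f₁.Q_le_T
    · exact f.f₁.Q_conj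
    · intro g hg n hn
      rw [heq] at hn ⊢
      exact f.f₂.Q_conj g hg n hn
  have hc := hp.l₁.cent
  have hQ : Qof (MulAction.stabilizer G x) = ⊥ := hbot
  rw [hQ] at hc
  have hle : MulAction.stabilizer G x ≤ ⊥ := by
    intro g hg
    apply hc
    refine Subgroup.mem_inf.mpr ⟨hg, ?_⟩
    rw [Subgroup.mem_centralizer_iff]
    intro z hz
    have : z = 1 := by simpa using hz
    rw [this, one_mul, mul_one]
  have hcard := f.f₁.card_P
  rw [hQ] at hcard
  have h1 : Nat.card ↥(MulAction.stabilizer G x) = 1 := by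
    rw [le_bot_iff] at hle
    rw [hle]
    exact Subgroup.card_bot
  rw [h1, Subgroup.card_bot] at hcard
  omega

/-- `Q_x Q_y = T_xy` -/
theorem vertexQ_sup {x y : CosetVertex P₁ P₂} (hadj : (cosetGraph P₁ P₂).Adj x y) :
    vertexQ 2 x ⊔ vertexQ 2 y = MulAction.stabilizer G x ⊓ MulAction.stabilizer G y := by
  have hp := h.edge hadj
  have f := edge_facts h hadj
  have hfinx : Finite ↥(MulAction.stabilizer G x) := hp.l₁.fin
  have hfinT : Finite ↥(MulAction.stabilizer G x ⊓ MulAction.stabilizer G y) :=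
    Finite.of_injective (Subgroup.inclusion (inf_le_left))
      (Subgroup.inclusion_injective inf_le_left)
  have hle : vertexQ 2 x ⊔ vertexQ 2 y ≤ MulAction.stabilizer G x ⊓ MulAction.stabilizer G y :=
    sup_le f.f₁.Q_le_T f.f₂.Q_le_T
  have hfinS : Finite ↥(vertexQ 2 x ⊔ vertexQ 2 y) :=
    Finite.of_injective (Subgroup.inclusion hle) (Subgroup.inclusion_injective hle)
  have hfinQx : Finite ↥(vertexQ 2 x) :=
    Finite.of_injective (Subgroup.inclusion f.f₁.Q_le_T) (Subgroup.inclusion_injective _)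
  have hfinQy : Finite ↥(vertexQ 2 y) :=
    Finite.of_injective (Subgroup.inclusion f.f₂.Q_le_T) (Subgroup.inclusion_injective _)
  have hcx : Nat.card ↥(MulAction.stabilizer G x ⊓ MulAction.stabilizer G y)
      = 2 * Nat.card ↥(vertexQ 2 x) := f.f₁.card_T
  have hcy : Nat.card ↥(MulAction.stabilizer G x ⊓ MulAction.stabilizer G y)
      = 2 * Nat.card ↥(vertexQ 2 y) := f.f₂.card_T
  have hqq : Nat.card ↥(vertexQ 2 x) = Nat.card ↥(vertexQ 2 y) := by omega
  have hpos : 0 < Nat.card ↥(vertexQ 2 x) := Nat.card_pos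
  have hd1 : Nat.card ↥(vertexQ 2 x) ∣ Nat.card ↥(vertexQ 2 x ⊔ vertexQ 2 y) :=
    Subgroup.card_dvd_of_le le_sup_left
  have hd2 : Nat.card ↥(vertexQ 2 x ⊔ vertexQ 2 y) ∣
      Nat.card ↥(MulAction.stabilizer G x ⊓ MulAction.stabilizer G y) :=
    Subgroup.card_dvd_of_le hle
  obtain ⟨k, hk⟩ := hd1
  rw [hcx, hk] at hd2
  have hk2 : k ∣ 2 := by
    rw [mul_comm 2] at hd2
    exact Nat.dvd_of_mul_dvd_mul_left hpos hd2
  have hk12 : k = 1 ∨ k = 2 := (Nat.dvd_prime Nat.prime_two).mp hk2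
  rcases hk12 with rfl | rfl
  · -- `|Q_x Q_y| = |Q_x|`: then `Q_y ≤ Q_x`, equal
    exfalso
    apply vz_vertexQ_ne h hadj
    have h1 : vertexQ 2 x = vertexQ 2 x ⊔ vertexQ 2 y :=
      Subgroup.eq_of_le_of_card_ge le_sup_left (by rw [hk]; omega)
    have h2 : vertexQ 2 y ≤ vertexQ 2 x := by
      rw [h1]; exact le_sup_right
    exact (Subgroup.eq_of_le_of_card_ge h2 (by omega)).symm
  · exact Subgroup.eq_of_le_of_card_ge hle (by rw [hcx, hk]; omega)

/-- elements of `Z_x` centralizing `T_xy` lie in `Ω₁Z(T_xy)` -/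
theorem vz_inf_cent_le_ZT {x y : CosetVertex P₁ P₂} (hadj : (cosetGraph P₁ P₂).Adj x y) :
    vertexZ 2 x ⊓
      Subgroup.centralizer ((MulAction.stabilizer G x ⊓ MulAction.stabilizer G y : Subgroup G) : Set G)
      ≤ ZT (MulAction.stabilizer G x ⊓ MulAction.stabilizer G y) := by
  have f := edge_facts h hadj
  rintro z ⟨hz, hzc⟩
  apply Subgroup.subset_closure
  refine ⟨⟨f.f₁.Q_le_T (f.f₁.Z_le_Q hz), hzc⟩, ?_⟩
  rw [pow_two]
  exact f.f₁.Z_sq z hz

/-- `Z_x ∩ Z_y = C_{Z_x}(T_xy)` -/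
theorem vertexZ_inf {x y : CosetVertex P₁ P₂} (hadj : (cosetGraph P₁ P₂).Adj x y) :
    vertexZ 2 x ⊓ vertexZ 2 y = vertexZ 2 x ⊓
      Subgroup.centralizer ((MulAction.stabilizer G x ⊓ MulAction.stabilizer G y : Subgroup G) : Set G) := by
  have f := edge_facts h hadj
  apply le_antisymm
  · rintro z ⟨hzx, hzy⟩
    refine Subgroup.mem_inf.mpr ⟨hzx, ?_⟩
    have h1 : vertexQ 2 x ≤ Subgroup.centralizer ({z} : Set G) := by
      intro q hq
      rw [Subgroup.mem_centralizer_singleton_iff]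
      exact ((Subgroup.mem_centralizer_iff.mp (f.f₁.Z_le_cent_Q hzx)) q hq)
    have h2 : vertexQ 2 y ≤ Subgroup.centralizer ({z} : Set G) := by
      intro q hq
      rw [Subgroup.mem_centralizer_singleton_iff]
      exact ((Subgroup.mem_centralizer_iff.mp (f.f₂.Z_le_cent_Q hzy)) q hq)
    have h3 := sup_le h1 h2
    rw [vertexQ_sup h hadj] at h3
    rw [Subgroup.mem_centralizer_iff]
    intro t ht
    have := h3 ht
    rw [Subgroup.mem_centralizer_singleton_iff] at this
    exact this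
  · refine le_inf inf_le_left ?_
    exact (vz_inf_cent_le_ZT h hadj).trans f.f₂.ZT_le_Z

/-- `Z_x ∩ Z_y = Ω₁Z(T_xy)` -/
theorem vertexZ_inf' {x y : CosetVertex P₁ P₂} (hadj : (cosetGraph P₁ P₂).Adj x y) :
    vertexZ 2 x ⊓ vertexZ 2 y = ZT (MulAction.stabilizer G x ⊓ MulAction.stabilizer G y) := by
  have f := edge_facts h hadj
  apply le_antisymm
  · rw [vertexZ_inf h hadj]
    exact vz_inf_cent_le_ZT h hadj
  · exact le_inf f.f₁.ZT_le_Z f.f₂.ZT_le_Z

/-- `C_x ∩ C_y = 1` -/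
theorem vC_inf_vC {x y : CosetVertex P₁ P₂} (hadj : (cosetGraph P₁ P₂).Adj x y) :
    vC x ⊓ vC y = ⊥ := by
  have f := edge_facts h hadj
  apply vz_eq_bot_of_normalized h hadj
  · rintro z ⟨⟨hzx, -⟩, -⟩
    exact f.f₁.Q_le_T (f.f₁.Z_le_Q hzx)
  · intro g hg n hn
    have hnx : n ∈ Subgroup.centralizer (MulAction.stabilizer G x : Set G) := hn.1.2
    have hc : g * n = n * g := ((Subgroup.mem_centralizer_iff.mp hnx) g hg)
    have e : g * n * g⁻¹ = n := by rw [hc]; group
    rw [e]; exact hn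
  · intro g hg n hn
    have hny : n ∈ Subgroup.centralizer (MulAction.stabilizer G y : Set G) := hn.2.2
    have hc : g * n = n * g := ((Subgroup.mem_centralizer_iff.mp hny) g hg)
    have e : g * n * g⁻¹ = n := by rw [hc]; group
    rw [e]; exact hn

/-- `Z_x ≤ ⟨Z_l : l ~ x⟩`, in the form used: a subgroup containing all `Z_l` contains `Z_x` -/
theorem vertexZ_le_of_nbrs (x : CosetVertex P₁ P₂) (K : Subgroup G)
    (hK : ∀ l, (cosetGraph P₁ P₂).Adj x l → vertexZ 2 l ≤ K) : vertexZ 2 x ≤ K := by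
  obtain ⟨y, hadj⟩ := exists_adj x
  have hp := h.edge hadj
  have hfinx : Finite ↥(MulAction.stabilizer G x) := hp.l₁.fin
  have : Fact (Nat.Prime 2) := ⟨Nat.prime_two⟩
  -- `T_xy` is a Sylow 2-subgroup of `G_x`
  have hsyl : IsSylIn 2 (MulAction.stabilizer G x ⊓ MulAction.stabilizer G y)
      (MulAction.stabilizer G x) := by
    obtain ⟨S, hS⟩ := hp.l₁.syl
    refine ⟨S, ?_⟩
    rw [hS, Subgroup.map_subgroupOf_eq_of_le inf_le_left]
  show sylowCenterClosure 2 (MulAction.stabilizer G x) ≤ K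
  rw [sylowCenterClosure_le_iff]
  intro T' hT'
  obtain ⟨k, hk, rfl⟩ := isSylIn_conj hsyl hT'
  -- `k T_xy k⁻¹ = T_{x, k•y}`
  have hkx : k • x = x := hk
  have hadj' : (cosetGraph P₁ P₂).Adj x (k • y) := by
    have := cg_adj_smul k hadj
    rwa [hkx] at this
  have hmap : (MulAction.stabilizer G x ⊓ MulAction.stabilizer G y).map (MulAut.conj k).toMonoidHom
      = MulAction.stabilizer G x ⊓ MulAction.stabilizer G (k • y) := by
    rw [Subgroup.map_inf _ _ _ (MulAut.conj k).injective,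
      ← MulAction.stabilizer_smul_eq_stabilizer_map_conj,
      ← MulAction.stabilizer_smul_eq_stabilizer_map_conj, hkx]
  rw [hmap]
  exact ((edge_facts h hadj').f₂.ZT_le_Z).trans (hK _ hadj')

end VZ

end Cfsg.Agent.Lib.Helper68.AmalW
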