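import Mathlib
import Cfsg.Prelude.Def_Amalgam
import Cfsg.Agent.Lib.Helper12.AmalDefs
import Cfsg.Agent.Lib.Helper12.AmalCrit
import Cfsg.Agent.Lib.Helper12.AmalTreeDefs
import Cfsg.Agent.Lib.Helper1.AmalVNbr
import Cfsg.Agent.Lib.Helper1.AmalVEdge
import Cfsg.Agent.Lib.Helper43.AmalVZ
import Cfsg.Agent.Lib.Helper46.CosetGraph
import Cfsg.Agent.Lib.Helper46.Amalgam3
import Cfsg.Agent.Lib.Helper68.AmalDDefs
import Cfsg.Agent.Lib.Helper7.AmalDBase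
import Cfsg.Agent.Lib.Helper68.AmalWDefs
import Cfsg.Agent.Lib.Helper68.AmalWCrit
import Cfsg.Agent.Lib.Helper68.AmalWNbr
import Cfsg.Agent.Lib.Helper68.AmalWEdge
import Cfsg.Agent.Lib.Helper68.AmalWVZ

/-!
# S2751 (helper68): `BaseW`, the basic facts on the coset graph without `act`

Copy of `Lib/Helper7/AmalDBase.lean` ([D-BASE]) for `PairW`.
-/

set_option autoImplicit false

namespace Cfsg.Agent.Lib.Helper68.AmalW

open Cfsg Cfsg.Agent.Lib.Helper12.Amal Cfsg.Agent.Lib.Helper46 Cfsg.Agent.Lib.Helper68.AmalD Cfsg.Agent.Lib.Helper7.AmalC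

variable {G : Type*} [Group G] {P₁ P₂ : Subgroup G}

section

variable (h : PairW P₁ P₂ (P₁ ⊓ P₂))
include h

/-- there is an element of `T_xl ∖ Q_x` -/
theorem exists_edge_not_Q {x l : CosetVertex P₁ P₂} (hl : (cosetGraph P₁ P₂).Adj x l) :
    ∃ t ∈ MulAction.stabilizer G x ⊓ MulAction.stabilizer G l, t ∉ vertexQ 2 x := by
  by_contra hcon
  push Not at hcon
  have fx := (edge_facts h hl).f₁
  have hfin : Finite ↥(MulAction.stabilizer G x) := stab_finite h x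
  have hfinQ : Finite ↥(vertexQ 2 x) :=
    Finite.of_injective (Subgroup.inclusion (vertexQ_le_stab x)) (Subgroup.inclusion_injective _)
  have hle : MulAction.stabilizer G x ⊓ MulAction.stabilizer G l ≤ vertexQ 2 x := hcon
  have h1 := Subgroup.card_le_of_le hle
  have h2 := fx.card_T
  have h3 := card_vertexQ_pos h x
  have h4 : Nat.card ↥(Qof (MulAction.stabilizer G x)) = Nat.card ↥(vertexQ 2 x) := rfl
  omega

/-- `G_x` is `2`-transitive on the neighbours of `x` -/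
theorem base_two_trans (x l m l' m' : CosetVertex P₁ P₂) (hl : (cosetGraph P₁ P₂).Adj x l)
    (hm : (cosetGraph P₁ P₂).Adj x m) (hlm : l ≠ m) (hl' : (cosetGraph P₁ P₂).Adj x l')
    (hm' : (cosetGraph P₁ P₂).Adj x m') (hlm' : l' ≠ m') :
    ∃ g ∈ MulAction.stabilizer G x, g • l = l' ∧ g • m = m' := by
  obtain ⟨g₁, hg₁, hg₁l⟩ := cg_stab_trans_nbrs x l l' hl hl'
  have hg₁x : g₁ • x = x := hg₁
  have hm₁ : (cosetGraph P₁ P₂).Adj x (g₁ • m) := by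
    have := cg_adj_smul g₁ hm
    rwa [hg₁x] at this
  have hne₁ : l' ≠ g₁ • m := by
    rw [← hg₁l]
    intro he
    exact hlm (smul_left_cancel g₁ he)
  by_cases hmm : g₁ • m = m'
  · exact ⟨g₁, hg₁, hg₁l, hmm⟩
  · obtain ⟨t, ht, htQ⟩ := exists_edge_not_Q h hl'
    have htx : t • x = x := ht.1
    have htl : t • l' = l' := ht.2
    have hmove : t • (g₁ • m) ≠ g₁ • m := smul_ne_of_not_mem h hl' hm₁ hne₁ ht htQ
    have hadj₂ : (cosetGraph P₁ P₂).Adj x (t • (g₁ • m)) := by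
      have := cg_adj_smul t hm₁
      rwa [htx] at this
    have hne₂ : t • (g₁ • m) ≠ l' := by
      intro he
      rw [← htl] at he
      exact hne₁ (smul_left_cancel t he).symm
    have he : t • (g₁ • m) = m' :=
      nbr_eq_of_card (card_nbrs h x) l' (g₁ • m) _ _ hl' hm₁ hne₁ hadj₂ hne₂ hmove hm'
        (Ne.symm hlm') (Ne.symm hmm)
    refine ⟨t * g₁, Subgroup.mul_mem _ ht.1 hg₁, ?_, ?_⟩
    · rw [mul_smul, hg₁l, htl]
    · rw [mul_smul, he]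

/-- `Z_x` is normal in `G_x` (conjugation form) -/
theorem Z_conj_mem {x : CosetVertex P₁ P₂} {g z : G} (hg : g ∈ MulAction.stabilizer G x)
    (hz : z ∈ vertexZ 2 x) : g * z * g⁻¹ ∈ vertexZ 2 x := by
  obtain ⟨y, hadj⟩ := exists_adj x
  exact (edge_facts h hadj).f₁.Z_conj g hg z hz

/-- `Q_x` centralizes `Z_x` (conjugation form) -/
theorem Q_conj_Z {x : CosetVertex P₁ P₂} {q z : G} (hq : q ∈ vertexQ 2 x)
    (hz : z ∈ vertexZ 2 x) : q * z * q⁻¹ = z := by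
  obtain ⟨y, hadj⟩ := exists_adj x
  have h1 := (edge_facts h hadj).f₁.Z_le_cent_Q hz
  have h2 : q * z = z * q := (Subgroup.mem_centralizer_iff.mp h1) q hq
  rw [h2]; group

/-- for `t ∈ T_xl` and `u ∈ Z_x`: `t u t⁻¹ u⁻¹ ∈ Z_x ∩ Z_l` -/
theorem comm_mem_inf {x l : CosetVertex P₁ P₂} (hl : (cosetGraph P₁ P₂).Adj x l) {t u : G}
    (ht : t ∈ MulAction.stabilizer G x ⊓ MulAction.stabilizer G l) (hu : u ∈ vertexZ 2 x) :
    t * u * t⁻¹ * u⁻¹ ∈ vertexZ 2 x ⊓ vertexZ 2 l := by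
  have fx := (edge_facts h hl).f₁
  by_cases htQ : t ∈ vertexQ 2 x
  · rw [Q_conj_Z h htQ hu, mul_inv_cancel]
    exact Subgroup.one_mem _
  have hc : t * u * t⁻¹ * u⁻¹ ∈ vertexZ 2 x :=
    Subgroup.mul_mem _ (Z_conj_mem h ht.1 hu) (Subgroup.inv_mem _ hu)
  -- `t²` lies in `Q_x`
  have ht2 : t * t ∈ vertexQ 2 x := by
    have hti : t⁻¹ ∈ MulAction.stabilizer G x ⊓ MulAction.stabilizer G l := Subgroup.inv_mem _ ht
    have htiQ : t⁻¹ ∉ vertexQ 2 x := fun hh => htQ (by simpa using Subgroup.inv_mem _ hh)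
    have := mul_mem_vertexQ h hl hti htiQ ht htQ
    simpa using this
  -- `t` centralizes the commutator
  have hut : t * u⁻¹ * t⁻¹ ∈ vertexZ 2 x := Z_conj_mem h ht.1 (Subgroup.inv_mem _ hu)
  have hcomm : ∀ a ∈ vertexZ 2 x, ∀ b ∈ vertexZ 2 x, a * b = b * a := by
    intro a ha b hb
    have h1 := fx.Z_le_cent_Q hb
    exact ((Subgroup.mem_centralizer_iff.mp h1) a (fx.Z_le_Q ha))
  have hu2 : u * u = 1 := fx.Z_sq u hu
  have hui : u⁻¹ = u := by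
    rw [inv_eq_iff_mul_eq_one]; exact hu2
  have htc : t * (t * u * t⁻¹ * u⁻¹) * t⁻¹ = t * u * t⁻¹ * u⁻¹ := by
    have e1 : t * (t * u * t⁻¹ * u⁻¹) * t⁻¹ = ((t * t) * u * (t * t)⁻¹) * (t * u⁻¹ * t⁻¹) := by
      group
    rw [e1, Q_conj_Z h ht2 hu, hui]
    exact hcomm _ hu _ (Z_conj_mem h ht.1 hu)
  rw [vertexZ_inf h hl]
  refine Subgroup.mem_inf.mpr ⟨hc, ?_⟩
  rw [Subgroup.mem_centralizer_iff]
  intro s hs
  by_cases hsQ : s ∈ vertexQ 2 x
  · have := Q_conj_Z h hsQ hc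
    calc s * (t * u * t⁻¹ * u⁻¹) = (s * (t * u * t⁻¹ * u⁻¹) * s⁻¹) * s := by group
      _ = (t * u * t⁻¹ * u⁻¹) * s := by rw [this]
  · have hq : t⁻¹ * s ∈ vertexQ 2 x := mul_mem_vertexQ h hl ht htQ hs hsQ
    have h1 := Q_conj_Z h hq hc
    have e2 : s * (t * u * t⁻¹ * u⁻¹) * s⁻¹ = t * u * t⁻¹ * u⁻¹ := by
      have e3 : s * (t * u * t⁻¹ * u⁻¹) * s⁻¹
          = t * ((t⁻¹ * s) * (t * u * t⁻¹ * u⁻¹) * (t⁻¹ * s)⁻¹) * t⁻¹ := by group
      rw [e3, h1, htc]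
    calc s * (t * u * t⁻¹ * u⁻¹) = (s * (t * u * t⁻¹ * u⁻¹) * s⁻¹) * s := by group
      _ = (t * u * t⁻¹ * u⁻¹) * s := by rw [e2]

/-- `Z_x` is generated by `Z_x ∩ Z_l` and `Z_x ∩ Z_m` -/
theorem base_Z_gen (x l m : CosetVertex P₁ P₂) (hl : (cosetGraph P₁ P₂).Adj x l)
    (hm : (cosetGraph P₁ P₂).Adj x m) (hlm : l ≠ m) :
    vertexZ 2 x = (vertexZ 2 x ⊓ vertexZ 2 l) ⊔ (vertexZ 2 x ⊓ vertexZ 2 m) := by
  apply le_antisymm _ (sup_le inf_le_left inf_le_left)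
  set U : Subgroup G := (vertexZ 2 x ⊓ vertexZ 2 l) ⊔ (vertexZ 2 x ⊓ vertexZ 2 m) with hU
  -- `T_xl` and `T_xm` normalize `U`
  have key : ∀ l₁ m₁ : CosetVertex P₁ P₂, (cosetGraph P₁ P₂).Adj x l₁ →
      (cosetGraph P₁ P₂).Adj x m₁ →
      ∀ t ∈ MulAction.stabilizer G x ⊓ MulAction.stabilizer G l₁,
      ∀ u ∈ (vertexZ 2 x ⊓ vertexZ 2 l₁) ⊔ (vertexZ 2 x ⊓ vertexZ 2 m₁),
        t * u * t⁻¹ ∈ (vertexZ 2 x ⊓ vertexZ 2 l₁) ⊔ (vertexZ 2 x ⊓ vertexZ 2 m₁) := by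
    intro l₁ m₁ hl₁ hm₁ t ht u hu
    have huZ : u ∈ vertexZ 2 x := (sup_le inf_le_left inf_le_left : _ ≤ vertexZ 2 x) hu
    have h1 := comm_mem_inf h hl₁ ht huZ
    have e : t * u * t⁻¹ = (t * u * t⁻¹ * u⁻¹) * u := by group
    rw [e]
    exact Subgroup.mul_mem _ (Subgroup.mem_sup_left h1) hu
  have hN : MulAction.stabilizer G x ≤ Subgroup.normalizer (U : Set G) := by
    rw [← edge_sup_edge h hl hm hlm]
    have aux : ∀ l₁ m₁ : CosetVertex P₁ P₂, (cosetGraph P₁ P₂).Adj x l₁ →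
        (cosetGraph P₁ P₂).Adj x m₁ →
        MulAction.stabilizer G x ⊓ MulAction.stabilizer G l₁ ≤ Subgroup.normalizer
          (((vertexZ 2 x ⊓ vertexZ 2 l₁) ⊔ (vertexZ 2 x ⊓ vertexZ 2 m₁) : Subgroup G) : Set G) := by
      intro l₁ m₁ hl₁ hm₁ t ht
      rw [Subgroup.mem_set_normalizer_iff]
      intro u
      constructor
      · intro hu
        exact key l₁ m₁ hl₁ hm₁ t ht u hu
      · intro hu
        have := key l₁ m₁ hl₁ hm₁ t⁻¹ (Subgroup.inv_mem _ ht) _ hu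
        have e : t⁻¹ * (t * u * t⁻¹) * t⁻¹⁻¹ = u := by group
        rwa [e] at this
    refine sup_le (aux l m hl hm) ?_
    have := aux m l hm hl
    rwa [sup_comm] at this
  -- every `Z_x ∩ Z_{l'}` lies in `U`
  have hall : ∀ l' : CosetVertex P₁ P₂, (cosetGraph P₁ P₂).Adj x l' →
      vertexZ 2 x ⊓ vertexZ 2 l' ≤ U := by
    intro l' hl'
    obtain ⟨g, hg, hgl⟩ := cg_stab_trans_nbrs x l l' hl hl'
    have hgx : g • x = x := hg
    have e1 : vertexZ 2 x ⊓ vertexZ 2 l'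
        = (vertexZ 2 x ⊓ vertexZ 2 l).map (MulAut.conj g).toMonoidHom := by
      rw [Subgroup.map_inf _ _ _ (MulAut.conj g).injective]
      have a1 := base_smul_Z g x
      have a2 := base_smul_Z g l
      rw [hgx] at a1
      rw [hgl] at a2
      show Zv x ⊓ Zv l' = _
      rw [← a1, ← a2]
    rw [e1]
    rintro _ ⟨u, hu, rfl⟩
    have hgN := hN hg
    rw [Subgroup.mem_set_normalizer_iff] at hgN
    exact (hgN u).mp (Subgroup.mem_sup_left hu)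
  -- Sylow closure
  have hp := h.edge hl
  have hfinx : Finite ↥(MulAction.stabilizer G x) := hp.l₁.fin
  have : Fact (Nat.Prime 2) := ⟨Nat.prime_two⟩
  have hsyl : IsSylIn 2 (MulAction.stabilizer G x ⊓ MulAction.stabilizer G l)
      (MulAction.stabilizer G x) := by
    obtain ⟨S, hS⟩ := hp.l₁.syl
    refine ⟨S, ?_⟩
    rw [hS, Subgroup.map_subgroupOf_eq_of_le inf_le_left]
  show sylowCenterClosure 2 (MulAction.stabilizer G x) ≤ U
  rw [sylowCenterClosure_le_iff]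
  intro T' hT'
  obtain ⟨k, hk, rfl⟩ := isSylIn_conj hsyl hT'
  have hkx : k • x = x := hk
  have hadj' : (cosetGraph P₁ P₂).Adj x (k • l) := by
    have := cg_adj_smul k hl
    rwa [hkx] at this
  have hmap : (MulAction.stabilizer G x ⊓ MulAction.stabilizer G l).map (MulAut.conj k).toMonoidHom
      = MulAction.stabilizer G x ⊓ MulAction.stabilizer G (k • l) := by
    rw [Subgroup.map_inf _ _ _ (MulAut.conj k).injective,
      ← MulAction.stabilizer_smul_eq_stabilizer_map_conj,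
      ← MulAction.stabilizer_smul_eq_stabilizer_map_conj, hkx]
  rw [hmap]
  have := hall _ hadj'
  rw [vertexZ_inf' h hadj'] at this
  exact this

end

/-- the basic facts on the coset graph and its vertex groups, without `act`: the fields of `Base`
(`Lib/Helper68/AmalDDefs.lean`) except `cent_Z` and `act`, and `char2` -/
structure BaseW (P₁ P₂ : Subgroup G) : Prop where
  conn : (cosetGraph P₁ P₂).Connected
  card_nbr : ∀ x : CosetVertex P₁ P₂, ((cosetGraph P₁ P₂).neighborSet x).ncard = 3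
  smul_adj : ∀ (g : G) (x y : CosetVertex P₁ P₂), (cosetGraph P₁ P₂).Adj x y →
    (cosetGraph P₁ P₂).Adj (g • x) (g • y)
  edge_trans : ∀ x y x' y' : CosetVertex P₁ P₂, (cosetGraph P₁ P₂).Adj x y →
    (cosetGraph P₁ P₂).Adj x' y' → ∃ g : G, (g • x = x' ∧ g • y = y') ∨ (g • x = y' ∧ g • y = x')
  two_trans : ∀ x l m l' m' : CosetVertex P₁ P₂, (cosetGraph P₁ P₂).Adj x l →
    (cosetGraph P₁ P₂).Adj x m → l ≠ m → (cosetGraph P₁ P₂).Adj x l' →
    (cosetGraph P₁ P₂).Adj x m' → l' ≠ m' → ∃ g ∈ Gv x, g • l = l' ∧ g • m = m'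
  fin : ∀ x : CosetVertex P₁ P₂, Finite ↥(Gv x)
  Q_iff : ∀ (x : CosetVertex P₁ P₂) (g : G), g ∈ Qv x ↔
    g ∈ Gv x ∧ ∀ y, (cosetGraph P₁ P₂).Adj x y → g • y = y
  Q_two : ∀ x : CosetVertex P₁ P₂, IsPGroup 2 ↥(Qv x)
  card_G : ∀ x : CosetVertex P₁ P₂, Nat.card ↥(Gv x) = 6 * Nat.card ↥(Qv x)
  card_T : ∀ x y : CosetVertex P₁ P₂, (cosetGraph P₁ P₂).Adj x y →
    Nat.card ↥(Gv x ⊓ Gv y) = 2 * Nat.card ↥(Qv x)
  edge_eq : ∀ x y : CosetVertex P₁ P₂, (cosetGraph P₁ P₂).Adj x y → Gv x ⊓ Gv y = Qv x ⊔ Qv y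
  gen_two : ∀ x l m : CosetVertex P₁ P₂, (cosetGraph P₁ P₂).Adj x l → (cosetGraph P₁ P₂).Adj x m →
    l ≠ m → Gv x = (Gv x ⊓ Gv l) ⊔ (Gv x ⊓ Gv m)
  core : ∀ x y : CosetVertex P₁ P₂, (cosetGraph P₁ P₂).Adj x y → ∀ N : Subgroup G,
    N ≤ Gv x ⊓ Gv y → Gv x ≤ Subgroup.normalizer (N : Set G) → Gv y ≤ Subgroup.normalizer (N : Set G) → N = ⊥
  smul_G : ∀ (g : G) (x : CosetVertex P₁ P₂), Gv (g • x) = (Gv x).map (MulAut.conj g).toMonoidHom
  smul_Q : ∀ (g : G) (x : CosetVertex P₁ P₂), Qv (g • x) = (Qv x).map (MulAut.conj g).toMonoidHom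
  smul_Z : ∀ (g : G) (x : CosetVertex P₁ P₂), Zv (g • x) = (Zv x).map (MulAut.conj g).toMonoidHom
  Z_le_Q : ∀ x : CosetVertex P₁ P₂, Zv x ≤ Qv x
  Z_cent_Q : ∀ x : CosetVertex P₁ P₂, Zv x ≤ Subgroup.centralizer ((Qv x : Subgroup G) : Set G)
  Z_sq : ∀ x : CosetVertex P₁ P₂, ∀ z ∈ Zv x, z * z = 1
  Z_inf : ∀ x y : CosetVertex P₁ P₂, (cosetGraph P₁ P₂).Adj x y → Zv x ⊓ Zv y = ZT (Gv x ⊓ Gv y)
  Z_gen : ∀ x l m : CosetVertex P₁ P₂, (cosetGraph P₁ P₂).Adj x l → (cosetGraph P₁ P₂).Adj x m →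
    l ≠ m → Zv x = (Zv x ⊓ Zv l) ⊔ (Zv x ⊓ Zv m)
  char2 : ∀ x : CosetVertex P₁ P₂,
    Gv x ⊓ Subgroup.centralizer ((Qv x : Subgroup G) : Set G) ≤ Qv x
  mul_mem_Q : ∀ x y : CosetVertex P₁ P₂, (cosetGraph P₁ P₂).Adj x y → ∀ g g' : G,
    g ∈ Gv x ⊓ Gv y → g ∉ Qv x → g' ∈ Gv x ⊓ Gv y → g' ∉ Qv x → g⁻¹ * g' ∈ Qv x
  comm_inf : ∀ x l : CosetVertex P₁ P₂, (cosetGraph P₁ P₂).Adj x l → ∀ t u : G,
    t ∈ Gv x ⊓ Gv l → u ∈ Zv x → t * u * t⁻¹ * u⁻¹ ∈ Zv x ⊓ Zv l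
  exists_three : ∀ x : CosetVertex P₁ P₂, ∃ d ∈ Gv x, d ∉ Qv x ∧ d * d * d = 1
  exists_not_Q : ∀ x l : CosetVertex P₁ P₂, (cosetGraph P₁ P₂).Adj x l →
    ∃ t ∈ Gv x ⊓ Gv l, t ∉ Qv x
  move : ∀ x l m : CosetVertex P₁ P₂, (cosetGraph P₁ P₂).Adj x l → (cosetGraph P₁ P₂).Adj x m →
    l ≠ m → ∀ g ∈ Gv x ⊓ Gv l, g ∉ Qv x → g • m ≠ m
  T_two : ∀ x y : CosetVertex P₁ P₂, (cosetGraph P₁ P₂).Adj x y → IsPGroup 2 ↥(Gv x ⊓ Gv y)
  Z_cent_T : ∀ x y : CosetVertex P₁ P₂, (cosetGraph P₁ P₂).Adj x y →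
    Zv x ⊓ Subgroup.centralizer ((Gv x ⊓ Gv y : Subgroup G) : Set G) ≤ ZT (Gv x ⊓ Gv y)

section

variable (h : PairW P₁ P₂ (P₁ ⊓ P₂))
include h

/-- **[W-BASE]** the basic facts on the coset graph and its vertex groups -/
theorem baseW_of_pairW : BaseW P₁ P₂ where
  conn := cg_conn h
  card_nbr := card_nbrs h
  smul_adj := fun g _ _ hxy => cg_adj_smul g hxy
  edge_trans := base_edge_trans
  two_trans := base_two_trans h
  fin := stab_finite h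
  Q_iff := by
    intro x g
    show g ∈ vertexQ 2 x ↔ _
    rw [← neighbourKernel_eq h x]
    exact mem_neighbourKernel_iff' x g
  Q_two := fun x => pCoreOf_isPGroup _
  card_G := by
    intro x
    obtain ⟨y, hadj⟩ := exists_adj x
    exact (edge_facts h hadj).f₁.card_P
  card_T := fun x y hadj => (edge_facts h hadj).f₁.card_T
  edge_eq := fun x y hadj => (vertexQ_sup h hadj).symm
  gen_two := fun x l m hl hm hlm => (edge_sup_edge h hl hm hlm).symm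
  core := by
    intro x y hadj N hN hx hy
    apply eq_bot_of_normalized h hadj N hN
    · intro g hg n hn
      have := hx hg
      rw [Subgroup.mem_set_normalizer_iff] at this
      exact (this n).mp hn
    · intro g hg n hn
      have := hy hg
      rw [Subgroup.mem_set_normalizer_iff] at this
      exact (this n).mp hn
  smul_G := fun g x => MulAction.stabilizer_smul_eq_stabilizer_map_conj g x
  smul_Q := base_smul_Q
  smul_Z := base_smul_Z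
  Z_le_Q := vertexZ_le_vertexQ_self h
  Z_cent_Q := by
    intro x
    obtain ⟨y, hadj⟩ := exists_adj x
    exact (edge_facts h hadj).f₁.Z_le_cent_Q
  Z_sq := by
    intro x
    obtain ⟨y, hadj⟩ := exists_adj x
    exact (edge_facts h hadj).f₁.Z_sq
  Z_inf := fun x y hadj => vertexZ_inf' h hadj
  Z_gen := base_Z_gen h
  char2 := by
    intro x
    obtain ⟨y, hadj⟩ := exists_adj x
    exact (h.edge hadj).l₁.cent
  mul_mem_Q := fun x y hadj g g' hg hgQ hg' hgQ' => mul_mem_vertexQ h hadj hg hgQ hg' hgQ'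
  comm_inf := fun x l hl t u ht hu => comm_mem_inf h hl ht hu
  exists_three := exists_three h
  exists_not_Q := fun x l hl => exists_edge_not_Q h hl
  move := fun x l m hl hm hlm g hg hgQ => smul_ne_of_not_mem h hl hm hlm hg hgQ
  T_two := fun x y hadj => (edge_facts h hadj).f₁.T_isPGroup
  Z_cent_T := fun x y hadj => vz_inf_cent_le_ZT h hadj

end

end Cfsg.Agent.Lib.Helper68.AmalW
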