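import Mathlib
import Cfsg.Prelude.Def_Amalgam
import Cfsg.Agent.Lib.Helper12.AmalDefs
import Cfsg.Agent.Lib.Helper12.AmalCrit
import Cfsg.Agent.Lib.Helper68.AmalDDefs
import Cfsg.Agent.Lib.Helper68.AmalWBase

/-!
# S2751 (Goldschmidt's bound `|M₁ ∩ M₂| ≤ 2^7`), case (B) (helper68, helper12): vocabulary

Case (B): both `Mᵢ` of characteristic `2`, `Ω₁Z(T)` central in exactly one of them.
`Γ = cosetGraph P₁ P₂`, `Gv x = G_x`, `Qv x = Q_x = O₂(G_x)`, `Zv x = Z_x` (`Lib/Helper68/AmalDDefs.lean`).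

* `IsB x` : `x` is of β-type, `Z_x ≤ Z(G_x)`; α-type = `¬ IsB x`;
* `Vv y = ⟨Z_x : x ~ y⟩`;
* `Fb y = C_{Q_y}(V_y)`;
* `F2 x = Q_x ∩ ⋂_{y ~ x} Q_y` (the kernel of `G_x` on the vertices at distance `≤ 2`);
* `BaseB P₁ P₂` : the basic facts (`BaseW` of `AmalWBase.lean`, the types alternate,
  `C_{G_x}(Z_x) = Q_x` for α-type `x`, `Z_x ≠ 1`);
* `IsWalk n p`, `IsArc n p` : walks and non-backtracking walks `p 0, …, p n`;
* `MinB P₁ P₂ b` (`AmalDDefs.lean`): `Z_x ≤ Q_y` whenever `d(x,y) < b`.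
-/

set_option autoImplicit false

namespace Cfsg.Agent.Lib.Helper68.AmalB

open Cfsg Cfsg.Agent.Lib.Helper12.Amal Cfsg.Agent.Lib.Helper68.AmalD Cfsg.Agent.Lib.Helper68.AmalW

variable {G : Type*} [Group G] {P₁ P₂ : Subgroup G}

/-- `x` is of β-type: `Z_x` is central in `G_x` -/
def IsB (x : CosetVertex P₁ P₂) : Prop :=
  Zv x ≤ Subgroup.centralizer ((Gv x : Subgroup G) : Set G)

/-- `V_y = ⟨Z_x : x ~ y⟩` -/
def Vv (y : CosetVertex P₁ P₂) : Subgroup G :=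
  ⨆ x ∈ (cosetGraph P₁ P₂).neighborSet y, Zv x

/-- `F_y = C_{Q_y}(V_y)` -/
def Fb (y : CosetVertex P₁ P₂) : Subgroup G :=
  Qv y ⊓ Subgroup.centralizer ((Vv y : Subgroup G) : Set G)

/-- `G_x^{(2)} = Q_x ∩ ⋂_{y ~ x} Q_y` -/
def F2 (x : CosetVertex P₁ P₂) : Subgroup G :=
  Qv x ⊓ ⨅ y ∈ (cosetGraph P₁ P₂).neighborSet x, Qv y

/-- the basic facts of case (B) -/
structure BaseB (P₁ P₂ : Subgroup G) : Prop where
  W : BaseW P₁ P₂
  adj_type : ∀ x y : CosetVertex P₁ P₂, (cosetGraph P₁ P₂).Adj x y → (IsB x ↔ ¬ IsB y)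
  Za_cent : ∀ x : CosetVertex P₁ P₂, ¬ IsB x →
    Gv x ⊓ Subgroup.centralizer ((Zv x : Subgroup G) : Set G) ≤ Qv x
  ne_bot : ∀ x : CosetVertex P₁ P₂, Zv x ≠ ⊥

/-- `p 0, …, p n` is a walk -/
def IsWalk (n : ℕ) (p : ℕ → CosetVertex P₁ P₂) : Prop :=
  ∀ i < n, (cosetGraph P₁ P₂).Adj (p i) (p (i + 1))

/-- `p 0, …, p n` is an arc (a walk without backtracking) -/
def IsArc (n : ℕ) (p : ℕ → CosetVertex P₁ P₂) : Prop :=
  IsWalk n p ∧ ∀ i, i + 2 ≤ n → p i ≠ p (i + 2)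

/-- `g` fixes `p 0, …, p n` -/
def FixesUpTo (n : ℕ) (p : ℕ → CosetVertex P₁ P₂) (g : G) : Prop := ∀ i ≤ n, g • p i = p i

/-- the arc `p 0, …, p n` is extendable: some `g` fixes it and moves a neighbour of `p n` -/
def IsExt (n : ℕ) (p : ℕ → CosetVertex P₁ P₂) : Prop :=
  IsArc n p ∧ ∃ g : G, FixesUpTo n p g ∧ ∃ y, (cosetGraph P₁ P₂).Adj (p n) y ∧ g • y ≠ y

/-- `G` is transitive on the `n`-arcs whose last vertex has type `ty` (`ty = True`: β-type) -/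
def ArcTrans (P₁ P₂ : Subgroup G) (n : ℕ) (ty : Prop) : Prop :=
  ∀ p q : ℕ → CosetVertex P₁ P₂, IsArc n p → IsArc n q → (IsB (p n) ↔ ty) → (IsB (q n) ↔ ty) →
    ∃ g : G, ∀ i ≤ n, g • p i = q i

/-- the hypotheses of S2751 on one side (no condition on `C(O₂)`) -/
structure Loc0 (P T : Subgroup G) : Prop where
  fin : Finite ↥P
  le : T ≤ P
  syl : ∃ S : Sylow 2 ↥P, (S : Subgroup ↥P) = T.subgroupOf P
  quot : Nonempty (↥P ⧸ pCore 2 ↥P ≃* Equiv.Perm (Fin 3))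

theorem Loc0.of_locW {P T : Subgroup G} (h : LocW P T) : Loc0 P T := ⟨h.fin, h.le, h.syl, h.quot⟩

end Cfsg.Agent.Lib.Helper68.AmalB
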