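import Mathlib
import Cfsg.Prelude.Def_Amalgam
import Cfsg.Agent.Lib.Helper68.AmalBDefs
import Cfsg.Agent.Lib.Helper68.AmalDTools
import Cfsg.Agent.Lib.Helper68.AmalDOrb

/-!
# S2751, case (B) (helper68): small tools on `BaseW`, `BaseB`
-/

set_option autoImplicit false

namespace Cfsg.Agent.Lib.Helper68.AmalB

open Cfsg Cfsg.Agent.Lib.Helper12.Amal Cfsg.Agent.Lib.Helper68.AmalD Cfsg.Agent.Lib.Helper68.AmalW

variable {G : Type*} [Group G] {P₁ P₂ : Subgroup G}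

/-- `Q_x ≤ G_x` -/
theorem Q_le_G (hW : BaseW P₁ P₂) (x : CosetVertex P₁ P₂) : Qv x ≤ Gv x :=
  fun g hg => ((hW.Q_iff x g).1 hg).1

/-- `Q_x ≤ G_y` for `y ~ x` -/
theorem Q_le_G_adj (hW : BaseW P₁ P₂) {x y : CosetVertex P₁ P₂}
    (h : (cosetGraph P₁ P₂).Adj x y) : Qv x ≤ Gv y := by
  intro g hg
  exact MulAction.mem_stabilizer_iff.2 (((hW.Q_iff x g).1 hg).2 y h)

/-- `Q_x ≤ T_xy` -/
theorem Q_le_T (hW : BaseW P₁ P₂) {x y : CosetVertex P₁ P₂}
    (h : (cosetGraph P₁ P₂).Adj x y) : Qv x ≤ Gv x ⊓ Gv y :=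
  le_inf (Q_le_G hW x) (Q_le_G_adj hW h)

/-- `Q_y ≤ T_xy` -/
theorem Q_le_T' (hW : BaseW P₁ P₂) {x y : CosetVertex P₁ P₂}
    (h : (cosetGraph P₁ P₂).Adj x y) : Qv y ≤ Gv x ⊓ Gv y :=
  le_inf (Q_le_G_adj hW h.symm) (Q_le_G hW y)

/-- adjacency transported back along `g` -/
theorem adj_inv_smul (hW : BaseW P₁ P₂) (g : G) {y l : CosetVertex P₁ P₂}
    (h : (cosetGraph P₁ P₂).Adj (g • y) l) : (cosetGraph P₁ P₂).Adj y (g⁻¹ • l) := by
  have := hW.smul_adj g⁻¹ _ _ h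
  rwa [inv_smul_smul] at this

/-- `Q_x` is normal in `G_x` -/
theorem Q_conj (hW : BaseW P₁ P₂) {x : CosetVertex P₁ P₂} {g q : G} (hg : g ∈ Gv x)
    (hq : q ∈ Qv x) : g * q * g⁻¹ ∈ Qv x := by
  have hgx : g • x = x := MulAction.mem_stabilizer_iff.1 hg
  have h1 := hW.smul_Q g x
  rw [hgx] at h1
  rw [h1]
  exact conj_mem_map g hq

/-- `Z_x` is normal in `G_x` -/
theorem Z_conj (hW : BaseW P₁ P₂) {x : CosetVertex P₁ P₂} {g z : G} (hg : g ∈ Gv x)
    (hz : z ∈ Zv x) : g * z * g⁻¹ ∈ Zv x := by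
  have hgx : g • x = x := MulAction.mem_stabilizer_iff.1 hg
  have h1 := hW.smul_Z g x
  rw [hgx] at h1
  rw [h1]
  exact conj_mem_map g hz

/-- `G_x ≤ N(Q_x)` -/
theorem G_le_normalizer_Q (hW : BaseW P₁ P₂) (x : CosetVertex P₁ P₂) :
    Gv x ≤ Subgroup.normalizer ((Qv x : Subgroup G) : Set G) :=
  le_normalizer_of_forall (fun _ hg _ hq => Q_conj hW hg hq)

/-- `G_x ≤ N(Z_x)` -/
theorem G_le_normalizer_Z (hW : BaseW P₁ P₂) (x : CosetVertex P₁ P₂) :
    Gv x ≤ Subgroup.normalizer ((Zv x : Subgroup G) : Set G) :=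
  le_normalizer_of_forall (fun _ hg _ hz => Z_conj hW hg hz)

/-- elements of `Q_x` commute with elements of `Z_x` -/
theorem Q_comm_Z (hW : BaseW P₁ P₂) {x : CosetVertex P₁ P₂} {q z : G} (hq : q ∈ Qv x)
    (hz : z ∈ Zv x) : q * z = z * q :=
  (Subgroup.mem_centralizer_iff.1 (hW.Z_cent_Q x hz)) q hq

/-- `Z_x` is abelian -/
theorem Z_comm (hW : BaseW P₁ P₂) {x : CosetVertex P₁ P₂} {a b : G} (ha : a ∈ Zv x)
    (hb : b ∈ Zv x) : a * b = b * a :=
  Q_comm_Z hW (hW.Z_le_Q x ha) hb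

/-- `MinB` from `Below` -/
theorem minB_of_below {n : ℕ} (h : Below P₁ P₂ n) : MinB P₁ P₂ n := by
  intro x y hxy
  by_contra hlt
  exact hxy (h x y (not_le.1 hlt))

/-- `Z_x ≤ Q_y` for adjacent vertices when `b ≥ 2` -/
theorem MinB.adj {b : ℕ} (hmin : MinB P₁ P₂ b) (hb : 2 ≤ b) {x y : CosetVertex P₁ P₂}
    (h : (cosetGraph P₁ P₂).Adj x y) : Zv x ≤ Qv y := by
  apply hmin.le
  rw [SimpleGraph.dist_eq_one_iff_adj.2 h]
  omega

/-- `IsB` is invariant under the group -/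
theorem IsB_smul (hW : BaseW P₁ P₂) (g : G) (x : CosetVertex P₁ P₂) : IsB (g • x) ↔ IsB x := by
  unfold IsB
  rw [hW.smul_Z, hW.smul_G]
  constructor
  · intro h z hz
    rw [Subgroup.mem_centralizer_iff]
    intro a ha
    have h1 := h (conj_mem_map g hz)
    rw [Subgroup.mem_centralizer_iff] at h1
    have h2 := h1 (g * a * g⁻¹) (conj_mem_map g ha)
    have e1 : a * z = g⁻¹ * (g * a * g⁻¹ * (g * z * g⁻¹)) * g := by group
    have e2 : z * a = g⁻¹ * (g * z * g⁻¹ * (g * a * g⁻¹)) * g := by group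
    rw [e1, e2, h2]
  · intro h z hz
    rw [Subgroup.mem_centralizer_iff]
    intro a ha
    rw [mem_map_conj] at hz
    have ha' : g⁻¹ * a * g ∈ Gv x := by
      have : a ∈ (Gv x).map (MulAut.conj g).toMonoidHom := ha
      rwa [mem_map_conj] at this
    have h1 := h hz
    rw [Subgroup.mem_centralizer_iff] at h1
    have h2 := h1 _ ha'
    have e1 : a * z = g * (g⁻¹ * a * g * (g⁻¹ * z * g)) * g⁻¹ := by group
    have e2 : z * a = g * (g⁻¹ * z * g * (g⁻¹ * a * g)) * g⁻¹ := by group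
    rw [e1, e2, h2]

/-- `V_{g y} = g V_y g⁻¹` -/
theorem Vv_smul (hW : BaseW P₁ P₂) (g : G) (y : CosetVertex P₁ P₂) :
    Vv (g • y) = (Vv y).map (MulAut.conj g).toMonoidHom := by
  unfold Vv
  rw [Subgroup.map_iSup]
  apply le_antisymm
  · apply iSup₂_le
    intro x hx
    have hx' : (cosetGraph P₁ P₂).Adj y (g⁻¹ • x) := adj_inv_smul hW g hx
    have e : Zv x = (Zv (g⁻¹ • x)).map (MulAut.conj g).toMonoidHom := by
      rw [← hW.smul_Z, smul_inv_smul]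
    rw [e]
    refine le_trans ?_ (le_iSup _ (g⁻¹ • x))
    rw [Subgroup.map_iSup]
    exact le_iSup (fun _ : (g⁻¹ • x) ∈ (cosetGraph P₁ P₂).neighborSet y =>
      (Zv (g⁻¹ • x)).map (MulAut.conj g).toMonoidHom) hx'
  · apply iSup_le
    intro x
    rw [Subgroup.map_iSup]
    apply iSup_le
    intro hx
    rw [← hW.smul_Z]
    exact le_iSup₂ (f := fun (x : CosetVertex P₁ P₂)
      (_ : x ∈ (cosetGraph P₁ P₂).neighborSet (g • y)) => Zv x) (g • x) (hW.smul_adj g _ _ hx)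

/-- `Z_x ≤ V_y` for `x ~ y` -/
theorem Z_le_Vv {x y : CosetVertex P₁ P₂} (h : (cosetGraph P₁ P₂).Adj y x) : Zv x ≤ Vv y :=
  le_iSup₂ (f := fun (x : CosetVertex P₁ P₂)
      (_ : x ∈ (cosetGraph P₁ P₂).neighborSet y) => Zv x) x h

/-- `V_y ≤ K` as soon as all `Z_x`, `x ~ y`, lie in `K` -/
theorem Vv_le {y : CosetVertex P₁ P₂} {K : Subgroup G}
    (h : ∀ x, (cosetGraph P₁ P₂).Adj y x → Zv x ≤ K) : Vv y ≤ K :=
  iSup₂_le (fun x hx => h x hx)

/-- membership in `F2` -/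
theorem mem_F2 {x : CosetVertex P₁ P₂} {g : G} :
    g ∈ F2 x ↔ g ∈ Qv x ∧ ∀ y, (cosetGraph P₁ P₂).Adj x y → g ∈ Qv y := by
  unfold F2
  simp only [Subgroup.mem_inf, Subgroup.mem_iInf, SimpleGraph.mem_neighborSet]

/-- `F2 (g x) = g F2(x) g⁻¹` -/
theorem F2_smul (hW : BaseW P₁ P₂) (g : G) (x : CosetVertex P₁ P₂) :
    F2 (g • x) = (F2 x).map (MulAut.conj g).toMonoidHom := by
  ext t
  rw [mem_map_conj, mem_F2, mem_F2]
  constructor
  · rintro ⟨h1, h2⟩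
    refine ⟨?_, ?_⟩
    · rw [hW.smul_Q, mem_map_conj] at h1
      exact h1
    · intro l hl
      have := h2 (g • l) (hW.smul_adj g _ _ hl)
      rw [hW.smul_Q, mem_map_conj] at this
      exact this
  · rintro ⟨h1, h2⟩
    refine ⟨?_, ?_⟩
    · rw [hW.smul_Q, mem_map_conj]
      exact h1
    · intro l hl
      have := h2 (g⁻¹ • l) (adj_inv_smul hW g hl)
      have e : Qv l = (Qv (g⁻¹ • l)).map (MulAut.conj g).toMonoidHom := by
        rw [← hW.smul_Q, smul_inv_smul]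
      rw [e, mem_map_conj]
      exact this

/-- `Fb (g y) = g Fb(y) g⁻¹` -/
theorem Fb_smul (hW : BaseW P₁ P₂) (g : G) (y : CosetVertex P₁ P₂) :
    Fb (g • y) = (Fb y).map (MulAut.conj g).toMonoidHom := by
  unfold Fb
  rw [Subgroup.map_inf _ _ _ (MulAut.conj g).injective, hW.smul_Q, Vv_smul hW]
  congr 1
  ext t
  rw [mem_map_conj, Subgroup.mem_centralizer_iff, Subgroup.mem_centralizer_iff]
  constructor
  · intro h v hv
    have h1 := h (g * v * g⁻¹) (conj_mem_map g hv)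
    have e1 : v * (g⁻¹ * t * g) = g⁻¹ * (g * v * g⁻¹ * t) * g := by group
    have e2 : g⁻¹ * t * g * v = g⁻¹ * (t * (g * v * g⁻¹)) * g := by group
    rw [e1, e2, h1]
  · intro h v hv
    have hv' : g⁻¹ * v * g ∈ Vv y := by
      have : v ∈ (Vv y).map (MulAut.conj g).toMonoidHom := hv
      rwa [mem_map_conj] at this
    have h1 := h _ hv'
    have e1 : v * t = g * (g⁻¹ * v * g * (g⁻¹ * t * g)) * g⁻¹ := by group
    have e2 : t * v = g * (g⁻¹ * t * g * (g⁻¹ * v * g)) * g⁻¹ := by group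
    rw [e1, e2, h1]

/-- a walk does not increase distances -/
theorem dist_walk_le (hW : BaseW P₁ P₂) {n : ℕ} {p : ℕ → CosetVertex P₁ P₂} (hp : IsWalk n p)
    {i j : ℕ} (hij : i ≤ j) (hj : j ≤ n) : (cosetGraph P₁ P₂).dist (p i) (p j) ≤ j - i := by
  induction j with
  | zero =>
    have : i = 0 := by omega
    subst this
    simp
  | succ k ih =>
    rcases Nat.eq_or_lt_of_le hij with h | h
    · subst h
      simp
    · have h1 := ih (by omega) (by omega)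
      have h2 : (cosetGraph P₁ P₂).dist (p k) (p (k + 1)) = 1 :=
        SimpleGraph.dist_eq_one_iff_adj.2 (hp k (by omega))
      have h3 := hW.conn.dist_triangle (u := p i) (v := p k) (w := p (k + 1))
      omega

/-- the type alternates along a walk -/
theorem isB_walk (hB : BaseB P₁ P₂) {n : ℕ} {p : ℕ → CosetVertex P₁ P₂} (hp : IsWalk n p)
    {i : ℕ} (hi : i ≤ n) : IsB (p i) ↔ (IsB (p 0) ↔ Even i) := by
  induction i with
  | zero => simp
  | succ k ih =>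
    have h1 := ih (by omega)
    have h2 := hB.adj_type _ _ (hp k (by omega))
    rw [Nat.even_add_one]
    tauto

end Cfsg.Agent.Lib.Helper68.AmalB
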