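import Mathlib
import Cfsg.Prelude.Def_OddOrderLocal
import Cfsg.Agent.Lib.Helper24.ElemAb
import Cfsg.Agent.Lib.Helper24.ExtraSp
import Cfsg.Agent.Lib.Helper45.NormalEpp
import Cfsg.Agent.Lib.Helper49.RankOneCyclic
import Cfsg.Agent.Lib.Helper54.UqRank

/-!
# A `p`-group (`p` odd) of rank at least 3 with a maximal elementary abelian subgroup of order `p ^ 2`
is narrow (Bender–Glauberman Lemma 5.2, the direction needed for BG 10.8); `IsNarrow` is invariant
under isomorphism (helper68)
-/

set_option autoImplicit false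

namespace Cfsg.Agent.Lib.Helper68

open Cfsg

/-- BG Lemma 5.1/5.2: a finite `p`-group, `p` odd, of rank at least `3` that has a maximal elementary
abelian subgroup of order `p ^ 2` is narrow. -/
theorem isNarrow_of_maxElemAb {P : Type*} [Group P] [Finite P] (p : ℕ) [hp : Fact p.Prime]
    (hp2 : p ≠ 2) (hP : IsPGroup p P) (hr : ¬ Cfsg.PRankLE p 2 P) (A : Subgroup P)
    (hA : Cfsg.IsElementaryAbelian p A) (hAcard : Nat.card A = p ^ 2)
    (hmax : ∀ B : Subgroup P, Cfsg.IsElementaryAbelian p B → A ≤ B → B = A) :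
    Cfsg.IsNarrow p P := by
  have hpp : p.Prime := hp.out
  have hplt : p < p ^ 2 := by
    calc p = p ^ 1 := (pow_one p).symm
      _ < p ^ 2 := Nat.pow_lt_pow_right hpp.one_lt (by norm_num)
  -- maximality in element form
  have hM : ∀ y : P, y ^ p = 1 → y ∈ Subgroup.centralizer (A : Set P) → y ∈ A := by
    intro y hy hyc
    obtain ⟨hc, he⟩ := Cfsg.Agent.Lib.Helper24.elemAb_adjoin p A hA.1 hA.2 y hyc hy
    have h1 := hmax _ ⟨hc, he⟩ (Cfsg.Agent.Lib.Helper24.le_adjoin A y)
    rw [← h1]
    exact Cfsg.Agent.Lib.Helper24.mem_adjoin A y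
  have hr' := hr
  unfold Cfsg.PRankLE at hr'
  push Not at hr'
  obtain ⟨B₀, hB₀c, hB₀e, hB₀card⟩ := hr'
  obtain ⟨U, hUn, hUe, hUcard⟩ :=
    Cfsg.Agent.Lib.Helper45.exists_normal_elementaryAbelian_sq hP B₀ hB₀c hB₀e hB₀card
  have hTn : (Subgroup.centralizer (U : Set P)).Normal := Subgroup.normal_centralizer
  have hTidx : (Subgroup.centralizer (U : Set P)).index ∣ p :=
    Cfsg.Agent.Lib.Helper24.index_centralizer_dvd_prime hP U hUcard
  generalize hT : Subgroup.centralizer (U : Set P) = T at hTn hTidx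
  -- `A` does not centralize `U`
  have hAT : ¬ A ≤ T := by
    intro hle
    have hUA : U ≤ A := by
      intro u hu
      apply hM u (hUe.2 u hu)
      rw [Subgroup.mem_centralizer_iff]
      intro a ha
      have h1 := hle ha
      rw [← hT, Subgroup.mem_centralizer_iff] at h1
      exact (h1 u hu).symm
    have hUA' : U = A := Subgroup.eq_of_le_of_card_ge hUA (by rw [hUcard, hAcard])
    have h1 : B₀ ⊓ T ≤ A := by
      rintro b ⟨hb, hbT⟩
      apply hM b (hB₀e b hb)
      rw [← hUA', hT]
      exact hbT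
    have h2 : Nat.card B₀ ≤ p * Nat.card ↥(B₀ ⊓ T) := by
      have h3 := Subgroup.card_mul_index (T.subgroupOf B₀)
      have h4 : (T.subgroupOf B₀).index ∣ p :=
        (Subgroup.relIndex_dvd_index_of_normal T B₀).trans hTidx
      have h5 : (T.subgroupOf B₀).index ≤ p := Nat.le_of_dvd hpp.pos h4
      have h6 : Nat.card (T.subgroupOf B₀) = Nat.card ↥(B₀ ⊓ T) := by
        rw [inf_comm]
        exact Cfsg.Agent.Lib.Helper24.card_subgroupOf_eq_card_inf T B₀
      rw [← h3, h6, mul_comm]
      exact Nat.mul_le_mul_right _ h5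
    have h3 : p ^ 3 ≤ Nat.card B₀ := by
      obtain ⟨k, hk⟩ := (hP.to_subgroup B₀).exists_card_eq
      rw [hk] at hB₀card ⊢
      apply Nat.pow_le_pow_right hpp.pos
      by_contra hcon
      have h4 : k ≤ 2 := by omega
      have := Nat.pow_le_pow_right hpp.pos h4
      omega
    have h4 : B₀ ⊓ T = A := by
      apply Subgroup.eq_of_le_of_card_ge h1
      rw [hAcard]
      have h5 : p ^ 3 = p * p ^ 2 := by ring
      rw [h5] at h3
      exact Nat.le_of_mul_le_mul_left (h3.trans h2) hpp.pos
    have h5 : A ≤ B₀ := h4 ▸ inf_le_left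
    have h6 := hmax B₀ ⟨hB₀c, hB₀e⟩ h5
    rw [h6, hAcard] at hB₀card
    exact lt_irrefl _ hB₀card
  obtain ⟨x, hxA, hxT⟩ := SetLike.not_le_iff_exists.mp hAT
  have hx1 : x ≠ 1 := fun h => hxT (h ▸ T.one_mem)
  have hxp : x ^ p = 1 := hA.2 x hxA
  have hxo : orderOf x = p := orderOf_eq_prime hxp hx1
  have hR₀card : Nat.card (Subgroup.zpowers x) = p := by rw [Nat.card_zpowers, hxo]
  have hR₀A : Subgroup.zpowers x ≤ A := Subgroup.zpowers_le.mpr hxA
  -- `⟨x⟩ ∩ T = 1`
  have hR₀T : Subgroup.zpowers x ⊓ T = ⊥ := by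
    have h1 : Nat.card ↥(Subgroup.zpowers x ⊓ T) ∣ p := by
      rw [← hR₀card]
      exact Subgroup.card_dvd_of_le inf_le_left
    rcases (Nat.dvd_prime hpp).mp h1 with h | h
    · exact Subgroup.eq_bot_of_card_eq _ h
    · exfalso
      have h2 : Subgroup.zpowers x ⊓ T = Subgroup.zpowers x :=
        Subgroup.eq_of_le_of_card_ge inf_le_left (by rw [h, hR₀card])
      apply hxT
      have h3 : x ∈ Subgroup.zpowers x ⊓ T := by
        rw [h2]
        exact Subgroup.mem_zpowers x
      exact h3.2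
  -- a central element of order `p`
  have htop : (⊤ : Subgroup P) ≠ ⊥ := by
    intro h
    apply hx1
    have : x ∈ (⊤ : Subgroup P) := Subgroup.mem_top x
    rw [h] at this
    exact Subgroup.mem_bot.mp this
  obtain ⟨z, -, hzc, hzo⟩ := Cfsg.Agent.Lib.Helper45.exists_central_orderOf_eq hP ⊤ htop
  have hzp : z ^ p = 1 := by rw [← hzo]; exact pow_orderOf_eq_one z
  have hz1 : z ≠ 1 := by
    intro h
    rw [h, orderOf_one] at hzo
    exact hpp.one_lt.ne hzo
  have hzA : z ∈ A := hM z hzp (Subgroup.center_le_centralizer _ hzc)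
  have hzT : z ∈ T := by
    rw [← hT]
    exact Subgroup.center_le_centralizer _ hzc
  have hzR₀ : z ∉ Subgroup.zpowers x := by
    intro h
    have h1 : z ∈ Subgroup.zpowers x ⊓ T := ⟨h, hzT⟩
    rw [hR₀T] at h1
    exact hz1 (Subgroup.mem_bot.mp h1)
  -- `A` is generated by `x` and `z`
  have hAgen : ∀ K : Subgroup P, x ∈ K → z ∈ K → A ≤ K := by
    intro K hxK hzK
    have h1 : Subgroup.zpowers x ≤ A ⊓ K := le_inf hR₀A (Subgroup.zpowers_le.mpr hxK)
    have h2 : p < Nat.card ↥(A ⊓ K) := by
      by_contra hcon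
      have h3 : Subgroup.zpowers x = A ⊓ K :=
        Subgroup.eq_of_le_of_card_ge h1 (by rw [hR₀card]; omega)
      apply hzR₀
      rw [h3]
      exact ⟨hzA, hzK⟩
    have h3 : Nat.card ↥(A ⊓ K) ∣ p ^ 2 := by
      rw [← hAcard]
      exact Subgroup.card_dvd_of_le inf_le_left
    obtain ⟨j, hj, hj'⟩ := (Nat.dvd_prime_pow hpp).mp h3
    have hj2 : j = 2 := by
      by_contra hcon
      have h4 : j ≤ 1 := by omega
      have := Nat.pow_le_pow_right hpp.pos h4
      rw [pow_one] at this
      omega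
    have h4 : A ⊓ K = A := Subgroup.eq_of_le_of_card_ge inf_le_left (by rw [hj', hj2, hAcard])
    rw [← h4]
    exact inf_le_right
  -- `|A ∩ T| ≤ p`
  have hATcard : Nat.card ↥(A ⊓ T) ≤ p := by
    have h3 : Nat.card ↥(A ⊓ T) ∣ p ^ 2 := by
      rw [← hAcard]
      exact Subgroup.card_dvd_of_le inf_le_left
    obtain ⟨j, hj, hj'⟩ := (Nat.dvd_prime_pow hpp).mp h3
    have hj2 : j ≠ 2 := by
      intro hj2
      apply hAT
      have h4 : A ⊓ T = A := Subgroup.eq_of_le_of_card_ge inf_le_left (by rw [hj', hj2, hAcard])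
      rw [← h4]
      exact inf_le_right
    have h4 : j ≤ 1 := by omega
    have := Nat.pow_le_pow_right hpp.pos h4
    rw [pow_one] at this
    omega
  -- `T ⊔ ⟨x⟩ = ⊤`
  have hTx : Subgroup.zpowers x ⊔ T = ⊤ := by
    have h1 : (Subgroup.zpowers x ⊔ T).index ∣ p := (Subgroup.index_dvd_of_le le_sup_right).trans hTidx
    rcases (Nat.dvd_prime hpp).mp h1 with h | h
    · exact Subgroup.index_eq_one.mp h
    · exfalso
      have h2 : T.index = p := by
        rcases (Nat.dvd_prime hpp).mp hTidx with h' | h'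
        · exfalso
          apply hxT
          rw [Subgroup.index_eq_one.mp h']
          exact Subgroup.mem_top x
        · exact h'
      have h3 := Subgroup.card_mul_index T
      have h4 := Subgroup.card_mul_index (Subgroup.zpowers x ⊔ T)
      rw [h2] at h3
      rw [h] at h4
      have h5 : Nat.card T = Nat.card ↥(Subgroup.zpowers x ⊔ T) :=
        Nat.eq_of_mul_eq_mul_right hpp.pos (h3.trans h4.symm)
      have h6 : T = Subgroup.zpowers x ⊔ T := Subgroup.eq_of_le_of_card_ge le_sup_right h5.ge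
      apply hxT
      rw [h6]
      exact le_sup_left (a := Subgroup.zpowers x) (Subgroup.mem_zpowers x)
  have hR₀comm : Subgroup.zpowers x ≤ Subgroup.centralizer ((Subgroup.zpowers x : Subgroup P) : Set P) :=
    Subgroup.le_centralizer_iff_isMulCommutative.mpr inferInstance
  right
  refine ⟨Subgroup.zpowers x, T ⊓ Subgroup.centralizer ((Subgroup.zpowers x : Subgroup P) : Set P),
    hR₀card, ?_, ?_, ?_, ?_⟩
  · -- cyclic
    apply Cfsg.Agent.Lib.Helper49.isCyclic_of_pRankLE_one hp2 (hP.to_subgroup _)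
    intro D hDc hDe
    rw [pow_one]
    have h1 : D.map (Subgroup.subtype _) ≤ A ⊓ T := by
      rintro _ ⟨d, hd, rfl⟩
      have hdp : (d : P) ^ p = 1 := by
        have := hDe d hd
        have h2 := congrArg Subtype.val this
        simpa using h2
      have hdT : (d : P) ∈ T := d.2.1
      have hdx : (d : P) ∈ Subgroup.centralizer ((Subgroup.zpowers x : Subgroup P) : Set P) := d.2.2
      refine ⟨?_, hdT⟩
      apply hM _ hdp
      have h3 : A ≤ Subgroup.centralizer ({(d : P)} : Set P) := by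
        apply hAgen
        · rw [Subgroup.mem_centralizer_iff]
          intro y hy
          rw [Set.mem_singleton_iff] at hy
          subst hy
          exact (Subgroup.mem_centralizer_iff.mp hdx x (Subgroup.mem_zpowers x)).symm
        · exact Subgroup.center_le_centralizer _ hzc
      rw [Subgroup.mem_centralizer_iff]
      intro a ha
      exact (Subgroup.mem_centralizer_iff.mp (h3 ha) _ rfl).symm
    have h2 := Subgroup.card_le_of_le h1
    rw [Subgroup.card_map_of_injective (Subgroup.subtype_injective _)] at h2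
    exact h2.trans hATcard
  · rw [← inf_assoc, hR₀T, bot_inf_eq]
  · intro a ha b hb
    exact Subgroup.mem_centralizer_iff.mp hb.2 a ha
  · apply le_antisymm
    · exact sup_le hR₀comm inf_le_right
    · intro g hg
      have h1 : g ∈ ((Subgroup.zpowers x ⊔ T : Subgroup P) : Set P) := by
        rw [hTx]
        exact Subgroup.mem_top g
      rw [Subgroup.mul_normal] at h1
      obtain ⟨a, ha, t, ht, rfl⟩ := h1
      have h2 : t ∈ Subgroup.centralizer ((Subgroup.zpowers x : Subgroup P) : Set P) := by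
        have h3 : a⁻¹ * (a * t) ∈ Subgroup.centralizer ((Subgroup.zpowers x : Subgroup P) : Set P) :=
          Subgroup.mul_mem _ (Subgroup.inv_mem _ (hR₀comm ha)) hg
        simpa using h3
      exact Subgroup.mul_mem _ (Subgroup.mem_sup_left ha) (Subgroup.mem_sup_right ⟨ht, h2⟩)

/-- `IsNarrow` is invariant under isomorphism. -/
theorem isNarrow_of_mulEquiv {R R' : Type*} [Group R] [Group R'] (p : ℕ) (e : R ≃* R')
    (h : Cfsg.IsNarrow p R) : Cfsg.IsNarrow p R' := by
  rcases h with h | ⟨R₀, R₁, hR₀, hR₁, hdisj, hcomm, hsup⟩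
  · exact Or.inl (Cfsg.Agent.Lib.Helper54.pRankLE_of_mulEquiv e.symm h)
  right
  have hinj : Function.Injective (e.toMonoidHom) := e.injective
  refine ⟨R₀.map e.toMonoidHom, R₁.map e.toMonoidHom, ?_, ?_, ?_, ?_, ?_⟩
  · rw [Subgroup.card_map_of_injective hinj, hR₀]
  · exact isCyclic_of_surjective (R₁.equivMapOfInjective e.toMonoidHom hinj)
      (R₁.equivMapOfInjective e.toMonoidHom hinj).surjective
  · rw [← Subgroup.map_inf _ _ _ hinj, hdisj, Subgroup.map_bot]
  · rintro _ ⟨a, ha, rfl⟩ _ ⟨b, hb, rfl⟩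
    rw [← map_mul, ← map_mul, hcomm a ha b hb]
  · rw [← Subgroup.map_sup, hsup]
    ext y
    constructor
    · rintro ⟨g, hg, rfl⟩
      rw [Subgroup.mem_centralizer_iff]
      rintro _ ⟨h, hh, rfl⟩
      have := Subgroup.mem_centralizer_iff.mp hg h hh
      rw [← map_mul, ← map_mul, this]
    · intro hy
      refine ⟨e.symm y, ?_, by simp⟩
      show e.symm y ∈ Subgroup.centralizer (R₀ : Set R)
      rw [Subgroup.mem_centralizer_iff]
      intro h hh
      have h1 := Subgroup.mem_centralizer_iff.mp hy (e.toMonoidHom h) ⟨h, hh, rfl⟩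
      apply e.injective
      rw [map_mul, map_mul, MulEquiv.apply_symm_apply]
      exact h1

end Cfsg.Agent.Lib.Helper68
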