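import Mathlib
import Cfsg.Prelude.Def_OddOrderLocal
import Cfsg.Agent.Lib.Helper9.PGroupLemmas
import Cfsg.Agent.Lib.Helper54.Bender
import Cfsg.Agent.Lib.Helper54.UqRank
import Cfsg.Agent.Lib.Helper45.RankTools
import Cfsg.Agent.Lib.Helper68.NarrowMax

/-!
# General lemmas for the assembly of Bender–Glauberman Theorem 11.5 (`M_σ A ⊴ M`)

* `omegaCenter Y q = Ω₁(Z(Y))` (elements of `Y ∩ C(Y)` of order dividing `q`);
* a `p`-group acting on a coset `bW` with `p ∤ |W|` has a fixed point;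
* a `q`-group containing a subgroup of order `q ^ 2` that is maximal elementary abelian in `G` is narrow;
* arithmetic on `#GL₂(p)`.
-/

set_option autoImplicit false

namespace Cfsg.Agent.Lib.Helper68

open Cfsg

variable {G : Type*} [Group G]

/-- `Ω₁(Z(Y))` as a subgroup of `G`. -/
def omegaCenter (Y : Subgroup G) (q : ℕ) : Subgroup G where
  carrier := {z | z ∈ Y ∧ z ∈ Subgroup.centralizer (Y : Set G) ∧ z ^ q = 1}
  one_mem' := ⟨Subgroup.one_mem _, Subgroup.one_mem _, one_pow q⟩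
  mul_mem' := by
    rintro a b ⟨ha1, ha2, ha3⟩ ⟨hb1, hb2, hb3⟩
    refine ⟨Subgroup.mul_mem _ ha1 hb1, Subgroup.mul_mem _ ha2 hb2, ?_⟩
    have hc : Commute a b := Subgroup.mem_centralizer_iff.mp hb2 a ha1
    rw [hc.mul_pow, ha3, hb3, one_mul]
  inv_mem' := by
    rintro a ⟨ha1, ha2, ha3⟩
    exact ⟨Subgroup.inv_mem _ ha1, Subgroup.inv_mem _ ha2, by rw [inv_pow, ha3, inv_one]⟩

theorem mem_omegaCenter {Y : Subgroup G} {q : ℕ} {z : G} :
    z ∈ omegaCenter Y q ↔ z ∈ Y ∧ z ∈ Subgroup.centralizer (Y : Set G) ∧ z ^ q = 1 := Iff.rfl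

theorem omegaCenter_le (Y : Subgroup G) (q : ℕ) : omegaCenter Y q ≤ Y := fun _ hz => hz.1

theorem omegaCenter_le_centralizer (Y : Subgroup G) (q : ℕ) :
    omegaCenter Y q ≤ Subgroup.centralizer (Y : Set G) := fun _ hz => hz.2.1

theorem omegaCenter_comm (Y : Subgroup G) (q : ℕ) :
    ∀ x ∈ omegaCenter Y q, ∀ y ∈ omegaCenter Y q, x * y = y * x := fun _ hx _ hy =>
  (Subgroup.mem_centralizer_iff.mp hx.2.1 _ hy.1).symm

theorem omegaCenter_pow (Y : Subgroup G) (q : ℕ) : ∀ x ∈ omegaCenter Y q, x ^ q = 1 :=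
  fun _ hx => hx.2.2

theorem omegaCenter_isElementaryAbelian (Y : Subgroup G) (q : ℕ) :
    IsElementaryAbelian q (omegaCenter Y q) := by
  refine ⟨isMulCommutative_iff.mpr ?_, omegaCenter_pow Y q⟩
  rintro ⟨a, ha⟩ ⟨b, hb⟩
  exact Subtype.ext (omegaCenter_comm Y q a ha b hb)

theorem omegaCenter_isPGroup (Y : Subgroup G) (q : ℕ) [Fact q.Prime] :
    IsPGroup q (omegaCenter Y q) := by
  rintro ⟨z, hz⟩
  refine ⟨1, ?_⟩
  apply Subtype.ext
  rw [pow_one, Subgroup.coe_pow, Subgroup.coe_one]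
  exact hz.2.2

/-- `N_G(Y)` normalizes `Ω₁(Z(Y))`. -/
theorem normalizer_le_normalizer_omegaCenter (Y : Subgroup G) (q : ℕ) :
    Subgroup.normalizer (Y : Set G) ≤ Subgroup.normalizer (omegaCenter Y q : Set G) := by
  apply Cfsg.Agent.Lib.Helper54.le_normalizer_of_conj_mem
  rintro h hh z ⟨hz1, hz2, hz3⟩
  refine ⟨(Subgroup.mem_normalizer_iff.mp hh z).mp hz1, ?_, ?_⟩
  · rw [Subgroup.mem_centralizer_iff]
    intro f hf
    have h1 : h⁻¹ * f * h⁻¹⁻¹ ∈ Y :=
      (Subgroup.mem_normalizer_iff.mp ((Subgroup.normalizer _).inv_mem hh) f).mp hf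
    have h2 := Subgroup.mem_centralizer_iff.mp hz2 _ h1
    have e1 : f * (h * z * h⁻¹) = h * ((h⁻¹ * f * h⁻¹⁻¹) * z) * h⁻¹ := by group
    have e2 : h * z * h⁻¹ * f = h * (z * (h⁻¹ * f * h⁻¹⁻¹)) * h⁻¹ := by group
    rw [e1, e2, h2]
  · rw [conj_pow, hz3, mul_one, mul_inv_cancel]

/-- For an abelian `Y`, `Ω₁(Z(Y)) = Ω₁(Y)`. -/
theorem mem_omegaCenter_of_comm {Y : Subgroup G} {q : ℕ}
    (hY : ∀ x ∈ Y, ∀ y ∈ Y, x * y = y * x) {z : G} (hz : z ∈ Y) (hzq : z ^ q = 1) :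
    z ∈ omegaCenter Y q := by
  refine ⟨hz, ?_, hzq⟩
  rw [Subgroup.mem_centralizer_iff]
  intro y hy
  exact hY y hy z hz

/-- `Ω₁(Z(Y)) ≠ 1` for a nontrivial finite `q`-group `Y`. -/
theorem omegaCenter_ne_bot [Finite G] (Y : Subgroup G) (q : ℕ) [Fact q.Prime] (hY : IsPGroup q Y)
    (hY1 : Y ≠ ⊥) : omegaCenter Y q ≠ ⊥ := by
  have hq : q.Prime := Fact.out
  have : Nontrivial Y := (Subgroup.nontrivial_iff_ne_bot Y).mpr hY1
  have hc : Nontrivial (Subgroup.center Y) := hY.center_nontrivial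
  have hcp : IsPGroup q (Subgroup.center Y) := hY.to_subgroup _
  obtain ⟨n, hn0, hn⟩ := hcp.nontrivial_iff_card.mp hc
  have hdvd : q ∣ Nat.card (Subgroup.center Y) := by rw [hn]; exact dvd_pow_self q hn0.ne'
  obtain ⟨z, hz⟩ := exists_prime_orderOf_dvd_card' q hdvd
  intro hbot
  have hzmem : ((z : Y) : G) ∈ omegaCenter Y q := by
    refine ⟨(z : Y).2, ?_, ?_⟩
    · rw [Subgroup.mem_centralizer_iff]
      intro y hy
      have h1 := Subgroup.mem_center_iff.mp z.2 ⟨y, hy⟩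
      exact congrArg Subtype.val h1
    · have h1 : z ^ q = 1 := by rw [← hz]; exact pow_orderOf_eq_one z
      have h2 := congrArg (fun t : Subgroup.center Y => ((t : Y) : G)) h1
      simpa using h2
  rw [hbot, Subgroup.mem_bot] at hzmem
  have hz1 : z = 1 := by
    apply Subtype.ext
    apply Subtype.ext
    simpa using hzmem
  rw [hz1, orderOf_one] at hz
  exact hq.one_lt.ne hz

/-! ### Fixed points on a coset -/

open scoped Pointwise in
/-- A `p`-group `A` normalizing `W` (`p ∤ |W|`) and mapping the coset `bW` to itself by conjugation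
fixes a point of `bW`. -/
theorem exists_fixed_in_coset [Finite G] (p : ℕ) [Fact p.Prime] (A W : Subgroup G)
    (hA : IsPGroup p A)
    (hW : ¬ p ∣ Nat.card W) (hAW : A ≤ Subgroup.normalizer (W : Set G)) (b : G)
    (hb : ∀ a ∈ A, b⁻¹ * (a * b * a⁻¹) ∈ W) :
    ∃ w ∈ W, ∀ a ∈ A, a * (b * w) = (b * w) * a := by
  classical
  -- the action of `A` on `W`: `a • w = (b⁻¹ a b a⁻¹) (a w a⁻¹)`
  have hmem : ∀ a ∈ A, ∀ w ∈ W, b⁻¹ * (a * (b * w) * a⁻¹) ∈ W := by
    intro a ha w hw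
    have h1 := hb a ha
    have h2 : a * w * a⁻¹ ∈ W := (Subgroup.mem_normalizer_iff.mp (hAW ha) w).mp hw
    have e : b⁻¹ * (a * (b * w) * a⁻¹) = (b⁻¹ * (a * b * a⁻¹)) * (a * w * a⁻¹) := by group
    rw [e]
    exact W.mul_mem h1 h2
  let act : MulAction A W :=
    { smul := fun a w => ⟨b⁻¹ * ((a : G) * (b * (w : G)) * (a : G)⁻¹), hmem a a.2 w w.2⟩
      one_smul := by
        intro w
        apply Subtype.ext
        show b⁻¹ * (((1 : A) : G) * (b * (w : G)) * ((1 : A) : G)⁻¹) = w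
        simp
      mul_smul := by
        intro a₁ a₂ w
        apply Subtype.ext
        show b⁻¹ * (((a₁ * a₂ : A) : G) * (b * (w : G)) * ((a₁ * a₂ : A) : G)⁻¹) =
          b⁻¹ * ((a₁ : G) * (b * (b⁻¹ * ((a₂ : G) * (b * (w : G)) * (a₂ : G)⁻¹))) * (a₁ : G)⁻¹)
        rw [Subgroup.coe_mul]
        group }
  have hne : (MulAction.fixedPoints A W).Nonempty :=
    hA.nonempty_fixed_point_of_prime_not_dvd_card W hW
  obtain ⟨w, hw⟩ := hne
  refine ⟨w, w.2, ?_⟩
  intro a ha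
  have h1 := hw ⟨a, ha⟩
  have h2 : b⁻¹ * (a * (b * (w : G)) * a⁻¹) = w := congrArg Subtype.val h1
  have h3 : a * (b * (w : G)) * a⁻¹ = b * w := by
    calc a * (b * (w : G)) * a⁻¹ = b * (b⁻¹ * (a * (b * (w : G)) * a⁻¹)) := by group
      _ = b * w := by rw [h2]
  calc a * (b * (w : G)) = (a * (b * (w : G)) * a⁻¹) * a := by group
    _ = (b * w) * a := by rw [h3]

/-! ### Narrowness from a maximal elementary abelian subgroup of order `q ^ 2` -/

/-- A `q`-subgroup `Q` of `G` (`q` odd) containing a subgroup `B` of order `q ^ 2` which is maximal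
among the elementary abelian `q`-subgroups of `G` is narrow. -/
theorem isNarrow_of_le_of_maxElemAb [Finite G] (q : ℕ) [Fact q.Prime] (hq2 : q ≠ 2)
    (Q B : Subgroup G) (hQ : IsPGroup q Q) (hBQ : B ≤ Q) (hBel : IsElementaryAbelian q B)
    (hBcard : Nat.card B = q ^ 2)
    (hBmax : ∀ B' : Subgroup G, IsElementaryAbelian q B' → B ≤ B' → B' = B) :
    IsNarrow q ↥Q := by
  by_cases hr : PRankLE q 2 ↥Q
  · exact Or.inl hr
  have hinj : Function.Injective Q.subtype := Q.subtype_injective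
  have hBc : ∀ x ∈ B, ∀ y ∈ B, x * y = y * x := fun x hx y hy =>
    Cfsg.Agent.Lib.Helper45.IsElementaryAbelian_comm hBel hx hy
  refine isNarrow_of_maxElemAb q hq2 hQ hr (B.subgroupOf Q) ?_ ?_ ?_
  · refine ⟨isMulCommutative_iff.mpr ?_, ?_⟩
    · rintro ⟨x, hx⟩ ⟨y, hy⟩
      apply Subtype.ext
      apply Subtype.ext
      exact hBc _ (Subgroup.mem_subgroupOf.mp hx) _ (Subgroup.mem_subgroupOf.mp hy)
    · intro x hx
      apply Subtype.ext
      rw [Subgroup.coe_pow, Subgroup.coe_one]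
      exact hBel.2 _ (Subgroup.mem_subgroupOf.mp hx)
  · rw [← hBcard]
    exact Nat.card_congr (Subgroup.subgroupOfEquivOfLe hBQ).toEquiv
  · intro B' hB' hle
    have h1 : IsElementaryAbelian q (B'.map Q.subtype) := by
      refine ⟨isMulCommutative_iff.mpr ?_, ?_⟩
      · rintro ⟨_, ⟨x, hx, rfl⟩⟩ ⟨_, ⟨y, hy, rfl⟩⟩
        apply Subtype.ext
        have h2 : (⟨x, hx⟩ : B') * ⟨y, hy⟩ = ⟨y, hy⟩ * ⟨x, hx⟩ := hB'.1.is_comm.comm _ _
        have h3 : x * y = y * x := congrArg Subtype.val h2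
        show Q.subtype x * Q.subtype y = Q.subtype y * Q.subtype x
        rw [← map_mul, ← map_mul, h3]
      · rintro _ ⟨x, hx, rfl⟩
        rw [← map_pow, hB'.2 x hx, map_one]
    have h2 : B ≤ B'.map Q.subtype := by
      intro x hx
      exact ⟨⟨x, hBQ hx⟩, hle (Subgroup.mem_subgroupOf.mpr hx), rfl⟩
    have h3 := hBmax _ h1 h2
    apply le_antisymm _ hle
    intro x hx
    rw [Subgroup.mem_subgroupOf, ← h3]
    exact ⟨x, hx, rfl⟩

/-! ### Arithmetic on `#GL₂(p)` -/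

/-- If `p + 2 ≤ q` with `q` prime, every power of `q` is prime to `#GL₂(p) = (p²-1)(p²-p)`. -/
theorem coprime_card_GL2_of_lt {p q : ℕ} (hp : p.Prime) (hq : q.Prime) (hpq : p + 2 ≤ q) (k : ℕ) :
    (q ^ k).Coprime ((p ^ 2 - 1) * (p ^ 2 - p)) := by
  apply Nat.Coprime.pow_left
  rw [Nat.Prime.coprime_iff_not_dvd hq]
  intro hd
  have hp1 : 1 ≤ p := hp.one_lt.le
  have e1 : p ^ 2 - 1 = (p - 1) * (p + 1) := by
    obtain ⟨m, rfl⟩ : ∃ m, p = m + 1 := ⟨p - 1, by omega⟩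
    simp only [Nat.add_sub_cancel]
    have : (m + 1) ^ 2 = m * (m + 1 + 1) + 1 := by ring
    rw [this, Nat.add_sub_cancel]
  have e2 : p ^ 2 - p = p * (p - 1) := by
    rw [Nat.mul_sub, mul_one, sq]
  rw [e1, e2] at hd
  have hle : ∀ m : ℕ, 0 < m → m < q → ¬ q ∣ m := fun m hm hmq h => by
    have := Nat.le_of_dvd hm h
    omega
  rcases (Nat.Prime.dvd_mul hq).mp hd with h | h
  · rcases (Nat.Prime.dvd_mul hq).mp h with h | h
    · rcases Nat.eq_zero_or_pos (p - 1) with h0 | h0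
      · have := hp.one_lt; omega
      · exact hle _ h0 (by omega) h
    · exact hle _ (by omega) (by omega) h
  · rcases (Nat.Prime.dvd_mul hq).mp h with h | h
    · exact hle _ (by omega) (by omega) h
    · rcases Nat.eq_zero_or_pos (p - 1) with h0 | h0
      · have := hp.one_lt; omega
      · exact hle _ h0 (by omega) h

/-- If the odd prime `p ≠ q` is not prime to `#GL₂(q)` (`q` an odd prime) then `p + 2 ≤ q`. -/
theorem add_two_le_of_not_coprime_card_GL2 {p q : ℕ} (hp : p.Prime) (hq : q.Prime)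
    (hp2 : p ≠ 2) (hq2 : q ≠ 2) (hpq : p ≠ q)
    (h : ¬ p.Coprime ((q ^ 2 - 1) * (q ^ 2 - q))) : p + 2 ≤ q := by
  rw [Nat.Prime.coprime_iff_not_dvd hp, not_not] at h
  have hq1 : 1 ≤ q := hq.one_lt.le
  have e1 : q ^ 2 - 1 = (q - 1) * (q + 1) := by
    obtain ⟨m, rfl⟩ : ∃ m, q = m + 1 := ⟨q - 1, by omega⟩
    simp only [Nat.add_sub_cancel]
    have : (m + 1) ^ 2 = m * (m + 1 + 1) + 1 := by ring
    rw [this, Nat.add_sub_cancel]
  have e2 : q ^ 2 - q = q * (q - 1) := by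
    rw [Nat.mul_sub, mul_one, sq]
  rw [e1, e2] at h
  have hpodd : Odd p := hp.odd_of_ne_two hp2
  have hqodd : Odd q := hq.odd_of_ne_two hq2
  have hq1pos : 0 < q - 1 := by have := hq.two_le; omega
  -- `p ∣ q - 1` or `p ∣ q + 1`
  have hcases : p ∣ q - 1 ∨ p ∣ q + 1 := by
    rcases (Nat.Prime.dvd_mul hp).mp h with h | h
    · exact (Nat.Prime.dvd_mul hp).mp h
    · rcases (Nat.Prime.dvd_mul hp).mp h with h | h
      · exact absurd ((Nat.prime_dvd_prime_iff_eq hp hq).mp h) hpq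
      · exact Or.inl h
  obtain ⟨a, ha⟩ := hpodd
  obtain ⟨c, hc⟩ := hqodd
  rcases hcases with h | h
  · have h1 := Nat.le_of_dvd hq1pos h
    -- p ≤ q - 1, p, q odd so p ≠ q - 1
    omega
  · -- p ∣ q + 1 = 2 (c + 1)
    have h1 : p ∣ 2 * (c + 1) := by
      have : q + 1 = 2 * (c + 1) := by omega
      rwa [this] at h
    rcases (Nat.Prime.dvd_mul hp).mp h1 with h2 | h2
    · have := Nat.le_of_dvd (by norm_num) h2
      have := hp.two_le
      omega
    · have h3 := Nat.le_of_dvd (by omega) h2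
      have := hp.two_le
      omega

end Cfsg.Agent.Lib.Helper68
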