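import Mathlib
import Cfsg.Prelude.Def_OddOrderLocal
import Cfsg.Agent.S1394
import Cfsg.Agent.S1395
import Cfsg.Agent.S1396
import Cfsg.Agent.Lib.Helper9.Subnormal2
import Cfsg.Agent.Lib.Helper24.RankTwo
import Cfsg.Agent.Lib.Helper24.RankTwoPrelude
import Cfsg.Agent.Lib.Helper54.Transitivity
import Cfsg.Agent.Lib.Helper54.UqEight
import Cfsg.Agent.Lib.Helper67.NarrowApply
import Cfsg.Agent.Lib.Helper68.NarrowMax

/-!
# Bender–Glauberman Proposition 10.11 (`max_normed_2Elem_signaliser`) and a transitivity tool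
(helper68; tools for BG Theorem 11.5 "M_σ A ⊴ M" for exceptional maximal subgroups)

* `le_centralizer_of_maxInv_narrow` (TOOL P): `A` an abelian noncyclic `p`-subgroup with `Ω₁(C_G(A)) = A`,
  `q ≠ p` a prime dividing `|C_G(A)|`, `Q` a maximal `A`-invariant `q`-subgroup which is narrow. Then `A`
  centralizes `Q`.  (Inputs: S1410 and S1411 as hypotheses; S1394, S1395, S1396 are landed.)
* `mem_of_conj_le_normalizer_of_centralizes` (TOOL Z): `W` abelian noncyclic `q`-subgroup with `Ω₁(C_G(W)) = W`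
  centralizing a Sylow `s`-subgroup `K_s` of `G` (`s ≠ q`); if `C_G(W) ≤ M` and `N_G(K_s) ≤ M` then every
  `x` with `x W x⁻¹ ≤ N_G(K_s)` lies in `M`.
-/

set_option autoImplicit false

namespace Cfsg.Agent.Lib.Helper68

open Cfsg
open scoped Pointwise

variable {G : Type*} [Group G] [Finite G]

/-- **BG Proposition 10.11(c)**. -/
theorem le_centralizer_of_maxInv_narrow (hG : IsMinSimpleOddOrder G) (p q : ℕ) [hp : Fact p.Prime]
    [hq : Fact q.Prime] (hpq : p ≠ q) (A : Subgroup G) (hAp : IsPGroup p A)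
    (hAc : IsMulCommutative A) (hA1 : A ≠ ⊥)
    (hAnc : ¬ RankLE 1 ↥(A ⊓ Subgroup.centralizer (A : Set G)))
    (hAmax : ∀ x ∈ Subgroup.centralizer (A : Set G), x ^ p = 1 ↔ x ∈ A)
    (hpl : ∀ H : Subgroup G, H ≠ ⊤ → PLengthLE p 1 H)
    (h1411 : ∀ P : Sylow p G, (P : Subgroup G) ≤
      ⁅Subgroup.normalizer ((P : Subgroup G) : Set G), Subgroup.normalizer ((P : Subgroup G) : Set G)⁆)
    (Q : Subgroup G) (hQ : Q ∈ maxInvSubgroups ⊤ A {q})
    (hqC : q ∣ Nat.card (Subgroup.centralizer (A : Set G))) (hQn : IsNarrow q Q) :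
    A ≤ Subgroup.centralizer (Q : Set G) := by
  have hs : IsSimpleGroup G := hG.2.1
  have hnc : ¬ IsMulCommutative G := hG.2.2.1
  have hodd : Odd (Nat.card G) := hG.1
  have hpG : p ∣ Nat.card G := by
    obtain ⟨n, hn⟩ := hAp.exists_card_eq
    have hn0 : n ≠ 0 := by
      rintro rfl
      rw [pow_zero] at hn
      exact hA1 (Subgroup.eq_bot_of_card_eq _ hn)
    have h1 : p ∣ Nat.card A := by rw [hn]; exact dvd_pow_self p hn0
    exact h1.trans (Subgroup.card_subgroup_dvd_card A)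
  have hTH : TransitivityHypothesis A :=
    Cfsg.Agent.S1396.result hG p hpG A hAp hAc (Or.inl ⟨hAmax, hpl⟩)
  have hqA : ¬ q ∣ Nat.card A := by
    intro hd
    obtain ⟨n, hn⟩ := hAp.exists_card_eq
    rw [hn] at hd
    exact hpq ((Nat.prime_dvd_prime_iff_eq hq.out hp.out).mp (hq.out.dvd_of_dvd_pow hd)).symm
  have hq2 : q ≠ 2 := by
    rintro rfl
    have h1 : 2 ∣ Nat.card G := hqC.trans (Subgroup.card_subgroup_dvd_card _)
    exact (Nat.not_even_iff_odd.mpr hodd) (even_iff_two_dvd.mpr h1)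
  have htr := Cfsg.Agent.S1394.result hG A hTH hAnc q hq.out hqA hqC
  obtain ⟨S₀, hAS₀⟩ := hAp.exists_le_sylow
  have hS₀top : (S₀ : Subgroup G) ≠ ⊤ := Cfsg.Agent.Lib.Helper54.ne_top_of_isPGroup hs hnc S₀.isPGroup'
  have hPπ : ∀ r : ℕ, r.Prime → r ∣ Nat.card (S₀ : Subgroup G) → r ∣ Nat.card A := by
    intro r hr hrd
    obtain ⟨n, hn⟩ := S₀.isPGroup'.exists_card_eq
    rw [hn] at hrd
    have hrp : r = p := (Nat.prime_dvd_prime_iff_eq hr hp.out).mp (hr.dvd_of_dvd_pow hrd)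
    rw [hrp]
    obtain ⟨m, hm⟩ := hAp.exists_card_eq
    have hm0 : m ≠ 0 := by
      rintro rfl
      rw [pow_zero] at hm
      exact hA1 (Subgroup.eq_bot_of_card_eq _ hm)
    rw [hm]; exact dvd_pow_self p hm0
  obtain ⟨-, -, hc, hd⟩ := Cfsg.Agent.S1395.result hG A hTH q hq.out hqA (S₀ : Subgroup G) hS₀top hPπ hAS₀
    (Cfsg.Agent.Lib.Helper9.isSubnormal_of_isPGroup S₀.isPGroup' _) htr
  obtain ⟨Q', hQ', -⟩ := Cfsg.Agent.Lib.Helper54.exists_maxInv_ge (S₀ : Subgroup G) q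
    (Cfsg.Agent.Lib.Helper54.bot_mem_invSubgroups ⊤ (S₀ : Subgroup G) q)
  have hQ'A : Q' ∈ maxInvSubgroups ⊤ A {q} := hc hQ'
  obtain ⟨k, hk, hQeq⟩ := htr Q' hQ'A Q hQ
  have hkA : k ∈ Subgroup.centralizer (A : Set G) := Cfsg.Agent.Lib.Helper54.piCoreOf_le _ _ hk
  have hS₀N : (S₀ : Subgroup G) ≤ ⁅Subgroup.normalizer (Q' : Set G), Subgroup.normalizer (Q' : Set G)⁆ :=
    (le_inf le_rfl (h1411 S₀)).trans (hd Q' hQ').1
  have hQ'q : IsPGroup q Q' := ((Cfsg.Agent.Lib.Helper54.mem_invSubgroups_iff A q).mp hQ'A.1).1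
  have hQ'n : IsNarrow q ↥Q' := by
    have hinj : Function.Injective (MulAut.conj k).toMonoidHom := (MulAut.conj k).injective
    have e : ↥Q ≃* ↥Q' :=
      (MulEquiv.subgroupCongr hQeq).trans (Q'.equivMapOfInjective _ hinj).symm
    exact isNarrow_of_mulEquiv q e hQn
  -- `A` centralizes `Q'`
  have hAQ' : ∀ a ∈ A, ∀ r ∈ Q', a * r = r * a := by
    by_cases hQ'1 : Q' = ⊥
    · intro a _ r hr
      rw [hQ'1, Subgroup.mem_bot] at hr
      rw [hr, mul_one, one_mul]
    have hQ'top : Q' ≠ ⊤ := Cfsg.Agent.Lib.Helper54.ne_top_of_isPGroup hs hnc hQ'q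
    have hNtop : Subgroup.normalizer (Q' : Set G) ≠ ⊤ :=
      Cfsg.Agent.Lib.Helper54.normalizer_ne_top_of_simple hs hQ'1 hQ'top
    have hNsolv : Group.IsSolvable ↥(Subgroup.normalizer (Q' : Set G)) := hG.2.2.2 _ hNtop
    have hNodd : Odd (Nat.card ↥(Subgroup.normalizer (Q' : Set G))) :=
      hodd.of_dvd_nat (Subgroup.card_subgroup_dvd_card _)
    intro a ha r hr
    have haN : a ∈ ⁅Subgroup.normalizer (Q' : Set G), Subgroup.normalizer (Q' : Set G)⁆ :=
      hS₀N (hAS₀ ha)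
    have hcop : (orderOf a).Coprime q := by
      obtain ⟨j, hj⟩ := (IsPGroup.iff_orderOf.mp hAp) ⟨a, ha⟩
      rw [Subgroup.orderOf_mk] at hj
      rw [hj]
      exact Nat.Coprime.pow_left j ((Nat.coprime_primes hp.out hq.out).mpr hpq)
    by_cases hr2 : PRankLE q 2 ↥Q'
    · exact Cfsg.Agent.Lib.Helper24.centralizes_of_rankLETwo q hq2 (Subgroup.normalizer (Q' : Set G))
        hNodd Q' hQ'q (Cfsg.Agent.Lib.Helper24.rankLETwo_of_pRankLE q Q' hr2) le_rfl a haN hcop r hr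
    · rw [← Subgroup.map_subtype_commutator] at haN
      obtain ⟨x, hx, rfl⟩ := haN
      have hle : Q' ≤ Subgroup.normalizer (Q' : Set G) := Subgroup.le_normalizer
      have hnorm : (Subgroup.inclusion hle).range.Normal := by
        have h1 : (Subgroup.inclusion hle).range = Q'.subgroupOf (Subgroup.normalizer (Q' : Set G)) := by
          ext y
          constructor
          · rintro ⟨z, rfl⟩
            rw [Subgroup.mem_subgroupOf]
            exact z.2
          · intro hy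
            rw [Subgroup.mem_subgroupOf] at hy
            exact ⟨⟨y, hy⟩, rfl⟩
        rw [h1]
        exact Subgroup.normal_in_normalizer
      have hcop' : (orderOf x).Coprime q := by
        rw [← Subgroup.orderOf_coe]
        exact hcop
      have h2 := Cfsg.Agent.Lib.Helper67.narrow_commutator_centralizes q hq2 hQ'q hQ'n hr2
        (Subgroup.inclusion hle) (Subgroup.inclusion_injective hle) hnorm x hx hcop' ⟨r, hr⟩
      have h3 := congrArg Subtype.val h2
      simpa using h3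
  -- transport to `Q`
  intro a ha
  rw [Subgroup.mem_centralizer_iff]
  intro y hy
  rw [hQeq] at hy
  obtain ⟨r, hr, rfl⟩ := hy
  have hka : k * a = a * k := (Subgroup.mem_centralizer_iff.mp hkA a ha).symm
  have har := hAQ' a ha r hr
  show (MulAut.conj k) r * a = a * (MulAut.conj k) r
  rw [MulAut.conj_apply]
  have hka' : k⁻¹ * a = a * k⁻¹ := by
    rw [eq_mul_inv_iff_mul_eq, mul_assoc, ← hka, ← mul_assoc, inv_mul_cancel, one_mul]
  calc k * r * k⁻¹ * a = k * r * (k⁻¹ * a) := by group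
    _ = k * r * (a * k⁻¹) := by rw [hka']
    _ = k * (r * a) * k⁻¹ := by group
    _ = k * (a * r) * k⁻¹ := by rw [har]
    _ = (k * a) * r * k⁻¹ := by group
    _ = (a * k) * r * k⁻¹ := by rw [hka]
    _ = a * (k * r * k⁻¹) := by group

/-- **TOOL Z.** `W` abelian noncyclic `q`-subgroup with `Ω₁(C_G(W)) = W`, centralizing a nontrivial Sylow
`s`-subgroup `K_s` of `G`; `C_G(W) ≤ M`, `N_G(K_s) ≤ M`.  Then every `x` with `x W x⁻¹ ≤ N_G(K_s)` lies in `M`. -/
theorem mem_of_conj_le_normalizer_of_centralizes (hG : IsMinSimpleOddOrder G) (q s : ℕ)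
    [hq : Fact q.Prime] [hsp : Fact s.Prime] (hqs : q ≠ s) (W : Subgroup G) (hWq : IsPGroup q W)
    (hWc : IsMulCommutative W) (hW1 : W ≠ ⊥)
    (hWnc : ¬ RankLE 1 ↥(W ⊓ Subgroup.centralizer (W : Set G)))
    (hWmax : ∀ x ∈ Subgroup.centralizer (W : Set G), x ^ q = 1 ↔ x ∈ W)
    (hpl : ∀ H : Subgroup G, H ≠ ⊤ → PLengthLE q 1 H)
    (Ks : Sylow s G) (hKs1 : (Ks : Subgroup G) ≠ ⊥)
    (hWK : W ≤ Subgroup.centralizer ((Ks : Subgroup G) : Set G))
    (M : Subgroup G) (hCW : Subgroup.centralizer (W : Set G) ≤ M)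
    (hNK : Subgroup.normalizer ((Ks : Subgroup G) : Set G) ≤ M)
    (x : G) (hx : ∀ w ∈ W, x * w * x⁻¹ ∈ Subgroup.normalizer ((Ks : Subgroup G) : Set G)) :
    x ∈ M := by
  have hqG : q ∣ Nat.card G := by
    obtain ⟨n, hn⟩ := hWq.exists_card_eq
    have hn0 : n ≠ 0 := by
      rintro rfl
      rw [pow_zero] at hn
      exact hW1 (Subgroup.eq_bot_of_card_eq _ hn)
    have h1 : q ∣ Nat.card W := by rw [hn]; exact dvd_pow_self q hn0
    exact h1.trans (Subgroup.card_subgroup_dvd_card W)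
  have hTH : TransitivityHypothesis W :=
    Cfsg.Agent.S1396.result hG q hqG W hWq hWc (Or.inl ⟨hWmax, hpl⟩)
  have hsW : ¬ s ∣ Nat.card W := by
    intro hd
    obtain ⟨n, hn⟩ := hWq.exists_card_eq
    rw [hn] at hd
    exact hqs ((Nat.prime_dvd_prime_iff_eq hsp.out hq.out).mp (hsp.out.dvd_of_dvd_pow hd)).symm
  have hKW : (Ks : Subgroup G) ≤ Subgroup.centralizer (W : Set G) := by
    intro y hy
    rw [Subgroup.mem_centralizer_iff]
    intro w hw
    exact (Subgroup.mem_centralizer_iff.mp (hWK hw) y hy).symm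
  have hsC : s ∣ Nat.card (Subgroup.centralizer (W : Set G)) := by
    obtain ⟨n, hn⟩ := Ks.isPGroup'.exists_card_eq
    have hn0 : n ≠ 0 := by
      rintro rfl
      rw [pow_zero] at hn
      exact hKs1 (Subgroup.eq_bot_of_card_eq _ hn)
    have h1 : s ∣ Nat.card (Ks : Subgroup G) := by rw [hn]; exact dvd_pow_self s hn0
    exact h1.trans (Subgroup.card_dvd_of_le hKW)
  have htr := Cfsg.Agent.S1394.result hG W hTH hWnc s hsp.out hsW hsC
  have hmem : ∀ K' : Sylow s G, W ≤ Subgroup.normalizer ((K' : Subgroup G) : Set G) →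
      (K' : Subgroup G) ∈ maxInvSubgroups ⊤ W {s} := by
    intro K' hK'
    refine ⟨(Cfsg.Agent.Lib.Helper54.mem_invSubgroups_iff W s).mpr ⟨K'.isPGroup', hK'⟩, ?_⟩
    intro R hR hle
    exact K'.is_maximal' ((Cfsg.Agent.Lib.Helper54.mem_invSubgroups_iff W s).mp hR).1 hle
  have hmem1 := hmem Ks (hWK.trans (Subgroup.centralizer_le_normalizer _))
  have hmem2 : ((x⁻¹ • Ks : Sylow s G) : Subgroup G) ∈ maxInvSubgroups ⊤ W {s} := by
    apply hmem
    intro w hw
    apply Sylow.smul_eq_iff_mem_normalizer.mp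
    rw [smul_smul]
    have h1 : w * x⁻¹ = x⁻¹ * (x * w * x⁻¹) := by group
    rw [h1, ← smul_smul, Sylow.smul_eq_iff_mem_normalizer.mpr (hx w hw)]
  obtain ⟨k, hk, hkeq⟩ := htr _ hmem1 _ hmem2
  have hkW : k ∈ Subgroup.centralizer (W : Set G) := Cfsg.Agent.Lib.Helper54.piCoreOf_le _ _ hk
  have hkK : k • Ks = x⁻¹ • Ks := by
    apply Sylow.ext
    rw [hkeq, Sylow.smul_def, Sylow.pointwise_smul_def]
    rfl
  have hxk : (x * k) • Ks = Ks := by
    rw [← smul_smul, hkK, smul_smul, mul_inv_cancel, one_smul]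
  have h1 : x * k ∈ M := hNK (Sylow.smul_eq_iff_mem_normalizer.mp hxk)
  have h2 : x = (x * k) * k⁻¹ := by group
  rw [h2]
  exact M.mul_mem h1 (M.inv_mem (hCW hkW))

end Cfsg.Agent.Lib.Helper68
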