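import Mathlib
import Cfsg.Prelude.Def_OddOrderLocal
import Cfsg.Agent.Lib.Helper68.BGElevenN1
import Cfsg.Agent.Lib.Helper68.BGSignalizer
import Cfsg.Agent.Lib.Helper54.BGElevenC
import Cfsg.Agent.Lib.Helper24.Omega
import Cfsg.Agent.Lib.Helper24.RankTwoGen
import Cfsg.Agent.Lib.Helper76.PCore

/-!
# Bender–Glauberman Theorem 11.5 (`M_σ A ⊴ M` for an exceptional maximal subgroup): MODULE Y

For an exceptional maximal subgroup `M` (w.r.t. `p`, `A₀`, `A`), a prime `q ≠ p`, `q ∉ σ(M)`: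
`A` centralizes `O_q(M)` (`exc_centralizes_pcOf`).  Conditional on the other facts of §11 for all
exceptional tuples (`Sec11a`), on Shult's lemma in the form `ShultE`, and on B&G 10.6/10.7.
-/

set_option autoImplicit false

namespace Cfsg.Agent.Lib.Helper68

open Cfsg
open scoped Pointwise
open Cfsg.Agent.Lib.Helper54 (IsExceptional pcOf)
open Cfsg.Agent.Lib.Helper34 (UniquenessThm)
open Cfsg.Agent.Lib.Helper24 (RankLETwo)

variable {G : Type*} [Group G]

/-- `O_q(M)` lies in every Sylow `q`-subgroup of `M`. -/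
theorem pcOf_le_sylow_map (q : ℕ) [Fact q.Prime] (M : Subgroup G) (Q : Sylow q M) :
    pcOf q M ≤ (Q : Subgroup M).map M.subtype :=
  Subgroup.map_mono (Cfsg.Agent.Lib.Helper76.pCore_le_sylow q Q)

/-- A maximal subgroup of a simple group is the full normalizer of each of its nontrivial proper
normal subgroups. -/
theorem normalizer_le_of_coatom (hs : IsSimpleGroup G) {M W : Subgroup G} (hM : IsCoatom M)
    (hW1 : W ≠ ⊥) (hWM : W ≤ M) (hMW : M ≤ Subgroup.normalizer (W : Set G)) :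
    Subgroup.normalizer (W : Set G) ≤ M := by
  have hWtop : W ≠ ⊤ := by
    rintro rfl
    exact hM.1 (top_le_iff.mp hWM)
  have h1 := Cfsg.Agent.Lib.Helper54.normalizer_ne_top_of_simple hs hW1 hWtop
  rcases eq_or_lt_of_le hMW with h | h
  · rw [← h]
  · exact absurd (hM.2 _ h) h1

/-- The Sylow `s`-subgroup of the nilpotent normal subgroup `K` of `M` is normalized by `M`. -/
theorem le_normalizer_sylow_of_nilpotent [Finite G] {M K : Subgroup G}
    (hMK : M ≤ Subgroup.normalizer (K : Set G)) (hKnil : Group.IsNilpotent K) (s : ℕ)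
    [Fact s.Prime] (S₀ : Sylow s K) :
    M ≤ Subgroup.normalizer (((S₀ : Subgroup K).map K.subtype : Subgroup G) : Set G) := by
  have hnorm : ∀ (r : ℕ) (_ : Fact r.Prime) (P : Sylow r K), (P : Subgroup K).Normal :=
    ((Group.isNilpotent_of_finite_tfae (G := K)).out 0 3).mp hKnil
  have hS₀n : (S₀ : Subgroup K).Normal := hnorm s inferInstance S₀
  have hsub : Subsingleton (Sylow s K) :=
    (Sylow.unique_of_normal S₀ hS₀n).instSubsingleton
  set S : Subgroup G := (S₀ : Subgroup K).map K.subtype with hS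
  have hSK : S ≤ K := Subgroup.map_subtype_le _
  apply Cfsg.Agent.Lib.Helper54.le_normalizer_of_conj_mem
  intro m hm y hy
  -- `m y m⁻¹` is an `s`-element of `K`
  have hyK : y ∈ K := hSK hy
  have hmyK : m * y * m⁻¹ ∈ K := (Subgroup.mem_normalizer_iff.mp (hMK hm) y).mp hyK
  have hSs : IsPGroup s S := S₀.isPGroup'.map _
  -- the subgroup generated by `m y m⁻¹` in `K`
  have hzp : IsPGroup s (Subgroup.zpowers (⟨m * y * m⁻¹, hmyK⟩ : K)) := by
    obtain ⟨k, hk⟩ := (hSs ⟨y, hy⟩)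
    have hyk : y ^ s ^ k = 1 := by
      have := congrArg Subtype.val hk
      simpa using this
    have hord : orderOf (⟨m * y * m⁻¹, hmyK⟩ : K) ∣ s ^ k := by
      apply orderOf_dvd_of_pow_eq_one
      apply Subtype.ext
      rw [Subgroup.coe_pow, Subgroup.coe_one]
      show (m * y * m⁻¹) ^ s ^ k = 1
      rw [conj_pow, hyk, mul_one, mul_inv_cancel]
    obtain ⟨j, -, hj⟩ := (Nat.dvd_prime_pow Fact.out).mp hord
    apply IsPGroup.of_card (n := j)
    rw [Nat.card_zpowers, hj]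
  obtain ⟨P', hP'⟩ := hzp.exists_le_sylow
  have hP'eq : P' = S₀ := Subsingleton.elim _ _
  rw [hP'eq] at hP'
  exact ⟨⟨m * y * m⁻¹, hmyK⟩, hP' (Subgroup.mem_zpowers _), rfl⟩

/-- **TOOL Z applied.**  `q ∉ σ(M)`: no normal elementary abelian subgroup `W` of order `q ^ 2` of `M`
centralizes the nilpotent nontrivial `M_σ`. -/
theorem not_normal_sq_centralizing [Finite G] (hG : IsMinSimpleOddOrder G) (hU : UniquenessThm G)
    (q : ℕ) [Fact q.Prime] (hPLq : ∀ H : Subgroup G, H ≠ ⊤ → PLengthLE q 1 H)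
    (M : Subgroup G) (hM : IsCoatom M) (hKnil : Group.IsNilpotent (sigmaCore M))
    (hK1 : sigmaCore M ≠ ⊥) (hqσ : q ∉ sigma M) (W : Subgroup G) (hWM : W ≤ M)
    (hWel : IsElementaryAbelian q W) (hWcard : Nat.card W = q ^ 2)
    (hMW : M ≤ Subgroup.normalizer (W : Set G))
    (hWK : W ≤ Subgroup.centralizer (sigmaCore M : Set G)) : False := by
  have hs : IsSimpleGroup G := hG.2.1
  have hq : q.Prime := Fact.out
  set K := sigmaCore M with hK
  have hWq : IsPGroup q W := IsPGroup.of_card hWcard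
  have hW1 : W ≠ ⊥ := by
    intro h
    rw [h, Subgroup.card_bot] at hWcard
    have : 1 < q ^ 2 := Nat.one_lt_pow (by norm_num) hq.one_lt
    omega
  have hNW : Subgroup.normalizer (W : Set G) ≤ M := normalizer_le_of_coatom hs hM hW1 hWM hMW
  have hCW : Subgroup.centralizer (W : Set G) ≤ M :=
    (Subgroup.centralizer_le_normalizer (s := (W : Set G))).trans hNW
  have hWcomm : ∀ x ∈ W, ∀ y ∈ W, x * y = y * x := fun x hx y hy =>
    Cfsg.Agent.Lib.Helper45.IsElementaryAbelian_comm hWel hx hy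
  have hWleC : W ≤ Subgroup.centralizer (W : Set G) := by
    intro a ha
    rw [Subgroup.mem_centralizer_iff]
    intro y hy
    exact hWcomm y hy a ha
  -- maximality of `W`
  have hWmax : ∀ x ∈ Subgroup.centralizer (W : Set G), x ^ q = 1 ↔ x ∈ W := by
    intro x hx
    refine ⟨fun hxq => ?_, fun hxW => hWel.2 x hxW⟩
    have hB : IsElementaryAbelian q (W ⊔ Subgroup.zpowers x) := by
      apply Cfsg.Agent.Lib.Helper45.isElementaryAbelian_sup hWel
        (Cfsg.Agent.Lib.Helper34.isElementaryAbelian_zpowers hxq)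
      intro a ha b hb
      obtain ⟨k, rfl⟩ := Subgroup.mem_zpowers_iff.mp hb
      have h1 : Commute a x := (Subgroup.mem_centralizer_iff.mp hx a ha)
      exact (h1.zpow_right k)
    have := Cfsg.Agent.Lib.Helper34.eq_of_le_isElementaryAbelian hU hM hqσ hWM hWel hWcard hB
      le_sup_left
    rw [← this]
    exact Subgroup.mem_sup_right (Subgroup.mem_zpowers x)
  have hWnc : ¬ RankLE 1 ↥(W ⊓ Subgroup.centralizer (W : Set G)) := by
    apply Cfsg.Agent.Lib.Helper34.not_rankLE_of_isElementaryAbelian hWel (le_inf le_rfl hWleC)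
    rw [hWcard]
    exact Nat.pow_lt_pow_right hq.one_lt (by norm_num)
  -- a prime `s` dividing `|K|`
  have hKcard : Nat.card K ≠ 1 := fun h => hK1 (Subgroup.card_eq_one.mp h)
  obtain ⟨s, hsp, hsK⟩ := Nat.exists_prime_and_dvd hKcard
  have : Fact s.Prime := ⟨hsp⟩
  have hsσ : s ∈ sigma M := Cfsg.Agent.Lib.Helper54.sigmaCore_isPi M s hsp hsK
  have hqs : q ≠ s := by
    rintro rfl
    exact hqσ hsσ
  obtain ⟨S₀⟩ : Nonempty (Sylow s K) := inferInstance
  obtain ⟨hSmax, hNS⟩ := Cfsg.Agent.Lib.Helper54.sylow_sigmaCore_facts hG hU M hM s hsσ S₀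
  set S : Subgroup G := (S₀ : Subgroup K).map K.subtype with hS
  have hSs : IsPGroup s S := S₀.isPGroup'.map _
  have hSK : S ≤ K := Subgroup.map_subtype_le _
  obtain ⟨Ks, hKs⟩ := Cfsg.Agent.Lib.Helper54.exists_sylow_eq S hSs hSmax
  have hS1 : S ≠ ⊥ := by
    have h1 : (S₀ : Subgroup K) ≠ ⊥ := Sylow.ne_bot_of_dvd_card S₀ hsK
    intro h
    apply h1
    rw [hS] at h
    exact (Subgroup.map_eq_bot_iff_of_injective _ K.subtype_injective).mp h
  have hMS : M ≤ Subgroup.normalizer (S : Set G) :=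
    le_normalizer_sylow_of_nilpotent (Cfsg.Agent.Lib.Helper54.le_normalizer_sigmaCore M) hKnil s S₀
  have hWS : W ≤ Subgroup.centralizer (S : Set G) := hWK.trans (Subgroup.centralizer_le hSK)
  -- a Sylow `q`-subgroup of `M`
  obtain ⟨Q⟩ : Nonempty (Sylow q M) := inferInstance
  have hWQ : W ≤ (Q : Subgroup M).map M.subtype :=
    (Cfsg.Agent.Lib.Helper54.le_pcOf_of_normal q hWq hWM hMW).trans (pcOf_le_sylow_map q M Q)
  have hQM : (Q : Subgroup M).map M.subtype ≤ M := Subgroup.map_subtype_le _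
  have hNQ : Subgroup.normalizer ((((Q : Subgroup M).map M.subtype : Subgroup G)) : Set G) ≤ M := by
    intro x hx
    refine mem_of_conj_le_normalizer_of_centralizes hG q s hqs W hWq hWel.1 hW1 hWnc hWmax hPLq Ks
      (by rw [hKs]; exact hS1) (by rw [hKs]; exact hWS) M hCW (by rw [hKs]; exact hNS) x ?_
    intro w hw
    rw [hKs]
    apply hMS
    apply hQM
    exact (Subgroup.mem_normalizer_iff.mp hx w).mp (hWQ hw)
  apply hqσ
  refine ⟨hq, ?_, Q, hNQ⟩
  have h1 : q ∣ Nat.card W := by rw [hWcard]; exact dvd_pow_self q (by norm_num)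
  exact h1.trans (Subgroup.card_dvd_of_le hWM)

/-- A normal subgroup of prime order `q` of a finite `q`-group is central. -/
theorem le_centralizer_of_normal_of_card_prime [Finite G] (q : ℕ) [Fact q.Prime]
    (Q W : Subgroup G) (hQ : IsPGroup q Q) (hWQ : W ≤ Q) (hWcard : Nat.card W = q)
    (hQW : Q ≤ Subgroup.normalizer (W : Set G)) : W ≤ Subgroup.centralizer (Q : Set G) := by
  have hq : q.Prime := Fact.out
  have hN : (W.subgroupOf Q).Normal := by
    refine ⟨fun a ha g => ?_⟩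
    rw [Subgroup.mem_subgroupOf] at ha ⊢
    exact (Subgroup.mem_normalizer_iff.mp (hQW g.2) _).mp ha
  have hne : W.subgroupOf Q ≠ ⊥ := by
    intro h
    have h1 : Nat.card (W.subgroupOf Q) = q := by
      rw [Nat.card_congr (Subgroup.subgroupOfEquivOfLe hWQ).toEquiv, hWcard]
    rw [h, Subgroup.card_bot] at h1
    exact hq.one_lt.ne h1
  obtain ⟨z, hzW, hz1, hzc⟩ :=
    Cfsg.Agent.Lib.Helper9.exists_ne_one_mem_center_of_normal hQ (W.subgroupOf Q) hne
  rw [Subgroup.mem_subgroupOf] at hzW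
  intro w hw
  rw [Subgroup.mem_centralizer_iff]
  intro y hy
  -- `w` is a power of `z`
  have hz1' : (⟨(z : G), hzW⟩ : W) ≠ 1 := by
    intro h
    apply hz1
    apply Subtype.ext
    have := congrArg Subtype.val h
    simpa using this
  have hmem : (⟨w, hw⟩ : W) ∈ Subgroup.zpowers (⟨(z : G), hzW⟩ : W) :=
    mem_zpowers_of_prime_card hWcard hz1'
  obtain ⟨k, hk⟩ := Subgroup.mem_zpowers_iff.mp hmem
  have hwk : (z : G) ^ k = w := by
    have := congrArg Subtype.val hk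
    simpa using this
  have hcomm : Commute (y : G) (z : G) := by
    have h1 := Subgroup.mem_center_iff.mp hzc ⟨y, hy⟩
    exact congrArg Subtype.val h1
  rw [← hwk]
  exact (hcomm.zpow_right k).eq

/-- If `W ⊴ M` has prime order `q`, `q ∉ σ(M)` and `M` has `q`-rank `2`, then `(M, q, W, B)` is
exceptional for some `B`. -/
theorem exists_exceptional_of_normal_prime [Finite G] (hG : IsMinSimpleOddOrder G)
    (q : ℕ) [Fact q.Prime] (M : Subgroup G) (hM : IsCoatom M) (hqσ : q ∉ sigma M)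
    (hr2 : PRankLE q 2 M) (hr1 : ¬ PRankLE q 1 M) (W : Subgroup G) (hWM : W ≤ M)
    (hWcard : Nat.card W = q) (hMW : M ≤ Subgroup.normalizer (W : Set G)) :
    ∃ B : Subgroup G, IsExceptional M q W B := by
  have hs : IsSimpleGroup G := hG.2.1
  have hq : q.Prime := Fact.out
  have hWq : IsPGroup q W := IsPGroup.of_card (n := 1) (by rw [hWcard, pow_one])
  have hW1 : W ≠ ⊥ := by
    intro h
    rw [h, Subgroup.card_bot] at hWcard
    exact hq.one_lt.ne hWcard
  have hNW : Subgroup.normalizer (W : Set G) ≤ M := normalizer_le_of_coatom hs hM hW1 hWM hMW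
  have hWel : IsElementaryAbelian q W := by
    have hcyc : IsCyclic W := isCyclic_of_prime_card hWcard
    refine ⟨hcyc.isMulCommutative, ?_⟩
    · intro a ha
      have h1 : (⟨a, ha⟩ : W) ^ Nat.card W = 1 := pow_card_eq_one'
      rw [hWcard] at h1
      have := congrArg Subtype.val h1
      simpa using this
  obtain ⟨E, hEM, hEc, hEe, hEcard⟩ :=
    Cfsg.Agent.Lib.Helper54.exists_elemAb_of_not_pRankLE q 1 M hr1
  have hEq : IsPGroup q E := by
    rintro ⟨x, hx⟩
    refine ⟨1, ?_⟩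
    apply Subtype.ext
    rw [pow_one, Subgroup.coe_pow, Subgroup.coe_one]
    exact hEe x hx
  obtain ⟨Q, hEQ⟩ := Cfsg.Agent.Lib.Helper54.exists_sylow_map_ge hEM hEq
  set Qm : Subgroup G := (Q : Subgroup M).map M.subtype with hQm
  have hQmq : IsPGroup q Qm := Q.isPGroup'.map _
  have hQmM : Qm ≤ M := Subgroup.map_subtype_le _
  have hWQ : W ≤ Qm :=
    (Cfsg.Agent.Lib.Helper54.le_pcOf_of_normal q hWq hWM hMW).trans (pcOf_le_sylow_map q M Q)
  have hWcen : W ≤ Subgroup.centralizer (Qm : Set G) :=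
    le_centralizer_of_normal_of_card_prime q Qm W hQmq hWQ hWcard (hQmM.trans hMW)
  have hEel : IsElementaryAbelian q E := by
    refine ⟨isMulCommutative_iff.mpr ?_, hEe⟩
    rintro ⟨a, ha⟩ ⟨b, hb⟩
    exact Subtype.ext (hEc a ha b hb)
  have hBel : IsElementaryAbelian q (W ⊔ E) := by
    apply Cfsg.Agent.Lib.Helper45.isElementaryAbelian_sup hWel hEel
    intro a ha b hb
    exact (Subgroup.mem_centralizer_iff.mp (hWcen ha) b (hEQ hb)).symm
  have hBM : W ⊔ E ≤ M := sup_le hWM hEM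
  have hBcomm : ∀ x ∈ W ⊔ E, ∀ y ∈ W ⊔ E, x * y = y * x := fun x hx y hy =>
    Cfsg.Agent.Lib.Helper45.IsElementaryAbelian_comm hBel hx hy
  have hBle : Nat.card (W ⊔ E : Subgroup G) ≤ q ^ 2 := by
    by_contra hlt
    rw [not_le] at hlt
    exact Cfsg.Agent.Lib.Helper54.not_pRankLE_of_elemAb hBM hBcomm hBel.2 hlt hr2
  have hBge : q ^ 2 ≤ Nat.card (W ⊔ E : Subgroup G) := by
    have h1 : Nat.card E ≤ Nat.card (W ⊔ E : Subgroup G) :=
      Nat.le_of_dvd Nat.card_pos (Subgroup.card_dvd_of_le le_sup_right)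
    have h2 : q ^ (1 + 1) ≤ Nat.card E := hEcard
    exact h2.trans h1
  exact ⟨W ⊔ E, ⟨hM, hqσ, hBM, hBel, le_antisymm hBle hBge, le_sup_left, hWcard, hNW⟩⟩

/-- Shult's lemma in the form (E) of the §11 plan: a subgroup `X` of prime order `p` acting
fixed-point-freely on the nilpotent `K` and normalizing a `q`-group `R` (which normalizes `K`, `K` prime
to `p q`) satisfies `[R, X] ≤ C(K)`. -/
def ShultE (G : Type*) [Group G] : Prop :=
  ∀ (p q : ℕ) [Fact p.Prime] [Fact q.Prime], q ≠ p → q ≠ 2 → ∀ (K X R : Subgroup G),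
    Group.IsNilpotent K → (Nat.card K).Coprime p → (Nat.card K).Coprime q → Nat.card X = p →
    X ≤ Subgroup.normalizer (K : Set G) → K ⊓ Subgroup.centralizer (X : Set G) = ⊥ →
    IsPGroup q R → R ≤ Subgroup.normalizer (K : Set G) → X ≤ Subgroup.normalizer (R : Set G) →
    ∀ x ∈ X, ∀ g ∈ R, g⁻¹ * (x * g * x⁻¹) ∈ Subgroup.centralizer (K : Set G)

/-- The elements `a` of `N(K)` with `[B, a] ⊆ C(K)`. -/
def commCentSubgroup (K B : Subgroup G) : Subgroup G where
  carrier := {a | a ∈ Subgroup.normalizer (K : Set G) ∧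
    ∀ b ∈ B, b⁻¹ * (a * b * a⁻¹) ∈ Subgroup.centralizer (K : Set G)}
  one_mem' := by
    refine ⟨Subgroup.one_mem _, ?_⟩
    intro b _
    have e : b⁻¹ * (1 * b * 1⁻¹) = 1 := by group
    rw [e]
    exact Subgroup.one_mem _
  mul_mem' := by
    rintro a₁ a₂ ⟨h1, h1'⟩ ⟨h2, h2'⟩
    refine ⟨Subgroup.mul_mem _ h1 h2, ?_⟩
    intro b hb
    have e : b⁻¹ * (a₁ * a₂ * b * (a₁ * a₂)⁻¹) =
        (b⁻¹ * (a₁ * b * a₁⁻¹)) * (a₁ * (b⁻¹ * (a₂ * b * a₂⁻¹)) * a₁⁻¹) := by group
    rw [e]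
    refine Subgroup.mul_mem _ (h1' b hb) ?_
    have hn : a₁ ∈ Subgroup.normalizer ((Subgroup.centralizer (K : Set G) : Subgroup G) : Set G) :=
      Cfsg.Agent.Lib.Helper54.normalizer_le_normalizer_centralizer K h1
    exact (Subgroup.mem_normalizer_iff.mp hn _).mp (h2' b hb)
  inv_mem' := by
    rintro a ⟨h1, h1'⟩
    refine ⟨Subgroup.inv_mem _ h1, ?_⟩
    intro b hb
    have e : b⁻¹ * (a⁻¹ * b * a⁻¹⁻¹) = a⁻¹ * (b⁻¹ * (a * b * a⁻¹))⁻¹ * a⁻¹⁻¹ := by group
    rw [e]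
    have hn : a⁻¹ ∈ Subgroup.normalizer ((Subgroup.centralizer (K : Set G) : Subgroup G) : Set G) :=
      Cfsg.Agent.Lib.Helper54.normalizer_le_normalizer_centralizer K (Subgroup.inv_mem _ h1)
    exact (Subgroup.mem_normalizer_iff.mp hn _).mp (Subgroup.inv_mem _ (h1' b hb))

/-- Two distinct subgroups of order `p` of a group of order `p ^ 2` generate it. -/
theorem sup_eq_of_card_prime_sq [Finite G] (p : ℕ) [Fact p.Prime] {A A₁ A₂ : Subgroup G}
    (hA₁ : A₁ ≤ A) (hA₂ : A₂ ≤ A) (hc₁ : Nat.card A₁ = p) (hc₂ : Nat.card A₂ = p) (hne : A₁ ≠ A₂)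
    (hAcard : Nat.card A = p ^ 2) : A₁ ⊔ A₂ = A := by
  have hp : p.Prime := Fact.out
  have hle : A₁ ⊔ A₂ ≤ A := sup_le hA₁ hA₂
  have hdvd : Nat.card (A₁ ⊔ A₂ : Subgroup G) ∣ p ^ 2 := by
    rw [← hAcard]; exact Subgroup.card_dvd_of_le hle
  obtain ⟨m, hm, hcard⟩ := (Nat.dvd_prime_pow hp).mp hdvd
  have h1 : p ∣ Nat.card (A₁ ⊔ A₂ : Subgroup G) := by
    rw [← hc₁]; exact Subgroup.card_dvd_of_le le_sup_left
  have hm2 : m = 2 := by
    interval_cases m
    · rw [hcard, pow_zero] at h1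
      exact absurd (Nat.le_of_dvd (by norm_num) h1) (by have := hp.one_lt; omega)
    · exfalso
      rw [pow_one] at hcard
      have e1 : A₁ = A₁ ⊔ A₂ :=
        Subgroup.eq_of_le_of_card_ge le_sup_left (by rw [hcard, hc₁])
      have e2 : A₂ = A₁ ⊔ A₂ :=
        Subgroup.eq_of_le_of_card_ge le_sup_right (by rw [hcard, hc₂])
      exact hne (e1.trans e2.symm)
    · rfl
  rw [hm2] at hcard
  exact Subgroup.eq_of_le_of_card_ge hle (by rw [hcard, hAcard])

/-- (E) for all of `A`: from Shult's lemma for two regular points generating `A`. -/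
theorem comm_mem_centralizer_of_two_regular [Finite G] (hE : ShultE G) (p q : ℕ) [Fact p.Prime]
    [Fact q.Prime] (hqp : q ≠ p) (hq2 : q ≠ 2) (K A A₁ A₂ B : Subgroup G)
    (hKnil : Group.IsNilpotent K) (hKp : (Nat.card K).Coprime p) (hKq : (Nat.card K).Coprime q)
    (hA₁ : A₁ ≤ A) (hA₂ : A₂ ≤ A) (hc₁ : Nat.card A₁ = p) (hc₂ : Nat.card A₂ = p) (hne : A₁ ≠ A₂)
    (hAcard : Nat.card A = p ^ 2)
    (hf₁ : K ⊓ Subgroup.centralizer (A₁ : Set G) = ⊥)
    (hf₂ : K ⊓ Subgroup.centralizer (A₂ : Set G) = ⊥)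
    (hAK : A ≤ Subgroup.normalizer (K : Set G)) (hB : IsPGroup q B)
    (hBK : B ≤ Subgroup.normalizer (K : Set G)) (hAB : A ≤ Subgroup.normalizer (B : Set G)) :
    ∀ a ∈ A, ∀ b ∈ B, b⁻¹ * (a * b * a⁻¹) ∈ Subgroup.centralizer (K : Set G) := by
  have h1 : A₁ ≤ commCentSubgroup K B := fun x hx =>
    ⟨hAK (hA₁ hx), hE p q hqp hq2 K A₁ B hKnil hKp hKq hc₁ (hA₁.trans hAK) hf₁ hB hBK
      (hA₁.trans hAB) x hx⟩
  have h2 : A₂ ≤ commCentSubgroup K B := fun x hx =>
    ⟨hAK (hA₂ hx), hE p q hqp hq2 K A₂ B hKnil hKp hKq hc₂ (hA₂.trans hAK) hf₂ hB hBK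
      (hA₂.trans hAB) x hx⟩
  have h3 : A ≤ commCentSubgroup K B := by
    rw [← sup_eq_of_card_prime_sq p hA₁ hA₂ hc₁ hc₂ hne hAcard]
    exact sup_le h1 h2
  intro a ha
  exact (h3 ha).2

/-- The facts of B&G §11 other than Theorem 11.5, for all exceptional tuples. -/
def Sec11a (G : Type*) [Group G] : Prop :=
  ∀ (M : Subgroup G) (p : ℕ) [Fact p.Prime] (A₀ A : Subgroup G), IsExceptional M p A₀ A →
    Group.IsNilpotent (sigmaCore M) ∧ sigmaCore M ≠ ⊥ ∧
    (∀ P : Sylow p M, IsMulCommutative (P : Subgroup M)) ∧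
    sigmaCore M ⊓ Subgroup.centralizer (A : Set G) = ⊥ ∧
    ∃ A₁ A₂ : Subgroup G, A₁ ≤ A ∧ A₂ ≤ A ∧ Nat.card A₁ = p ∧ Nat.card A₂ = p ∧ A₁ ≠ A₂ ∧
      sigmaCore M ⊓ Subgroup.centralizer (A₁ : Set G) = ⊥ ∧
      sigmaCore M ⊓ Subgroup.centralizer (A₂ : Set G) = ⊥

/-- In a solvable `M` whose `p`-subgroups have rank `≤ 2` and whose `q`-subgroups are abelian,
`p + 2 ≤ q`, every `p`-subgroup normalizes some Sylow `q`-subgroup of `M`. -/
def SylowNormalized (G : Type*) [Group G] : Prop :=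
  ∀ (p q : ℕ) [Fact p.Prime] [Fact q.Prime], p ≠ 2 → p + 2 ≤ q → ∀ (M P : Subgroup G),
    Group.IsSolvable M → P ≤ M → IsPGroup p P →
    (∀ R : Subgroup G, R ≤ M → IsPGroup p R → RankLETwo p R) →
    (∀ Q : Subgroup G, Q ≤ M → IsPGroup q Q → ∀ x ∈ Q, ∀ y ∈ Q, x * y = y * x) →
    ∃ Q₁ : Subgroup G, Q₁ ≤ M ∧ IsPGroup q Q₁ ∧ ¬ q ∣ Q₁.relIndex M ∧
      P ≤ Subgroup.normalizer (Q₁ : Set G)

/-- Every `q`-subgroup of `M` is abelian when the Sylow `q`-subgroups of `M` are. -/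
theorem comm_of_sylow_comm [Finite G] (q : ℕ) [Fact q.Prime] (M : Subgroup G)
    (h : ∀ P : Sylow q M, IsMulCommutative (P : Subgroup M)) (Q : Subgroup G) (hQM : Q ≤ M)
    (hQ : IsPGroup q Q) : ∀ x ∈ Q, ∀ y ∈ Q, x * y = y * x := by
  obtain ⟨S, hS⟩ := Cfsg.Agent.Lib.Helper54.exists_sylow_map_ge hQM hQ
  intro x hx y hy
  obtain ⟨x', hx', rfl⟩ := hS hx
  obtain ⟨y', hy', rfl⟩ := hS hy
  have h1 : (⟨x', hx'⟩ : (S : Subgroup M)) * ⟨y', hy'⟩ = ⟨y', hy'⟩ * ⟨x', hx'⟩ :=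
    (h S).is_comm.comm _ _
  have h2 : x' * y' = y' * x' := congrArg Subtype.val h1
  rw [← map_mul, ← map_mul, h2]

/-- Core of MODULE Y: `A` centralizes `Ω₁(O_q(M))`. -/
theorem exc_centralizes_omega_pcOf [Finite G] (hG : IsMinSimpleOddOrder G) (hU : UniquenessThm G)
    (hPL : ∀ (r : ℕ) [Fact r.Prime] (H : Subgroup G), H ≠ ⊤ → PLengthLE r 1 H)
    (h1411 : ∀ (r : ℕ) [Fact r.Prime] (P : Sylow r G), (P : Subgroup G) ≤
      ⁅Subgroup.normalizer ((P : Subgroup G) : Set G), Subgroup.normalizer ((P : Subgroup G) : Set G)⁆)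
    (h11 : Sec11a G) (hE : ShultE G) (hL1 : SylowNormalized G)
    (M : Subgroup G) (p : ℕ) [Fact p.Prime] (A₀ A : Subgroup G) (hexc : IsExceptional M p A₀ A)
    (q : ℕ) [Fact q.Prime] (hqp : q ≠ p) (hqσ : q ∉ sigma M) (hp2 : p ≠ 2) (hq2 : q ≠ 2)
    (a : G) (ha : a ∈ A) (y₀ : G) (hy₀ : y₀ ∈ pcOf q M) (hy₀q : y₀ ^ q = 1) :
    a * y₀ = y₀ * a := by
  have hs : IsSimpleGroup G := hG.2.1
  have hM : IsCoatom M := hexc.coatom
  have hp : p.Prime := Fact.out
  have hq : q.Prime := Fact.out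
  have hMs : Group.IsSolvable M := hG.2.2.2 M hM.1
  set Y := pcOf q M with hY
  set K := sigmaCore M with hK
  have hYM : Y ≤ M := Cfsg.Agent.Lib.Helper54.pcOf_le q M
  have hYq : IsPGroup q Y := Cfsg.Agent.Lib.Helper54.pcOf_isPGroup q M
  have hMY : M ≤ Subgroup.normalizer (Y : Set G) := Cfsg.Agent.Lib.Helper54.le_normalizer_pcOf q M
  have hMK : M ≤ Subgroup.normalizer (K : Set G) := Cfsg.Agent.Lib.Helper54.le_normalizer_sigmaCore M
  have hKM : K ≤ M := Cfsg.Agent.Lib.Helper54.sigmaCore_le M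
  have hAM : A ≤ M := hexc.le
  have hAp : IsPGroup p A := hexc.isPGroup
  have hap : a ^ p = 1 := hexc.elemAb.2 a ha
  by_contra hne
  have hY1 : Y ≠ ⊥ := by
    intro h
    rw [h, Subgroup.mem_bot] at hy₀
    apply hne
    rw [hy₀, mul_one, one_mul]
  have hNY : Subgroup.normalizer (Y : Set G) ≤ M := normalizer_le_of_coatom hs hM hY1 hYM hMY
  have hτ : q ∈ tau2 M :=
    (Cfsg.Agent.Lib.Helper54.mem_sigma_or_tau2_of_normalizer_le hG hU M hM q Y hYq hY1
      hNY).resolve_left hqσ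
  obtain ⟨-, -, hr2, hr1⟩ := hτ
  obtain ⟨hKnil, hK1, -, -, A₁, A₂, hA₁, hA₂, hc₁, hc₂, hne12, hf₁, hf₂⟩ := h11 M p A₀ A hexc
  have hKπ := Cfsg.Agent.Lib.Helper54.sigmaCore_isPi M
  have hKp : (Nat.card K).Coprime p :=
    (Nat.Coprime.symm ((Nat.Prime.coprime_iff_not_dvd hp).mpr
      (fun h => hexc.not_sigma (hKπ p hp h))))
  have hKq : (Nat.card K).Coprime q :=
    (Nat.Coprime.symm ((Nat.Prime.coprime_iff_not_dvd hq).mpr (fun h => hqσ (hKπ q hq h))))
  -- `Y` centralizes `K`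
  have hYKbot : Y ⊓ K = ⊥ := by
    apply disjoint_iff.mp
    apply Subgroup.disjoint_of_coprime_natCard
    obtain ⟨n, hn⟩ := hYq.exists_card_eq
    rw [hn]
    exact Nat.Coprime.pow_left n hKq.symm
  have hYK : Y ≤ Subgroup.centralizer (K : Set G) := by
    intro y hy
    rw [Subgroup.mem_centralizer_iff]
    intro k hk
    have h1 : y * k * y⁻¹ * k⁻¹ ∈ Y ⊓ K := by
      refine ⟨?_, ?_⟩
      · have h2 : k * y⁻¹ * k⁻¹ ∈ Y :=
          (Subgroup.mem_normalizer_iff.mp (hMY (hKM hk)) _).mp (Y.inv_mem hy)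
        have e : y * k * y⁻¹ * k⁻¹ = y * (k * y⁻¹ * k⁻¹) := by group
        rw [e]
        exact Y.mul_mem hy h2
      · have h2 : y * k * y⁻¹ ∈ K := (Subgroup.mem_normalizer_iff.mp (hMK (hYM hy)) _).mp hk
        exact K.mul_mem h2 (K.inv_mem hk)
    rw [hYKbot, Subgroup.mem_bot] at h1
    have e : k * y = (y * k * y⁻¹ * k⁻¹)⁻¹ * (y * k) := by group
    rw [e, h1, inv_one, one_mul]
  -- `W = Ω₁(Z(Y))`
  set W := omegaCenter Y q with hW
  have hW1 : W ≠ ⊥ := omegaCenter_ne_bot Y q hYq hY1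
  have hWY : W ≤ Y := omegaCenter_le Y q
  have hWM : W ≤ M := hWY.trans hYM
  have hMW : M ≤ Subgroup.normalizer (W : Set G) :=
    hMY.trans (normalizer_le_normalizer_omegaCenter Y q)
  have hWel : IsElementaryAbelian q W := omegaCenter_isElementaryAbelian Y q
  have hWq : IsPGroup q W := omegaCenter_isPGroup Y q
  have hWK : W ≤ Subgroup.centralizer (K : Set G) := hWY.trans hYK
  have hNW : Subgroup.normalizer (W : Set G) ≤ M := normalizer_le_of_coatom hs hM hW1 hWM hMW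
  -- rank bound for elementary abelian `q`-subgroups of `M`
  have hrk : ∀ B' : Subgroup G, B' ≤ M → IsElementaryAbelian q B' → Nat.card B' ≤ q ^ 2 := by
    intro B' hB'M hB'el
    by_contra hlt
    rw [not_le] at hlt
    exact Cfsg.Agent.Lib.Helper54.not_pRankLE_of_elemAb hB'M
      (fun x hx y hy => Cfsg.Agent.Lib.Helper45.IsElementaryAbelian_comm hB'el hx hy) hB'el.2 hlt hr2
  obtain ⟨n, hn⟩ := hWq.exists_card_eq
  have hn0 : n ≠ 0 := by
    rintro rfl
    rw [pow_zero] at hn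
    exact hW1 (Subgroup.card_eq_one.mp hn)
  have hn2 : n ≤ 2 := by
    have h1 := hrk W hWM hWel
    rw [hn] at h1
    exact (Nat.pow_le_pow_iff_right hq.one_lt).mp h1
  have hn12 : n = 1 ∨ n = 2 := by omega
  rcases hn12 with rfl | rfl
  swap
  · exact not_normal_sq_centralizing hG hU q (hPL q) M hM hKnil hK1 hqσ W hWM hWel hn hMW hWK
  rw [pow_one] at hn
  -- the exceptional tuple for `q`
  obtain ⟨B₁, hexc₁⟩ := exists_exceptional_of_normal_prime hG q M hM hqσ hr2 hr1 W hWM hn hMW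
  obtain ⟨-, -, hQab, -, -⟩ := h11 M q W B₁ hexc₁
  have hqab := comm_of_sylow_comm q M hQab
  have hy₀W : y₀ ∈ W := mem_omegaCenter_of_comm (hqab Y hYM hYq) hy₀ hy₀q
  have haW : a ∈ Subgroup.normalizer (W : Set G) := hMW (hAM ha)
  have hWrank : RankLETwo q W :=
    Cfsg.Agent.Lib.Helper24.rankLETwo_of_pRankLE q W
      (Cfsg.Agent.Lib.Helper54.pRankLE_of_le hWM hr2)
  have hpq : p + 2 ≤ q := by
    apply add_two_le_of_not_coprime_card_GL2 hp hq hp2 hq2 hqp.symm
    intro hc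
    apply hne
    have ha1 : a ≠ 1 := by
      rintro rfl
      exact hne (by rw [one_mul, mul_one])
    have hord : orderOf a = p := by
      have h1 : orderOf a ∣ p := orderOf_dvd_of_pow_eq_one hap
      rcases (Nat.dvd_prime hp).mp h1 with h | h
      · exact absurd (orderOf_eq_one_iff.mp h) ha1
      · exact h
    exact Cfsg.Agent.Lib.Helper24.centralizes_of_rankLETwo_of_coprime_card_GL2 q hq2 a
      (by rw [hord]; exact hc) W hWq hWrank haW y₀ hy₀W
  -- `A` normalizes a Sylow `q`-subgroup `Q₁` of `M`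
  have hA₀p : IsPGroup p A₀ := hAp.to_le hexc.le₀
  have hpτ : p ∈ tau2 M :=
    (Cfsg.Agent.Lib.Helper54.mem_sigma_or_tau2_of_normalizer_le hG hU M hM p A₀ hA₀p hexc.ne_bot₀
      hexc.norm).resolve_left hexc.not_sigma
  have hpr2 : PRankLE p 2 M := hpτ.2.2.1
  have hrank : ∀ R : Subgroup G, R ≤ M → IsPGroup p R → RankLETwo p R := fun R hR _ =>
    Cfsg.Agent.Lib.Helper24.rankLETwo_of_pRankLE p R (Cfsg.Agent.Lib.Helper54.pRankLE_of_le hR hpr2)
  obtain ⟨Q₁, hQ₁M, hQ₁q, hQ₁syl, hAQ₁⟩ := hL1 p q hp2 hpq M A hMs hAM hAp hrank hqab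
  have hQ₁ab := hqab Q₁ hQ₁M hQ₁q
  have hQ₁sub : IsPGroup q (Q₁.subgroupOf M) := Cfsg.Agent.Lib.Helper54.isPGroup_subgroupOf hQ₁M hQ₁q
  set Q₁' : Sylow q M := hQ₁sub.toSylow hQ₁syl with hQ₁'
  have hQ₁'map : (Q₁' : Subgroup M).map M.subtype = Q₁ := by
    show (Q₁.subgroupOf M).map M.subtype = Q₁
    exact Subgroup.map_subgroupOf_eq_of_le hQ₁M
  have hYQ₁ : Y ≤ Q₁ := by
    rw [← hQ₁'map]; exact pcOf_le_sylow_map q M Q₁'
  -- `B = Ω₁(Q₁)`
  set B := omegaCenter Q₁ q with hB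
  have hBel : IsElementaryAbelian q B := omegaCenter_isElementaryAbelian Q₁ q
  have hBq : IsPGroup q B := omegaCenter_isPGroup Q₁ q
  have hBQ₁ : B ≤ Q₁ := omegaCenter_le Q₁ q
  have hBM : B ≤ M := hBQ₁.trans hQ₁M
  have hAB : A ≤ Subgroup.normalizer (B : Set G) :=
    hAQ₁.trans (normalizer_le_normalizer_omegaCenter Q₁ q)
  have hWB : W ≤ B := fun w hw =>
    mem_omegaCenter_of_comm hQ₁ab (hYQ₁ (hWY hw)) (hWel.2 w hw)
  have hBle : Nat.card B ≤ q ^ 2 := hrk B hBM hBel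
  have hBge : q ^ 2 ≤ Nat.card B := by
    obtain ⟨E, hEM, hEc, hEe, hEcard⟩ :=
      Cfsg.Agent.Lib.Helper54.exists_elemAb_of_not_pRankLE q 1 M hr1
    have hEq : IsPGroup q E := by
      rintro ⟨x, hx⟩
      refine ⟨1, ?_⟩
      apply Subtype.ext
      rw [pow_one, Subgroup.coe_pow, Subgroup.coe_one]
      exact hEe x hx
    obtain ⟨S, hES⟩ := Cfsg.Agent.Lib.Helper54.exists_sylow_map_ge hEM hEq
    obtain ⟨k, -, hk⟩ := Cfsg.Agent.Lib.Helper54.exists_conj_sylow M S Q₁'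
    have h1 : MulAut.conj (k : G) • E ≤ Q₁ := by
      rw [← hQ₁'map, ← hk]
      exact Cfsg.Agent.Lib.Helper54.conj_smul_le_conj_smul hES
    have h2 : MulAut.conj (k : G) • E ≤ B := by
      intro x hx
      refine mem_omegaCenter_of_comm hQ₁ab (h1 hx) ?_
      rw [Cfsg.Agent.Lib.Helper54.mem_conj_smul_iff] at hx
      have h3 := hEe _ hx
      have h4 : ((k : G)⁻¹ * x * (k : G)) ^ q = (k : G)⁻¹ * x ^ q * (k : G) := by
        have := conj_pow (a := (k : G)⁻¹) (b := x) (i := q)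
        rw [inv_inv] at this
        exact this
      rw [h4] at h3
      have h5 : x ^ q = (k : G) * ((k : G)⁻¹ * x ^ q * (k : G)) * (k : G)⁻¹ := by group
      rw [h5, h3]; group
    have h3 : Nat.card (MulAut.conj (k : G) • E : Subgroup G) = Nat.card E :=
      Cfsg.Agent.Lib.Helper54.card_conj_smul _ E
    have h4 : Nat.card E ≤ Nat.card B := by
      rw [← h3]
      exact Nat.le_of_dvd Nat.card_pos (Subgroup.card_dvd_of_le h2)
    have h5 : q ^ (1 + 1) ≤ Nat.card E := hEcard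
    exact h5.trans h4
  have hBcard : Nat.card B = q ^ 2 := le_antisymm hBle hBge
  have hexcB : IsExceptional M q W B := ⟨hM, hqσ, hBM, hBel, hBcard, hWB, hn, hNW⟩
  obtain ⟨-, -, -, hKB, -⟩ := h11 M q W B hexcB
  -- (E) for all of `A`
  have hcomm := comm_mem_centralizer_of_two_regular hE p q hqp hq2 K A A₁ A₂ B hKnil hKp hKq hA₁ hA₂
    hc₁ hc₂ hne12 hexc.card hf₁ hf₂ (hAM.trans hMK) hBq (hBM.trans hMK) hAB
  have hBK_ne : ¬ B ≤ Subgroup.centralizer (K : Set G) := by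
    intro h
    have h1 : K ≤ Subgroup.centralizer (B : Set G) := by
      intro k hk
      rw [Subgroup.mem_centralizer_iff]
      intro b hb
      exact (Subgroup.mem_centralizer_iff.mp (h hb) k hk).symm
    have h2 : K ⊓ Subgroup.centralizer (B : Set G) = K := inf_eq_left.mpr h1
    rw [h2] at hKB
    exact hK1 hKB
  have hBCK : B ⊓ Subgroup.centralizer (K : Set G) = W := by
    symm
    apply Subgroup.eq_of_le_of_card_ge (le_inf hWB hWK)
    have hd : Nat.card (B ⊓ Subgroup.centralizer (K : Set G) : Subgroup G) ∣ q ^ 2 := by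
      rw [← hBcard]; exact Subgroup.card_dvd_of_le inf_le_left
    obtain ⟨m, hm, hcard⟩ := (Nat.dvd_prime_pow hq).mp hd
    rw [hn, hcard]
    interval_cases m
    · rw [pow_zero]; exact hq.one_lt.le
    · rw [pow_one]
    · exfalso
      apply hBK_ne
      have h1 : B ⊓ Subgroup.centralizer (K : Set G) = B :=
        Subgroup.eq_of_le_of_card_ge inf_le_left (by rw [hcard, hBcard])
      rw [← h1]
      exact inf_le_right
  have hb_all : ∀ a' ∈ A, ∀ b ∈ B, b⁻¹ * (a' * b * a'⁻¹) ∈ W := by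
    intro a' ha' b hb
    rw [← hBCK]
    refine ⟨B.mul_mem (B.inv_mem hb) ?_, hcomm a' ha' b hb⟩
    exact (Subgroup.mem_normalizer_iff.mp (hAB ha') b).mp hb
  -- a point of `B ∖ W` centralized by `A`
  have hWltB : W < B := by
    refine lt_of_le_of_ne hWB ?_
    intro h
    rw [h, hBcard] at hn
    have : q < q ^ 2 := by
      calc q = q ^ 1 := (pow_one q).symm
        _ < q ^ 2 := Nat.pow_lt_pow_right hq.one_lt (by norm_num)
    omega
  obtain ⟨b, hbB, hbW⟩ := SetLike.exists_of_lt hWltB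
  have hpW : ¬ p ∣ Nat.card W := by
    rw [hn]
    intro h
    exact hqp ((Nat.prime_dvd_prime_iff_eq hp hq).mp h).symm
  obtain ⟨w, hw, hfix⟩ := exists_fixed_in_coset p A W hAp hpW (hAM.trans hMW) b
    (fun a' ha' => hb_all a' ha' b hbB)
  have hcB : b * w ∈ B := B.mul_mem hbB (hWB hw)
  have hcW : b * w ∉ W := by
    intro h
    apply hbW
    have e : b = (b * w) * w⁻¹ := by group
    rw [e]
    exact W.mul_mem h (W.inv_mem hw)
  have hc1 : b * w ≠ 1 := by
    intro h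
    apply hcW
    rw [h]
    exact W.one_mem
  have hcq : (b * w) ^ q = 1 := hBel.2 _ hcB
  have hcC : b * w ∈ Subgroup.centralizer (A : Set G) := by
    rw [Subgroup.mem_centralizer_iff]
    intro a' ha'
    exact hfix a' ha'
  have hqC : q ∣ Nat.card (Subgroup.centralizer (A : Set G)) := by
    have h1 : orderOf (b * w) = q := orderOf_eq_prime hcq hc1
    have h2 : orderOf (⟨b * w, hcC⟩ : Subgroup.centralizer (A : Set G)) = q := by
      rw [← h1]
      exact Subgroup.orderOf_mk _ _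
    rw [← h2]
    exact orderOf_dvd_natCard _
  -- a maximal `A`-invariant `q`-subgroup over `B`
  have hBinv : B ∈ invSubgroups ⊤ A {q} :=
    (Cfsg.Agent.Lib.Helper54.mem_invSubgroups_iff A q).mpr ⟨hBq, hAB⟩
  obtain ⟨Q, hQmax, hBQ⟩ := Cfsg.Agent.Lib.Helper54.exists_maxInv_ge A q hBinv
  have hQq : IsPGroup q Q := ((Cfsg.Agent.Lib.Helper54.mem_invSubgroups_iff A q).mp hQmax.1).1
  have hBmax : ∀ B' : Subgroup G, IsElementaryAbelian q B' → B ≤ B' → B' = B := fun B' hB' hle =>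
    Cfsg.Agent.Lib.Helper34.eq_of_le_isElementaryAbelian hU hM hqσ hBM hBel hBcard hB' hle
  have hQn : IsNarrow q ↥Q := isNarrow_of_le_of_maxElemAb q hq2 Q B hQq hBQ hBel hBcard hBmax
  have hAnc : ¬ RankLE 1 ↥(A ⊓ Subgroup.centralizer (A : Set G)) := by
    apply Cfsg.Agent.Lib.Helper34.not_rankLE_of_isElementaryAbelian hexc.elemAb
      (le_inf le_rfl hexc.le_centralizer)
    rw [hexc.card]
    exact Nat.pow_lt_pow_right hp.one_lt (by norm_num)
  have hAmax : ∀ x ∈ Subgroup.centralizer (A : Set G), x ^ p = 1 ↔ x ∈ A := fun x hx =>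
    ⟨fun hxp => hexc.mem_of_pow_eq_one hG hU hx hxp, fun hxA => hexc.elemAb.2 x hxA⟩
  have hACQ : A ≤ Subgroup.centralizer (Q : Set G) :=
    le_centralizer_of_maxInv_narrow hG p q hqp.symm A hAp hexc.elemAb.1 hexc.ne_bot hAnc hAmax
      (hPL p) (h1411 p) Q hQmax hqC hQn
  exact hne (Subgroup.mem_centralizer_iff.mp (hACQ ha) y₀ (hBQ (hWB hy₀W))).symm

/-- **MODULE Y of B&G Theorem 11.5.**  `A` centralizes `O_q(M)` for every prime `q ≠ p` outside
`σ(M)`. -/
theorem exc_centralizes_pcOf [Finite G] (hG : IsMinSimpleOddOrder G) (hU : UniquenessThm G)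
    (hPL : ∀ (r : ℕ) [Fact r.Prime] (H : Subgroup G), H ≠ ⊤ → PLengthLE r 1 H)
    (h1411 : ∀ (r : ℕ) [Fact r.Prime] (P : Sylow r G), (P : Subgroup G) ≤
      ⁅Subgroup.normalizer ((P : Subgroup G) : Set G), Subgroup.normalizer ((P : Subgroup G) : Set G)⁆)
    (h11 : Sec11a G) (hE : ShultE G) (hL1 : SylowNormalized G)
    (M : Subgroup G) (p : ℕ) [Fact p.Prime] (A₀ A : Subgroup G) (hexc : IsExceptional M p A₀ A)
    (q : ℕ) [Fact q.Prime] (hqp : q ≠ p) (hqσ : q ∉ sigma M) :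
    A ≤ Subgroup.centralizer (pcOf q M : Set G) := by
  have hodd : Odd (Nat.card G) := hG.1
  have hM : IsCoatom M := hexc.coatom
  have hp : p.Prime := Fact.out
  have hq : q.Prime := Fact.out
  set Y := pcOf q M with hY
  have hYq : IsPGroup q Y := Cfsg.Agent.Lib.Helper54.pcOf_isPGroup q M
  have hMY : M ≤ Subgroup.normalizer (Y : Set G) := Cfsg.Agent.Lib.Helper54.le_normalizer_pcOf q M
  have hAM : A ≤ M := hexc.le
  have hp2 : p ≠ 2 := by
    rintro rfl
    have h1 : 2 ∣ Nat.card A := by rw [hexc.card]; exact dvd_pow_self 2 (by norm_num)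
    have h2 : 2 ∣ Nat.card G := h1.trans (Subgroup.card_subgroup_dvd_card A)
    exact (Nat.not_even_iff_odd.mpr hodd) (even_iff_two_dvd.mpr h2)
  by_cases hY1 : Y = ⊥
  · rw [hY1]
    intro a _
    rw [Subgroup.mem_centralizer_iff]
    intro y hy
    have : y = 1 := by simpa using hy
    rw [this, one_mul, mul_one]
  have hqY : q ∣ Nat.card Y := by
    obtain ⟨n, hn⟩ := hYq.exists_card_eq
    have hn0 : n ≠ 0 := by
      rintro rfl
      rw [pow_zero] at hn
      exact hY1 (Subgroup.card_eq_one.mp hn)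
    rw [hn]; exact dvd_pow_self q hn0
  have hq2 : q ≠ 2 := by
    rintro rfl
    have h2 : 2 ∣ Nat.card G := hqY.trans (Subgroup.card_subgroup_dvd_card Y)
    exact (Nat.not_even_iff_odd.mpr hodd) (even_iff_two_dvd.mpr h2)
  -- reduction to `Ω₁(Y)` by the `Ω₁`-lemma
  intro a ha
  rw [Subgroup.mem_centralizer_iff]
  intro y hy
  have hap : a ^ p = 1 := hexc.elemAb.2 a ha
  have hcop : (orderOf a).Coprime q := by
    have h1 : orderOf a ∣ p := orderOf_dvd_of_pow_eq_one hap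
    exact Nat.Coprime.coprime_dvd_left h1 ((Nat.coprime_primes hp hq).mpr hqp.symm)
  have haY : a ∈ Subgroup.normalizer (Y : Set G) := hMY (hAM ha)
  have key : ∀ x ∈ Y, x ^ q = 1 → a * x = x * a := fun y₀ hy₀ hy₀q =>
    exc_centralizes_omega_pcOf hG hU hPL h1411 h11 hE hL1 M p A₀ A hexc q hqp hqσ hp2 hq2 a ha y₀
      hy₀ hy₀q
  exact (Cfsg.Agent.Lib.Helper24.centralizes_of_centralizes_omega q hq2 a hcop Y hYq haY key y hy).symm

end Cfsg.Agent.Lib.Helper68
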