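import Mathlib
import Cfsg.Prelude.Def_OddOrderLocal
import Cfsg.Agent.Lib.Helper68.BGElevenN
import Cfsg.Agent.Lib.Helper54.BGElevenD
import Cfsg.Agent.Lib.Helper55.BGElevenF
import Cfsg.Agent.Lib.Helper62.PiHall

/-!
# Bender–Glauberman Theorem 11.5 (`M_σ A ⊴ M`): final assembly

* `sylowNormalized` : in a solvable group whose `p`-subgroups have rank `≤ 2` and whose
  `q`-subgroups are abelian (`p + 2 ≤ q`), every `p`-subgroup normalizes a Sylow `q`-subgroup
  (Hall `{p,q}`-subgroup + `C_H(F(H)) ≤ F(H)`);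
* `sec11a_of` : the package `Sec11a` from helper55's `Exc.*` lemmas;
* `exc_normal` : `M ≤ N_G(M_σ A)` for every exceptional tuple, from helper54's MODULE R and MODULE Y;
* `sec11` : helper21's `Sec11 G`.
-/

set_option autoImplicit false

namespace Cfsg.Agent.Lib.Helper68

open Cfsg
open scoped Pointwise
open Cfsg.Agent.Lib.Helper54 (IsExceptional pcOf)
open Cfsg.Agent.Lib.Helper34 (UniquenessThm)
open Cfsg.Agent.Lib.Helper24 (RankLETwo)

variable {G : Type*} [Group G]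

/-- In a solvable `{p,q}`-group `H` (`p + 2 ≤ q` primes, `p` odd) all of whose `p`-subgroups have rank
`≤ 2`, an abelian Sylow `q`-subgroup is normal. -/
theorem hall_pq_normal_sylow [Finite G] (p q : ℕ) [Fact p.Prime] [Fact q.Prime] (hp2 : p ≠ 2)
    (hpq : p + 2 ≤ q) (H Q₁ : Subgroup G) (hHs : Group.IsSolvable H)
    (hHpq : ∀ r : ℕ, r.Prime → r ∣ Nat.card H → r = p ∨ r = q)
    (hrank : ∀ R : Subgroup G, R ≤ H → IsPGroup p R → RankLETwo p R)
    (hQ₁H : Q₁ ≤ H) (hQ₁q : IsPGroup q Q₁) (hQ₁ab : ∀ x ∈ Q₁, ∀ y ∈ Q₁, x * y = y * x)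
    (hQ₁syl : ¬ q ∣ Q₁.relIndex H) :
    H ≤ Subgroup.normalizer (Q₁ : Set G) := by
  have hp : p.Prime := Fact.out
  have hq : q.Prime := Fact.out
  have hQ₁sub : IsPGroup q (Q₁.subgroupOf H) :=
    Cfsg.Agent.Lib.Helper54.isPGroup_subgroupOf hQ₁H hQ₁q
  set Q₁' : Sylow q H := hQ₁sub.toSylow hQ₁syl with hQ₁'
  have hQ₁'map : (Q₁' : Subgroup H).map H.subtype = Q₁ := by
    show (Q₁.subgroupOf H).map H.subtype = Q₁
    exact Subgroup.map_subgroupOf_eq_of_le hQ₁H
  have hqH : pcOf q H ≤ Q₁ := by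
    rw [← hQ₁'map]; exact pcOf_le_sylow_map q H Q₁'
  have h1 : ∀ r : ℕ, r.Prime → pcOf r H ≤ Subgroup.centralizer (Q₁ : Set G) := by
    intro r hr
    have : Fact r.Prime := ⟨hr⟩
    by_cases hrp : r = p
    · subst hrp
      intro y hy
      rw [Subgroup.mem_centralizer_iff]
      intro x hx
      have hxN : x ∈ Subgroup.normalizer (pcOf r H : Set G) :=
        Cfsg.Agent.Lib.Helper54.le_normalizer_pcOf r H (hQ₁H hx)
      obtain ⟨k, hk⟩ := hQ₁q ⟨x, hx⟩
      have hxk : x ^ q ^ k = 1 := by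
        have := congrArg Subtype.val hk
        simpa using this
      have hord : orderOf x ∣ q ^ k := orderOf_dvd_of_pow_eq_one hxk
      obtain ⟨j, -, hj⟩ := (Nat.dvd_prime_pow hq).mp hord
      have hcop : (orderOf x).Coprime ((r ^ 2 - 1) * (r ^ 2 - r)) := by
        rw [hj]; exact coprime_card_GL2_of_lt hp hq hpq j
      exact Cfsg.Agent.Lib.Helper24.centralizes_of_rankLETwo_of_coprime_card_GL2 r hp2 x hcop
        (pcOf r H) (Cfsg.Agent.Lib.Helper54.pcOf_isPGroup r H)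
        (hrank _ (Cfsg.Agent.Lib.Helper54.pcOf_le r H) (Cfsg.Agent.Lib.Helper54.pcOf_isPGroup r H))
        hxN y hy
    · by_cases hrq : r = q
      · subst hrq
        intro y hy
        rw [Subgroup.mem_centralizer_iff]
        intro x hx
        exact hQ₁ab x hx y (hqH hy)
      · have hbot : pcOf r H = ⊥ := by
          rw [← Subgroup.card_eq_one]
          obtain ⟨k, hk⟩ := (Cfsg.Agent.Lib.Helper54.pcOf_isPGroup r H).exists_card_eq
          by_contra hne
          have hk0 : k ≠ 0 := by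
            rintro rfl
            rw [pow_zero] at hk
            exact hne hk
          have hd : r ∣ Nat.card H := by
            have h1 : r ∣ Nat.card (pcOf r H) := by rw [hk]; exact dvd_pow_self r hk0
            exact h1.trans (Subgroup.card_dvd_of_le (Cfsg.Agent.Lib.Helper54.pcOf_le r H))
          rcases hHpq r hr hd with h | h
          · exact hrp h
          · exact hrq h
        rw [hbot]; exact bot_le
  have h2 : fittingOf H ≤ Subgroup.centralizer (Q₁ : Set G) :=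
    Cfsg.Agent.Lib.Helper54.fittingOf_le_of_forall_pcOf_le h1
  have h3 : Q₁ ≤ H ⊓ Subgroup.centralizer (fittingOf H : Set G) := by
    refine le_inf hQ₁H ?_
    intro x hx
    rw [Subgroup.mem_centralizer_iff]
    intro f hf
    exact (Subgroup.mem_centralizer_iff.mp (h2 hf) x hx).symm
  have h4 : Q₁ ≤ fittingOf H := h3.trans (Cfsg.Agent.Lib.Helper54.inf_centralizer_fittingOf_le hHs)
  have h5 : Q₁ ≤ pcOf q H := Cfsg.Agent.Lib.Helper54.le_pcOf_of_isPGroup q hQ₁q h4
  have h6 : Q₁ = pcOf q H := le_antisymm h5 hqH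
  rw [h6]
  exact Cfsg.Agent.Lib.Helper54.le_normalizer_pcOf q H

/-- `SylowNormalized G` holds for every finite group. -/
theorem sylowNormalized [Finite G] : SylowNormalized G := by
  intro p q _ _ hp2 hpq M P hMs hPM hP hrank hqab
  have hp : p.Prime := Fact.out
  have hq : q.Prime := Fact.out
  have hPπ : Cfsg.Agent.Lib.Helper62.IsPiNum ({p, q} : Set ℕ) (Nat.card P) := by
    intro r hr hrd
    obtain ⟨k, hk⟩ := hP.exists_card_eq
    rw [hk] at hrd
    left
    exact (Nat.prime_dvd_prime_iff_eq hr hp).mp (hr.dvd_of_dvd_pow hrd)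
  obtain ⟨H, hHall, hPH⟩ := Cfsg.Agent.Lib.Helper62.isPiHallOf_dom hMs hPM hPπ
  obtain ⟨hHM, hHπ, hHidx⟩ := hHall
  obtain ⟨Q₀⟩ : Nonempty (Sylow q H) := inferInstance
  set Q₁ : Subgroup G := (Q₀ : Subgroup H).map H.subtype with hQ₁
  have hQ₁H : Q₁ ≤ H := Subgroup.map_subtype_le _
  have hQ₁q : IsPGroup q Q₁ := Q₀.isPGroup'.map _
  have hrel : Q₁.relIndex H = (Q₀ : Subgroup H).index := by
    rw [Subgroup.relIndex, hQ₁, Subgroup.subgroupOf,
      Subgroup.comap_map_eq_self_of_injective H.subtype_injective]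
  have hQ₁syl : ¬ q ∣ Q₁.relIndex H := by
    rw [hrel]; exact Q₀.not_dvd_index
  have hHs : Group.IsSolvable H := Cfsg.Agent.Lib.Helper54.isSolvable_of_le hHM hMs
  have hnorm := hall_pq_normal_sylow p q hp2 hpq H Q₁ hHs
    (fun r hr hrd => by
      have := hHπ r hr hrd
      rcases this with h | h
      · exact Or.inl h
      · exact Or.inr h)
    (fun R hR hRp => hrank R (hR.trans hHM) hRp) hQ₁H hQ₁q
    (hqab Q₁ (hQ₁H.trans hHM) hQ₁q) hQ₁syl
  refine ⟨Q₁, hQ₁H.trans hHM, hQ₁q, ?_, hPH.trans hnorm⟩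
  rw [← Subgroup.relIndex_mul_relIndex Q₁ H M hQ₁H hHM]
  intro hd
  rcases (Nat.Prime.dvd_mul hq).mp hd with h | h
  · exact hQ₁syl h
  · exact hHidx q hq (Or.inr rfl) h

open Cfsg.Agent.Lib.Helper55.BGEleven in
/-- The package `Sec11a G` from helper55's §11 lemmas. -/
theorem sec11a_of [Finite G] (hG : IsMinSimpleOddOrder G) (hU : UniquenessThm G)
    (hPL : ∀ (r : ℕ) [Fact r.Prime] (H : Subgroup G), H ≠ ⊤ → PLengthLE r 1 H)
    (h1412 : ∀ (r : ℕ) [Fact r.Prime], S1412Stmt G r) : Sec11a G := by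
  intro M p _ A₀ A h
  have hPLp : ∀ H : Subgroup G, H ≠ ⊤ → PLengthLE p 1 H := fun H hH => hPL p H hH
  exact ⟨Exc.sigmaCore_nilpotent h hG hU hPLp, sigmaCore_ne_bot hG hU M h.coatom,
    fun P => Exc.sylow_comm h hG hU hPLp (h1412 p) P, Exc.sigmaCore_inf_centralizer h hG hU hPLp,
    Exc.two_fpf h hG hU hPLp⟩

open Cfsg.Agent.Lib.Helper55.BGEleven in
/-- `ShultE G` is helper55's `exc_shult`. -/
theorem shultE [Finite G] : ShultE G := by
  intro p q _ _ hqp hq2 K X R hKnil hKp hKq hX hXK hfpf hR hRK hXR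
  exact exc_shult p q hqp hq2 K X R hKnil hKp hKq hX hXK hfpf hR hRK hXR

open Cfsg.Agent.Lib.Helper55.BGEleven in
/-- **Bender–Glauberman Theorem 11.5**: `M_σ A ⊴ M` for every exceptional tuple `(M, p, A₀, A)`.
Conditional on the Uniqueness Theorem (S1403), Theorem 10.6 (S1410), 10.7 (S1411) and 10.8/S1412. -/
theorem exc_normal [Finite G] (hG : IsMinSimpleOddOrder G) (hU : UniquenessThm G)
    (hPL : ∀ (r : ℕ) [Fact r.Prime] (H : Subgroup G), H ≠ ⊤ → PLengthLE r 1 H)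
    (h1411 : ∀ (r : ℕ) [Fact r.Prime] (P : Sylow r G), (P : Subgroup G) ≤
      ⁅Subgroup.normalizer ((P : Subgroup G) : Set G), Subgroup.normalizer ((P : Subgroup G) : Set G)⁆)
    (h1412 : ∀ (r : ℕ) [Fact r.Prime], S1412Stmt G r)
    (M : Subgroup G) (p : ℕ) [Fact p.Prime] (A₀ A : Subgroup G) (hexc : IsExceptional M p A₀ A) :
    M ≤ Subgroup.normalizer ((sigmaCore M ⊔ A : Subgroup G) : Set G) := by
  have hPLp : ∀ H : Subgroup G, H ≠ ⊤ → PLengthLE p 1 H := fun H hH => hPL p H hH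
  have h11 : Sec11a G := sec11a_of hG hU hPL h1412
  obtain ⟨P, hAP⟩ := Exc.exists_sylow hexc
  obtain ⟨-, hOm, -⟩ := Exc.sylow_facts hexc hG hU hPLp P hAP
  exact Cfsg.Agent.Lib.Helper54.exc_normal_of_pcore_centralized hG hU p M A₀ A hexc
    (hPL p M hexc.coatom.1) P hAP hOm
    (fun q _ hqp hqσ R hRM hR hAR => Exc.shult_all hexc hG hU hPLp q hqp hqσ R hRM hR hAR)
    (fun q _ hqp hqσ => exc_centralizes_pcOf hG hU hPL h1411 h11 shultE sylowNormalized M p A₀ A
      hexc q hqp hqσ)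

/-- helper21's package `Sec11 G`. -/
theorem sec11 [Finite G] (hG : IsMinSimpleOddOrder G) (hU : UniquenessThm G)
    (hPL : ∀ (r : ℕ) [Fact r.Prime] (H : Subgroup G), H ≠ ⊤ → PLengthLE r 1 H)
    (h1411 : ∀ (r : ℕ) [Fact r.Prime] (P : Sylow r G), (P : Subgroup G) ≤
      ⁅Subgroup.normalizer ((P : Subgroup G) : Set G), Subgroup.normalizer ((P : Subgroup G) : Set G)⁆)
    (h1412 : ∀ (r : ℕ) [Fact r.Prime], Cfsg.Agent.Lib.Helper55.BGEleven.S1412Stmt G r) :
    Cfsg.Agent.Lib.Helper21.Sec11 G :=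
  Cfsg.Agent.Lib.Helper55.BGEleven.sec11_of hG hU hPL h1412
    (fun M p _ A₀ A h => exc_normal hG hU hPL h1411 h1412 M p A₀ A h)

end Cfsg.Agent.Lib.Helper68
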