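import Mathlib
import Cfsg.Prelude.Def_OddOrderLocal
import Cfsg.Agent.Lib.Helper2.FusionComplement
import Cfsg.Agent.Lib.Helper9.NPCLemmas
import Cfsg.Agent.Lib.Helper24.OddSolvableStructure
import Cfsg.Agent.Lib.Helper96.HallDirect

/-!
# Normal `p`-complements for a set of primes: normal Hall subgroups with nilpotent complements
(helper68; tools for Bender–Glauberman 10.8)
-/

set_option autoImplicit false

namespace Cfsg.Agent.Lib.Helper68

open Cfsg

/-- `HasNormalPComplement` is invariant under isomorphism. -/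
theorem hasNormalPComplement_of_mulEquiv {X Y : Type*} [Group X] [Group Y] [Finite X] {p : ℕ}
    [hp : Fact p.Prime] (e : X ≃* Y) (h : HasNormalPComplement p X) : HasNormalPComplement p Y := by
  have : Finite Y := Finite.of_equiv X e.toEquiv
  obtain ⟨K, hKn, hKc, k, hk⟩ := Cfsg.Agent.Lib.Helper9.exists_normal_coprime_of_hasNormalPComplement h
  have hn : (K.map (e : X →* Y)).Normal := hKn.map _ e.surjective
  refine Cfsg.Agent.Lib.Helper24.hasNormalPComplement_of_normal_of_coprime_of_index p
    (K.map (e : X →* Y)) ?_ ⟨k, ?_⟩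
  · rw [Subgroup.card_map_of_injective (f := (e : X →* Y)) e.injective]
    exact hKc
  · rw [Subgroup.index_map_equiv, hk]

/-- A group of order prime to `p` has a normal `p`-complement. -/
theorem hasNormalPComplement_of_not_dvd {X : Type*} [Group X] [Finite X] {p : ℕ}
    [hp : Fact p.Prime] (h : ¬ p ∣ Nat.card X) : HasNormalPComplement p X := by
  refine Cfsg.Agent.Lib.Helper24.hasNormalPComplement_of_normal_of_coprime_of_index p ⊤ ?_ ⟨0, ?_⟩
  · rw [Subgroup.card_top]
    exact ((Nat.Prime.coprime_iff_not_dvd hp.out).mpr h).symm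
  · rw [Subgroup.index_top, pow_zero]

/-- An element of order prime to the index of a normal subgroup lies in it. -/
theorem mem_of_coprime_index {X : Type*} [Group X] (T : Subgroup X) [T.Normal] (x : X)
    (h : (T.index).Coprime (orderOf x)) : x ∈ T := by
  obtain ⟨m, hm⟩ := exists_pow_eq_self_of_coprime h
  rw [← hm]
  exact Subgroup.pow_mem _ (Subgroup.pow_index_mem T x) m

/-- A normal Hall subgroup consists of the elements killed by its order. -/
theorem mem_normal_hall_iff {X : Type*} [Group X] [Finite X] (T : Subgroup X) [T.Normal]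
    (hcop : (Nat.card T).Coprime T.index) (x : X) : x ∈ T ↔ x ^ Nat.card T = 1 := by
  constructor
  · intro hx
    have h1 : (⟨x, hx⟩ : T) ^ Nat.card T = 1 := pow_card_eq_one'
    have h2 : ((⟨x, hx⟩ : T) ^ Nat.card T : T).1 = (1 : T).1 := by rw [h1]
    rwa [Subgroup.coe_pow] at h2
  · intro hx
    apply mem_of_coprime_index
    exact (Nat.Coprime.coprime_dvd_left (orderOf_dvd_of_pow_eq_one hx) hcop).symm

/-- A finite group with normal `p`-complements for all primes is nilpotent. -/
theorem isNilpotent_of_forall_hasNormalPComplement {X : Type*} [Group X] [Finite X]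
    (h : ∀ p : ℕ, p.Prime → HasNormalPComplement p X) : Group.IsNilpotent X := by
  apply (Group.isNilpotent_of_finite_tfae.out 3 0).mp
  intro p hp P
  obtain ⟨T, hTn, hT1, hT2⟩ :=
    Cfsg.Agent.Lib.Helper96.exists_normal_hall_of_hasNormalPComplement (X := X) {q | q ≠ p}
      (fun q hq _ => h q hq)
  have hTp : IsPGroup p T := by
    have h1 : Nat.card T = p ^ (Nat.card T).primeFactorsList.length := by
      apply Nat.eq_prime_pow_of_unique_prime_dvd Nat.card_pos.ne'
      intro d hd hdT
      by_contra hne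
      exact hT1 d hd hdT hne
    exact IsPGroup.of_card h1
  have hTP : T ≤ (P : Subgroup X) := hTp.le_sylow_of_normal P
  have h1 : T.relIndex (P : Subgroup X) = 1 := by
    by_contra hne
    obtain ⟨q, hq, hqd⟩ := Nat.exists_prime_and_dvd hne
    have h2 : T.relIndex (P : Subgroup X) ∣ Nat.card (P : Subgroup X) := by
      rw [← Subgroup.card_mul_index (T.subgroupOf (P : Subgroup X))]
      exact Dvd.intro_left _ rfl
    obtain ⟨n, hn⟩ := P.isPGroup'.exists_card_eq
    rw [hn] at h2
    have h3 : q = p := (Nat.prime_dvd_prime_iff_eq hq hp.out).mp (hq.dvd_of_dvd_pow (hqd.trans h2))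
    exact hT2 q hq (hqd.trans (Subgroup.relIndex_dvd_index_of_le hTP)) h3
  have h2 : (P : Subgroup X) = T := le_antisymm (Subgroup.relIndex_eq_one.mp h1) hTP
  rw [h2]
  exact hTn

/-- If `X` has normal `p`-complements for all primes `p ∉ β`, then `X` has a normal Hall
`β`-subgroup `T` with a nilpotent complement. -/
theorem exists_normal_hall_nilpotent_compl {X : Type*} [Group X] [Finite X] (β : Set ℕ)
    (h : ∀ p : ℕ, p.Prime → p ∉ β → HasNormalPComplement p X) :
    ∃ T : Subgroup X, T.Normal ∧ (∀ p : ℕ, p.Prime → p ∣ Nat.card T → p ∈ β) ∧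
      (∀ p : ℕ, p.Prime → p ∣ T.index → p ∉ β) ∧ (Nat.card T).Coprime T.index ∧
      ∃ H : Subgroup X, T.IsComplement' H ∧ Group.IsNilpotent H := by
  obtain ⟨T, hTn, hT1, hT2⟩ :=
    Cfsg.Agent.Lib.Helper96.exists_normal_hall_of_hasNormalPComplement (X := X) βᶜ
      (fun q hq hqβ => h q hq hqβ)
  have hT1' : ∀ p : ℕ, p.Prime → p ∣ Nat.card T → p ∈ β := by
    intro p hp hpT
    by_contra hne
    exact hT1 p hp hpT hne
  have hcop : (Nat.card T).Coprime T.index :=
    Nat.coprime_of_dvd fun q hq hq1 hq2 => hT2 q hq hq2 (hT1' q hq hq1)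
  obtain ⟨H, hH⟩ := Subgroup.exists_right_complement'_of_coprime hcop
  refine ⟨T, hTn, hT1', hT2, hcop, H, hH, ?_⟩
  apply isNilpotent_of_forall_hasNormalPComplement
  intro p hp
  have hpf : Fact p.Prime := ⟨hp⟩
  by_cases hpβ : p ∈ β
  · apply hasNormalPComplement_of_not_dvd
    intro hd
    rw [← hH.symm.index_eq_card] at hd
    exact hT2 p hp hd hpβ
  · exact Cfsg.Agent.Lib.Helper2.hasNormalPComplement_subgroup (h p hp hpβ) H

end Cfsg.Agent.Lib.Helper68
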