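import Mathlib
import Cfsg.Prelude.Def_OddOrderLocal
import Cfsg.Agent.S1455
import Cfsg.Agent.Lib.Helper34.SigmaFusion
import Cfsg.Agent.Lib.Helper54.BGTransitivity
import Cfsg.Agent.Lib.Helper54.UqRank
import Cfsg.Agent.Lib.Helper68.NarrowMax
import Cfsg.Agent.Lib.Helper68.HallNPC

/-!
# Bender–Glauberman Theorem 10.8 (statement S1414), conditional on BG 10.2 (S1405), 10.6 (S1410)
and 10.7 (S1411) (helper68)

`s1414_of` takes as hypotheses exactly the consequences of S1405, S1410, S1411 that are used: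
* `M_α` is a Hall `α(M)`-subgroup of `M` and `M_α ≤ M_σ` (S1405);
* `M` has `p`-length at most one for every prime `p` (S1410);
* `P ≤ N_G(P)'` for every Sylow subgroup `P` of `G` with a complement in its normalizer (S1411).
-/

set_option autoImplicit false

namespace Cfsg.Agent.Lib.Helper68

open Cfsg
open scoped Pointwise

section

variable {G : Type*} [Group G] [Finite G]

/-- A Sylow `p`-subgroup of `G` has a complement in its normalizer (Schur–Zassenhaus), in the
vocabulary `Cfsg.IsComplIn`. -/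
theorem exists_isComplIn_sylow_normalizer {p : ℕ} [hp : Fact p.Prime] (P : Sylow p G) :
    ∃ V : Subgroup G,
      IsComplIn (P : Subgroup G) V (Subgroup.normalizer ((P : Subgroup G) : Set G)) := by
  have hPN : (P : Subgroup G) ≤ Subgroup.normalizer ((P : Subgroup G) : Set G) :=
    Subgroup.le_normalizer
  have hn : ((P : Subgroup G).subgroupOf (Subgroup.normalizer ((P : Subgroup G) : Set G))).Normal :=
    Subgroup.normal_in_normalizer
  have hcop : (Nat.card ((P : Subgroup G).subgroupOf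
      (Subgroup.normalizer ((P : Subgroup G) : Set G)))).Coprime
      ((P : Subgroup G).subgroupOf (Subgroup.normalizer ((P : Subgroup G) : Set G))).index := by
    rw [Nat.card_congr (Subgroup.subgroupOfEquivOfLe hPN).toEquiv]
    obtain ⟨n, hn'⟩ := P.isPGroup'.exists_card_eq
    rw [hn']
    apply Nat.Coprime.pow_left
    rw [Nat.Prime.coprime_iff_not_dvd hp.out]
    intro hd
    exact P.not_dvd_index (hd.trans (Subgroup.relIndex_dvd_index_of_le hPN))
  obtain ⟨H, hH⟩ := Subgroup.exists_right_complement'_of_coprime hcop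
  refine ⟨H.map (Subgroup.normalizer ((P : Subgroup G) : Set G)).subtype, hPN,
    Subgroup.map_subtype_le _, ?_, ?_⟩
  · rw [eq_bot_iff]
    rintro x ⟨hxP, ⟨h, hh, rfl⟩⟩
    have h1 : h ∈ (P : Subgroup G).subgroupOf (Subgroup.normalizer ((P : Subgroup G) : Set G)) ⊓ H :=
      ⟨Subgroup.mem_subgroupOf.mpr hxP, hh⟩
    rw [hH.disjoint.eq_bot, Subgroup.mem_bot] at h1
    rw [Subgroup.mem_bot, h1]
    rfl
  · intro m hm
    obtain ⟨⟨a, b⟩, hab⟩ := hH.2 ⟨m, hm⟩
    refine ⟨a.1.1, Subgroup.mem_subgroupOf.mp a.2, b.1.1, ⟨b.1, b.2, rfl⟩, ?_⟩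
    have := congrArg Subtype.val hab
    simpa using this.symm

/-- For `p ∈ σ(M)`, every Sylow `p`-subgroup of `M` has its `G`-normalizer in `M` and is a Sylow
`p`-subgroup of `G`. -/
theorem sylow_of_mem_sigma {M : Subgroup G} {p : ℕ} [Fact p.Prime] (hp : p ∈ sigma M)
    (S : Sylow p M) :
    Subgroup.normalizer (((S : Subgroup M).map M.subtype : Subgroup G) : Set G) ≤ M ∧
      ∃ Q : Sylow p G, (Q : Subgroup G) = (S : Subgroup M).map M.subtype := by
  obtain ⟨_, _, P₀, hP₀⟩ := hp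
  have h1 := Cfsg.Agent.Lib.Helper34.normalizer_map_sylow_le_of_exists P₀ hP₀ S
  exact ⟨h1, Cfsg.Agent.Lib.Helper34.exists_sylow_eq_map_of_normalizer_le S h1⟩

/-- With BG 10.7: for `p ∈ σ(M)` the Sylow `p`-subgroups of `M` lie in `M'`. -/
theorem sylow_le_commutator_of_mem_sigma {M : Subgroup G}
    (h1411 : ∀ (p : ℕ) [Fact p.Prime] (P : Sylow p G) (V : Subgroup G),
      IsComplIn (P : Subgroup G) V (Subgroup.normalizer ((P : Subgroup G) : Set G)) →
      (P : Subgroup G) ≤ ⁅Subgroup.normalizer ((P : Subgroup G) : Set G),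
        Subgroup.normalizer ((P : Subgroup G) : Set G)⁆)
    {p : ℕ} [Fact p.Prime] (hp : p ∈ sigma M) (S : Sylow p M) :
    (S : Subgroup M).map M.subtype ≤ ⁅M, M⁆ := by
  obtain ⟨hN, Q, hQ⟩ := sylow_of_mem_sigma hp S
  obtain ⟨V, hV⟩ := exists_isComplIn_sylow_normalizer Q
  have h2 := h1411 p Q V hV
  rw [← hQ]
  rw [← hQ] at hN
  exact h2.trans (Subgroup.commutator_mono hN hN)

omit [Finite G] in
theorem sigmaCore_le_self (M : Subgroup G) : sigmaCore M ≤ M := Subgroup.map_subtype_le _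

/-- With BG 10.7: `M_σ ≤ M'`. -/
theorem sigmaCore_le_commutator {M : Subgroup G}
    (h1411 : ∀ (p : ℕ) [Fact p.Prime] (P : Sylow p G) (V : Subgroup G),
      IsComplIn (P : Subgroup G) V (Subgroup.normalizer ((P : Subgroup G) : Set G)) →
      (P : Subgroup G) ≤ ⁅Subgroup.normalizer ((P : Subgroup G) : Set G),
        Subgroup.normalizer ((P : Subgroup G) : Set G)⁆) :
    sigmaCore M ≤ ⁅M, M⁆ := by
  by_contra hnot
  have h1 : (⁅M, M⁆.subgroupOf (sigmaCore M)) ≠ ⊤ := by
    rw [Ne, Subgroup.subgroupOf_eq_top]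
    exact hnot
  have h2 : (⁅M, M⁆.subgroupOf (sigmaCore M)).index ≠ 1 := by
    rw [Ne, Subgroup.index_eq_one]
    exact h1
  obtain ⟨p, hp, hpd⟩ := Nat.exists_prime_and_dvd h2
  have : Fact p.Prime := ⟨hp⟩
  have hpσ : p ∈ sigma M := by
    apply Cfsg.Agent.Lib.Helper54.piCoreOf_isPi (sigma M) M p hp
    show p ∣ Nat.card (sigmaCore M)
    exact hpd.trans (Subgroup.index_dvd_card _)
  obtain ⟨R⟩ : Nonempty (Sylow p ↥(sigmaCore M)) := inferInstance
  have hR : (R : Subgroup (sigmaCore M)) ≤ ⁅M, M⁆.subgroupOf (sigmaCore M) := by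
    intro x hx
    rw [Subgroup.mem_subgroupOf]
    have hRp : IsPGroup p
        (((R : Subgroup (sigmaCore M)).map (sigmaCore M).subtype).subgroupOf M) :=
      (R.isPGroup'.map _).comap_subtype
    obtain ⟨S, hS⟩ := hRp.exists_le_sylow
    apply sylow_le_commutator_of_mem_sigma h1411 hpσ S
    have hxM : (x : G) ∈ M := sigmaCore_le_self M x.2
    refine ⟨⟨x, hxM⟩, hS ?_, rfl⟩
    rw [Subgroup.mem_subgroupOf]
    exact ⟨x, hx, rfl⟩
  exact R.not_dvd_index (hpd.trans (Subgroup.index_dvd_of_le hR))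

/-- With BG 10.2: `α(M) ⊆ σ(M)`. -/
theorem mem_sigma_of_mem_alpha {M : Subgroup G}
    (hα1 : IsPiHallOf (alpha M) (alphaCore M) M) (hα2 : alphaCore M ≤ sigmaCore M) {p : ℕ}
    (hp : p ∈ alpha M) : p ∈ sigma M := by
  obtain ⟨hpp, hr⟩ := hp
  have hpM : p ∣ Nat.card M := by
    have hr' := hr
    unfold PRankLE at hr'
    push Not at hr'
    obtain ⟨B, hBc, hBe, hBcard⟩ := hr'
    have hBp : IsPGroup p B := by
      intro b
      refine ⟨1, ?_⟩
      rw [pow_one]
      apply Subtype.ext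
      simpa using hBe b b.2
    have : Fact p.Prime := ⟨hpp⟩
    obtain ⟨k, hk⟩ := hBp.exists_card_eq
    have hk0 : k ≠ 0 := by
      rintro rfl
      rw [hk, pow_zero] at hBcard
      have := Nat.one_le_pow 2 p hpp.pos
      omega
    have h1 : p ∣ Nat.card B := by
      rw [hk]
      exact dvd_pow_self p hk0
    exact h1.trans (Subgroup.card_subgroup_dvd_card B)
  have h1 : Nat.card (alphaCore M) * (alphaCore M).relIndex M = Nat.card M := by
    have := Subgroup.card_mul_index ((alphaCore M).subgroupOf M)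
    rwa [Nat.card_congr (Subgroup.subgroupOfEquivOfLe hα1.1).toEquiv] at this
  have h2 : p ∣ Nat.card (alphaCore M) := by
    rw [← h1] at hpM
    rcases (Nat.Prime.dvd_mul hpp).mp hpM with h | h
    · exact h
    · exact absurd h (hα1.2.2 p hpp ⟨hpp, hr⟩)
  exact Cfsg.Agent.Lib.Helper54.piCoreOf_isPi (sigma M) M p hpp
    (h2.trans (Subgroup.card_dvd_of_le hα2))

/-- With BG 10.2: for a prime `p ∉ β(M)` the Sylow `p`-subgroups of `M` are narrow. -/
theorem isNarrow_sylow_of_not_mem_beta (hodd : Odd (Nat.card G)) {M : Subgroup G}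
    (hα1 : IsPiHallOf (alpha M) (alphaCore M) M) (hα2 : alphaCore M ≤ sigmaCore M) {p : ℕ}
    [hpf : Fact p.Prime] (hpβ : p ∉ beta M) (S : Sylow p M) :
    IsNarrow p ↥(S : Subgroup M) := by
  have hpp : p.Prime := hpf.out
  by_cases hr : PRankLE p 2 M
  · left
    exact Cfsg.Agent.Lib.Helper54.pRankLE_of_injective (S : Subgroup M).subtype
      (Subgroup.subtype_injective _) hr
  have hpα : p ∈ alpha M := ⟨hpp, hr⟩
  have hpσ := mem_sigma_of_mem_alpha hα1 hα2 hpα
  obtain ⟨hN, Q, hQ⟩ := sylow_of_mem_sigma hpσ S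
  have hrG : ¬ PRankLE p 2 G := fun h =>
    hr (Cfsg.Agent.Lib.Helper54.pRankLE_of_injective M.subtype M.subtype_injective h)
  have hni : ¬ IsIdealPrime p G := fun h => hpβ ⟨hpα, h⟩
  unfold IsIdealPrime at hni
  push Not at hni
  obtain ⟨P₀, A, hAP, hAe, hAcard, hAmax⟩ := hni hpp hrG
  have hp2 : p ≠ 2 := by
    rintro rfl
    have h1 : 2 ∣ Nat.card G := hpσ.2.1.trans (Subgroup.card_subgroup_dvd_card M)
    exact (Nat.not_even_iff_odd.mpr hodd) (even_iff_two_dvd.mpr h1)
  have hnarrow : IsNarrow p ↥(P₀ : Subgroup G) := by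
    have hinj : Function.Injective (P₀ : Subgroup G).subtype := Subgroup.subtype_injective _
    apply isNarrow_of_maxElemAb p hp2 P₀.isPGroup'
      (fun h => hrG (Cfsg.Agent.Lib.Helper54.pRankLE_of_sylow P₀ h)) (A.subgroupOf P₀)
    · refine ⟨?_, ?_⟩
      · refine ⟨⟨?_⟩⟩
        rintro ⟨x, hx⟩ ⟨y, hy⟩
        apply Subtype.ext
        apply Subtype.ext
        rw [Subgroup.mem_subgroupOf] at hx hy
        have h1 : (⟨x.1, hx⟩ : A) * ⟨y.1, hy⟩ = ⟨y.1, hy⟩ * ⟨x.1, hx⟩ := hAe.1.is_comm.comm _ _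
        show (x : G) * (y : G) = (y : G) * (x : G)
        exact congrArg Subtype.val h1
      · intro a ha
        rw [Subgroup.mem_subgroupOf] at ha
        apply Subtype.ext
        have := hAe.2 _ ha
        simpa using this
    · rw [Nat.card_congr (Subgroup.subgroupOfEquivOfLe hAP).toEquiv, hAcard]
    · intro B' hB' hAB'
      have hBe : IsElementaryAbelian p (B'.map (P₀ : Subgroup G).subtype) := by
        refine ⟨?_, ?_⟩
        · refine ⟨⟨?_⟩⟩
          rintro ⟨_, ⟨x, hx, rfl⟩⟩ ⟨_, ⟨y, hy, rfl⟩⟩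
          apply Subtype.ext
          have h1 : (⟨x, hx⟩ : B') * ⟨y, hy⟩ = ⟨y, hy⟩ * ⟨x, hx⟩ := hB'.1.is_comm.comm _ _
          have h2 : x * y = y * x := congrArg Subtype.val h1
          show (P₀ : Subgroup G).subtype x * (P₀ : Subgroup G).subtype y =
            (P₀ : Subgroup G).subtype y * (P₀ : Subgroup G).subtype x
          rw [← map_mul, ← map_mul, h2]
        · rintro _ ⟨x, hx, rfl⟩
          rw [← map_pow, hB'.2 x hx, map_one]
      have hAB : A ≤ B'.map (P₀ : Subgroup G).subtype := by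
        intro a ha
        exact ⟨⟨a, hAP ha⟩, hAB' (Subgroup.mem_subgroupOf.mpr ha), rfl⟩
      have hBP : B'.map (P₀ : Subgroup G).subtype ≤ (P₀ : Subgroup G) := Subgroup.map_subtype_le _
      have h1 : ¬ A < B'.map (P₀ : Subgroup G).subtype := hAmax _ hBP hBe
      have h2 : A = B'.map (P₀ : Subgroup G).subtype := by
        by_contra hne
        exact h1 (lt_of_le_of_ne hAB hne)
      rw [h2]
      exact (Subgroup.comap_map_eq_self_of_injective hinj B').symm
  obtain ⟨g, hg⟩ := MulAction.exists_smul_eq G P₀ Q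
  have h3 : MulAut.conj g • (P₀ : Subgroup G) = (S : Subgroup M).map M.subtype := by
    rw [← hQ, ← hg, Sylow.smul_def, Sylow.pointwise_smul_def]
  exact isNarrow_of_mulEquiv p
    (((Subgroup.equivSMul (MulAut.conj g) (P₀ : Subgroup G)).trans (MulEquiv.subgroupCongr h3)).trans
      ((S : Subgroup M).equivMapOfInjective M.subtype M.subtype_injective).symm) hnarrow

/-- Subgroup form: if `X ≤ G` has normal `p`-complements for all primes `p ∉ β`, then `X` has a
nilpotent Hall `β'`-subgroup. -/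
theorem exists_isPiHallOf_nilpotent (X : Subgroup G) (β : Set ℕ)
    (h : ∀ p : ℕ, p.Prime → p ∉ β → HasNormalPComplement p ↥X) :
    ∃ H : Subgroup G, IsPiHallOf {q | q.Prime ∧ q ∉ β} H X ∧ Group.IsNilpotent H := by
  obtain ⟨T, hTn, hT1, hT2, hTcop, H', hH', hnil⟩ := exists_normal_hall_nilpotent_compl β h
  refine ⟨H'.map X.subtype, ⟨Subgroup.map_subtype_le _, ?_, ?_⟩, ?_⟩
  · intro p hp hpd
    rw [Subgroup.card_map_of_injective X.subtype_injective, ← hH'.symm.index_eq_card] at hpd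
    exact ⟨hp, hT2 p hp hpd⟩
  · rintro p hp ⟨-, hpβ⟩ hpd
    have h1 : (H'.map X.subtype).relIndex X = H'.index := by
      show ((H'.map X.subtype).comap X.subtype).index = H'.index
      rw [Subgroup.comap_map_eq_self_of_injective X.subtype_injective]
    rw [h1, hH'.index_eq_card] at hpd
    exact hpβ (hT1 p hp hpd)
  · exact Group.nilpotent_of_mulEquiv (H'.equivMapOfInjective X.subtype X.subtype_injective)

/-- **BG Theorem 10.8** from BG 10.2, 10.6, 10.7. -/
theorem s1414_of (hG : IsMinSimpleOddOrder G) (M : Subgroup G) (hM : IsCoatom M)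
    (hα1 : IsPiHallOf (alpha M) (alphaCore M) M) (hα2 : alphaCore M ≤ sigmaCore M)
    (hpl : ∀ (p : ℕ) [Fact p.Prime], PLengthLE p 1 M)
    (h1411 : ∀ (p : ℕ) [Fact p.Prime] (P : Sylow p G) (V : Subgroup G),
      IsComplIn (P : Subgroup G) V (Subgroup.normalizer ((P : Subgroup G) : Set G)) →
      (P : Subgroup G) ≤ ⁅Subgroup.normalizer ((P : Subgroup G) : Set G),
        Subgroup.normalizer ((P : Subgroup G) : Set G)⁆) :
    IsPiHallOf (beta M) (piCoreOf (beta M) M) M ∧ IsPiHall (beta M) (piCoreOf (beta M) M) ∧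
      (∃ H : Subgroup G, IsPiHallOf {q | q.Prime ∧ q ∉ beta M} H ⁅M, M⁆ ∧ Group.IsNilpotent H) ∧
      (∃ H : Subgroup G, IsPiHallOf {q | q.Prime ∧ q ∉ beta M} H (sigmaCore M) ∧
        Group.IsNilpotent H) ∧
      ∀ p : ℕ, p.Prime → p ∣ Nat.card M → p ∉ beta M →
        HasNormalPComplement p ↥⁅M, M⁆ ∧ HasNormalPComplement p ↥(sigmaCore M) ∧
        ∀ q : ℕ, q.Prime → q ∣ (pPrimeCore p ↥M).index → q ≤ p := by
  have hodd : Odd (Nat.card G) := hG.1
  have hMsolv : Group.IsSolvable M := hG.2.2.2 M hM.ne_top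
  have hoddM : Odd (Nat.card M) := hodd.of_dvd_nat (Subgroup.card_subgroup_dvd_card M)
  have hσle : sigmaCore M ≤ ⁅M, M⁆ := sigmaCore_le_commutator h1411
  have key : ∀ p : ℕ, p.Prime → p ∣ Nat.card M → p ∉ beta M →
      HasNormalPComplement p ↥⁅M, M⁆ ∧ HasNormalPComplement p ↥(sigmaCore M) ∧
        ∀ q : ℕ, q.Prime → q ∣ (pPrimeCore p ↥M).index → q ≤ p := by
    intro p hp hpM hpβ
    have hpf : Fact p.Prime := ⟨hp⟩
    obtain ⟨S⟩ : Nonempty (Sylow p M) := inferInstance
    have hS := isNarrow_sylow_of_not_mem_beta hodd hα1 hα2 hpβ S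
    obtain ⟨h1, -, h3, -⟩ := Cfsg.Agent.S1455.result hoddM p hpM S hS (fun _ => hpl p)
    have h4 : HasNormalPComplement p ↥⁅M, M⁆ :=
      hasNormalPComplement_of_mulEquiv
        (((commutator ↥M).equivMapOfInjective M.subtype M.subtype_injective).trans
          (MulEquiv.subgroupCongr (Subgroup.map_subtype_commutator M))) h3
    refine ⟨h4, ?_, h1⟩
    have h5 := Cfsg.Agent.Lib.Helper2.hasNormalPComplement_subgroup h4
      ((sigmaCore M).subgroupOf ⁅M, M⁆)
    exact hasNormalPComplement_of_mulEquiv (Subgroup.subgroupOfEquivOfLe hσle) h5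
  have key2 : ∀ p : ℕ, p.Prime → p ∉ beta M →
      HasNormalPComplement p ↥⁅M, M⁆ ∧ HasNormalPComplement p ↥(sigmaCore M) := by
    intro p hp hpβ
    have hpf : Fact p.Prime := ⟨hp⟩
    by_cases hpM : p ∣ Nat.card M
    · exact ⟨(key p hp hpM hpβ).1, (key p hp hpM hpβ).2.1⟩
    · constructor
      · apply hasNormalPComplement_of_not_dvd
        intro hd
        exact hpM (hd.trans (Subgroup.card_dvd_of_le (Subgroup.commutator_le_self M)))
      · apply hasNormalPComplement_of_not_dvd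
        intro hd
        exact hpM (hd.trans (Subgroup.card_dvd_of_le (sigmaCore_le_self M)))
  -- the normal Hall `β(M)`-subgroup of `M'`
  obtain ⟨T, hTn, hT1, hT2, hTcop, -⟩ :=
    exists_normal_hall_nilpotent_compl (X := ↥⁅M, M⁆) (beta M) (fun p hp hpβ => (key2 p hp hpβ).1)
  have hTGmem : ∀ x : G, x ∈ T.map (⁅M, M⁆).subtype ↔ x ∈ ⁅M, M⁆ ∧ x ^ Nat.card T = 1 := by
    intro x
    constructor
    · rintro ⟨t, ht, rfl⟩
      refine ⟨t.2, ?_⟩
      have h1 := (mem_normal_hall_iff T hTcop t).mp ht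
      have h2 : ((t ^ Nat.card T : ↥⁅M, M⁆) : G) = ((1 : ↥⁅M, M⁆) : G) := by rw [h1]
      rwa [Subgroup.coe_pow] at h2
    · rintro ⟨hx, hxn⟩
      refine ⟨⟨x, hx⟩, ?_, rfl⟩
      show (⟨x, hx⟩ : ↥⁅M, M⁆) ∈ T
      rw [mem_normal_hall_iff T hTcop]
      apply Subtype.ext
      rw [Subgroup.coe_pow]
      exact hxn
  have hM'norm : M ≤ Subgroup.normalizer ((⁅M, M⁆ : Subgroup G) : Set G) := by
    rw [← Subgroup.map_subtype_commutator M]
    exact Cfsg.Agent.Lib.Helper54.le_normalizer_map_subtype M _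
  have hTGM : T.map (⁅M, M⁆).subtype ≤ M :=
    (Subgroup.map_subtype_le _).trans (Subgroup.commutator_le_self M)
  have hTGnorm : M ≤ Subgroup.normalizer ((T.map (⁅M, M⁆).subtype : Subgroup G) : Set G) := by
    intro m hm
    rw [Subgroup.mem_normalizer_iff]
    intro x
    rw [hTGmem, hTGmem]
    have h1 := Subgroup.mem_normalizer_iff.mp (hM'norm hm) x
    have h2 : (m * x * m⁻¹) ^ Nat.card T = m * x ^ Nat.card T * m⁻¹ := conj_pow
    constructor
    · rintro ⟨hx, hxn⟩
      refine ⟨h1.mp hx, ?_⟩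
      rw [h2, hxn]
      group
    · rintro ⟨hx, hxn⟩
      refine ⟨h1.mpr hx, ?_⟩
      rw [h2] at hxn
      have h3 : x ^ Nat.card T = m⁻¹ * (m * x ^ Nat.card T * m⁻¹) * m := by group
      rw [h3, hxn]
      group
  have hTGβ : ∀ r : ℕ, r.Prime → r ∣ Nat.card (T.map (⁅M, M⁆).subtype) → r ∈ beta M := by
    intro r hr hrd
    rw [Subgroup.card_map_of_injective (Subgroup.subtype_injective _)] at hrd
    exact hT1 r hr hrd
  have hTGle : T.map (⁅M, M⁆).subtype ≤ piCoreOf (beta M) M :=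
    Cfsg.Agent.Lib.Helper54.le_piCoreOf (beta M) hTGM hTGnorm hTGβ
  have hSyl : ∀ (p : ℕ) [Fact p.Prime], p ∈ beta M → ∀ S : Sylow p M,
      (S : Subgroup M).map M.subtype ≤ piCoreOf (beta M) M := by
    intro p hpf hpβ S
    have hpσ := mem_sigma_of_mem_alpha hα1 hα2 hpβ.1
    have h1 := sylow_le_commutator_of_mem_sigma h1411 hpσ S
    intro x hx
    apply hTGle
    have hxT : (⟨x, h1 hx⟩ : ↥⁅M, M⁆) ∈ T := by
      apply mem_of_coprime_index
      rw [Subgroup.orderOf_mk]
      obtain ⟨s, hs, rfl⟩ := hx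
      obtain ⟨k, hk⟩ := S.isPGroup' ⟨s, hs⟩
      have h2 : (M.subtype s) ^ p ^ k = 1 := by
        have h3 : (s ^ p ^ k : M) = 1 := by
          have := congrArg Subtype.val hk
          simpa using this
        rw [← map_pow, h3, map_one]
      have h3 : orderOf (M.subtype s) ∣ p ^ k := orderOf_dvd_of_pow_eq_one h2
      apply Nat.Coprime.coprime_dvd_right h3
      apply Nat.Coprime.pow_right
      rw [Nat.coprime_comm, Nat.Prime.coprime_iff_not_dvd hpf.out]
      intro hd
      exact hT2 p hpf.out hd hpβ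
    exact ⟨⟨x, h1 hx⟩, hxT, rfl⟩
  refine ⟨⟨Cfsg.Agent.Lib.Helper54.piCoreOf_le _ _, Cfsg.Agent.Lib.Helper54.piCoreOf_isPi _ _, ?_⟩,
    ⟨Cfsg.Agent.Lib.Helper54.piCoreOf_isPi _ _, ?_⟩,
    exists_isPiHallOf_nilpotent _ _ (fun p hp hpβ => (key2 p hp hpβ).1),
    exists_isPiHallOf_nilpotent _ _ (fun p hp hpβ => (key2 p hp hpβ).2), key⟩
  · intro p hp hpβ hd
    have hpf : Fact p.Prime := ⟨hp⟩
    obtain ⟨S⟩ : Nonempty (Sylow p M) := inferInstance
    have h1 := Subgroup.relIndex_dvd_of_le_left M (hSyl p hpβ S)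
    have h2 : ((S : Subgroup M).map M.subtype).relIndex M = (S : Subgroup M).index := by
      show (((S : Subgroup M).map M.subtype).comap M.subtype).index = (S : Subgroup M).index
      rw [Subgroup.comap_map_eq_self_of_injective M.subtype_injective]
    rw [h2] at h1
    exact S.not_dvd_index (hd.trans h1)
  · intro p hp hpβ hd
    have hpf : Fact p.Prime := ⟨hp⟩
    obtain ⟨S⟩ : Nonempty (Sylow p M) := inferInstance
    have hpσ := mem_sigma_of_mem_alpha hα1 hα2 hpβ.1
    obtain ⟨-, Q, hQ⟩ := sylow_of_mem_sigma hpσ S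
    have h1 : (Q : Subgroup G) ≤ piCoreOf (beta M) M := hQ ▸ hSyl p hpβ S
    exact Q.not_dvd_index (hd.trans (Subgroup.index_dvd_of_le h1))

end

end Cfsg.Agent.Lib.Helper68
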