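import Mathlib
import Cfsg.Prelude.Def_OddOrderLocal
import Cfsg.Agent.Lib.Helper54.Coprime
import Cfsg.Agent.Lib.Helper54.BGTwelveSeventeenD
import Cfsg.Agent.Lib.Helper54.BGFourteenDefs
import Cfsg.Agent.Lib.Helper10.BGThirteenG
import Cfsg.Agent.Lib.Helper82.NilAbelCyclic
import Cfsg.Agent.Lib.Helper47.BGSmall
import Cfsg.Agent.Lib.Helper24.Omega
import Cfsg.Agent.Lib.Helper97.BGThirteenSix
import Cfsg.Agent.Lib.Helper97.BGThirteenB

/-!
# Bender–Glauberman §13, Lemmas 13.10 / 13.11: general tools  (helper68)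

Group-theoretic lemmas (no minimal-simple context) used in `BGThirteenD2 …`.
-/

set_option autoImplicit false

namespace Cfsg.Agent.Lib.Helper68.BG13D

open Cfsg
open scoped commutatorElement

variable {G : Type*} [Group G]

/-- a subgroup of `Y` containing a Sylow `q`-subgroup of `Y` for every prime `q` is `Y` -/
theorem eq_of_forall_sylow_le [Finite G] {Y C : Subgroup G} (hCY : C ≤ Y)
    (h : ∀ q : ℕ, ∀ _ : Fact q.Prime, ∃ Q : Sylow q Y, (Q : Subgroup Y).map Y.subtype ≤ C) :
    C = Y := by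
  by_contra hne
  have hidx : C.relIndex Y ≠ 1 := by
    intro h1
    apply hne
    exact le_antisymm hCY (Subgroup.relIndex_eq_one.mp h1)
  obtain ⟨q, hq, hqd⟩ := Nat.exists_prime_and_dvd hidx
  have : Fact q.Prime := ⟨hq⟩
  obtain ⟨Q, hQ⟩ := h q this
  have hle : (Q : Subgroup Y) ≤ C.subgroupOf Y := by
    intro x hx
    rw [Subgroup.mem_subgroupOf]
    exact hQ ⟨x, hx, rfl⟩
  have h2 : (C.subgroupOf Y).index ∣ (Q : Subgroup Y).index := Subgroup.index_dvd_of_le hle
  exact Q.not_dvd_index (hqd.trans h2)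

/-- coprime action: if `P` does not centralize `Y` then it does not centralize some `P`-invariant
Sylow subgroup of `Y` -/
theorem exists_invariant_sylow_not_le [Finite G] {P Y : Subgroup G}
    (hPY : P ≤ Subgroup.normalizer (Y : Set G)) (hcop : (Nat.card P).Coprime (Nat.card Y))
    (hsolv : Group.IsSolvable P ∨ Group.IsSolvable Y)
    (hne : ¬ Y ≤ Subgroup.centralizer (P : Set G)) :
    ∃ (q : ℕ) (_ : Fact q.Prime) (Q : Sylow q Y),
      P ≤ Subgroup.normalizer (((Q : Subgroup Y).map Y.subtype : Subgroup G) : Set G) ∧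
      ¬ (Q : Subgroup Y).map Y.subtype ≤ Subgroup.centralizer (P : Set G) := by
  by_contra hcon
  push Not at hcon
  apply hne
  have key : Y ⊓ Subgroup.centralizer (P : Set G) = Y := by
    apply eq_of_forall_sylow_le inf_le_left
    intro q hq
    obtain ⟨Q, hQ⟩ := Cfsg.Agent.Lib.Helper54.exists_invariant_sylow P Y hPY hcop hsolv q
    exact ⟨Q, le_inf (Subgroup.map_subtype_le _) (hcon q hq Q hQ)⟩
  rw [← key]
  exact inf_le_right

/-- a subgroup of a group of prime order is trivial or everything -/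
theorem eq_bot_or_eq_of_le_prime [Finite G] {R X : Subgroup G} {r : ℕ} (hr : r.Prime)
    (hR : Nat.card R = r) (hXR : X ≤ R) : X = ⊥ ∨ X = R := by
  have h1 : Nat.card X ∣ r := hR ▸ Subgroup.card_dvd_of_le hXR
  rcases (Nat.dvd_prime hr).mp h1 with h | h
  · exact Or.inl (Subgroup.card_eq_one.mp h)
  · right
    exact Subgroup.eq_of_le_of_card_ge hXR (by rw [h, hR])

/-- `R` of prime order, `P` normalizing but not centralizing `R`: `R = [R,P]` and `C_R(P) = 1` -/
theorem prime_order_frob [Finite G] {R P : Subgroup G} {r : ℕ} (hr : r.Prime)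
    (hR : Nat.card R = r) (hPR : P ≤ Subgroup.normalizer (R : Set G))
    (hne : ¬ P ≤ Subgroup.centralizer (R : Set G)) :
    R ≤ ⁅R, P⁆ ∧ R ⊓ Subgroup.centralizer (P : Set G) = ⊥ := by
  have hnRP : ¬ R ≤ Subgroup.centralizer (P : Set G) := by
    intro h
    apply hne
    intro x hx
    rw [Subgroup.mem_centralizer_iff]
    intro y hy
    exact (Subgroup.mem_centralizer_iff.mp (h hy) x hx).symm
  constructor
  · have hle : ⁅R, P⁆ ≤ R := Subgroup.le_normalizer_iff_commutator_le_left.mp hPR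
    rcases eq_bot_or_eq_of_le_prime hr hR hle with h | h
    · exfalso
      exact hnRP (Subgroup.commutator_eq_bot_iff_le_centralizer.mp h)
    · exact h.ge
  · rcases eq_bot_or_eq_of_le_prime hr hR (inf_le_left : R ⊓ Subgroup.centralizer (P : Set G) ≤ R)
      with h | h
    · exact h
    · exfalso
      apply hnRP
      rw [← h]
      exact inf_le_right

/-- in a cyclic `q`-group `Q`, if the subgroup `R` of order `q` meets `C(P)` trivially then so
does `Q` -/
theorem inf_centralizer_eq_bot_of_cyclic [Finite G] {q : ℕ} [hq : Fact q.Prime] {Q R P : Subgroup G}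
    (hQc : IsCyclic Q) (hQq : IsPGroup q Q) (hRQ : R ≤ Q) (hR : Nat.card R = q)
    (h : R ⊓ Subgroup.centralizer (P : Set G) = ⊥) :
    Q ⊓ Subgroup.centralizer (P : Set G) = ⊥ := by
  by_contra hne
  have hCq : IsPGroup q (Q ⊓ Subgroup.centralizer (P : Set G) : Subgroup G) :=
    hQq.to_le inf_le_left
  obtain ⟨z, hz, hzo⟩ := Cfsg.Agent.Lib.Helper47.bgs_exists_orderOf_eq _ hCq hne
  have hzq : z ^ q = 1 := by rw [← hzo]; exact pow_orderOf_eq_one z
  have hzR : z ∈ R :=
    Cfsg.Agent.Lib.Helper10.BG13.mem_of_pow_eq_one_of_isCyclic hq.out hQc hRQ hR hz.1 hzq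
  have hz1 : z ∈ R ⊓ Subgroup.centralizer (P : Set G) := ⟨hzR, hz.2⟩
  rw [h, Subgroup.mem_bot] at hz1
  rw [hz1, orderOf_one] at hzo
  exact hq.out.one_lt.ne hzo

/-- `Ω₁`-lemma for a cyclic `q`-group (`q` odd): a `q'`-group `P` normalizing `Q` and centralizing
its subgroup of order `q` centralizes `Q` -/
theorem le_centralizer_of_cyclic_of_prime_le [Finite G] {q : ℕ} [hq : Fact q.Prime] (hq2 : q ≠ 2)
    {Q X P : Subgroup G} (hQc : IsCyclic Q) (hQq : IsPGroup q Q) (hXQ : X ≤ Q)
    (hX : Nat.card X = q) (hPQ : P ≤ Subgroup.normalizer (Q : Set G))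
    (hcop : (Nat.card P).Coprime q) (hXP : X ≤ Subgroup.centralizer (P : Set G)) :
    Q ≤ Subgroup.centralizer (P : Set G) := by
  intro x hx
  rw [Subgroup.mem_centralizer_iff]
  intro a ha
  have hca : (orderOf a).Coprime q := by
    apply Nat.Coprime.coprime_dvd_left _ hcop
    have := orderOf_dvd_natCard (⟨a, ha⟩ : P)
    rwa [Subgroup.orderOf_mk] at this
  refine Cfsg.Agent.Lib.Helper24.centralizes_of_centralizes_omega q hq2 a hca Q hQq (hPQ ha) ?_ x hx
  intro y hy hyq
  have hyX : y ∈ X :=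
    Cfsg.Agent.Lib.Helper10.BG13.mem_of_pow_eq_one_of_isCyclic hq.out hQc hXQ hX hy hyq
  exact Subgroup.mem_centralizer_iff.mp (hXP hyX) a ha

end Cfsg.Agent.Lib.Helper68.BG13D
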