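import Mathlib
import Cfsg.Prelude.Def_OddOrderLocal
import Cfsg.Agent.Lib.Helper68.BGThirteenD1
import Cfsg.Agent.Lib.Helper68.BG108
import Cfsg.Agent.Lib.Helper62.PiHall
import Cfsg.Agent.Lib.Helper96.BGFourteenTwoC
import Cfsg.Agent.S1403
import Cfsg.Agent.S1409
import Cfsg.Agent.S1415
import Cfsg.Agent.S1417
import Cfsg.Agent.S1418
import Cfsg.Agent.S1424

/-!
# Bender–Glauberman §13, Lemmas 13.10 / 13.11: basic facts in the minimal simple group  (helper68)
-/

set_option autoImplicit false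

namespace Cfsg.Agent.Lib.Helper68.BG13D

open Cfsg
open scoped commutatorElement Pointwise
open Cfsg.Agent.Lib.Helper34 (UniquenessThm)
open Cfsg.Agent.Lib.Helper54

variable {G : Type*} [Group G] [Finite G]

theorem uT (hG : IsMinSimpleOddOrder G) : UniquenessThm G :=
  fun K hK h1 h2 => Cfsg.Agent.S1403.result hG K hK h1 h2

theorem h1417a (hG : IsMinSimpleOddOrder G) : Cfsg.Agent.Lib.Helper97.BGThirteen.H1417a G :=
  fun L hL q _ hq A hA => (Cfsg.Agent.S1417.result hG L hL q hq A hA).1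

theorem h1418 (hG : IsMinSimpleOddOrder G) : Cfsg.Agent.Lib.Helper97.BGThirteen.H1418 G :=
  fun L hL E' hE' q _ hq A hA =>
    ⟨(Cfsg.Agent.S1418.result hG L hL E' hE' q hq A hA).1.1,
      (Cfsg.Agent.S1418.result hG L hL E' hE' q hq A hA).2.1.2.2⟩

omit [Finite G] in
theorem isPGroup_of_card_eq_prime {X : Subgroup G} {q : ℕ} [Fact q.Prime]
    (hX : Nat.card X = q) : IsPGroup q X :=
  IsPGroup.of_card (n := 1) (by rw [hX, pow_one])

omit [Finite G] in
theorem ne_bot_of_card_eq_prime {X : Subgroup G} {q : ℕ} (hq : q.Prime)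
    (hX : Nat.card X = q) : X ≠ ⊥ := by
  intro h
  rw [h, Subgroup.card_bot] at hX
  exact hq.one_lt.ne hX

/-- the three `τ`-sets cover the primes of `M` outside `σ(M)` -/
theorem tau_tri (hG : IsMinSimpleOddOrder G) (M : Subgroup G) (hM : IsCoatom M) {p : ℕ}
    (hp : p.Prime) (hpM : p ∣ Nat.card M) (hσ : p ∉ sigma M) :
    p ∈ tau1 M ∨ p ∈ tau2 M ∨ p ∈ tau3 M := by
  have h2 : PRankLE p 2 M := by
    by_contra h
    exact hσ (Cfsg.Agent.Lib.Helper50.alpha_subset_sigma hG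
      (uniqThree_of_uniquenessThm (uT hG)) M hM ⟨hp, h⟩)
  by_cases h1 : PRankLE p 1 M
  · by_cases hc : p ∣ Nat.card ↥⁅M, M⁆
    · exact Or.inr (Or.inr ⟨hp, hσ, hc, h1⟩)
    · exact Or.inl ⟨hp, hσ, hpM, hc, h1⟩
  · exact Or.inr (Or.inl ⟨hp, hσ, h2, h1⟩)

omit [Finite G] in
/-- conversion between the two ways of saying "not conjugate" -/
theorem nc_map_of_ne_map {M L : Subgroup G}
    (h : ∀ g : G, L ≠ M.map (MulAut.conj g).toMonoidHom) :
    ∀ g : G, L.map (MulAut.conj g).toMonoidHom ≠ M := by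
  intro g hg
  apply h g⁻¹
  rw [← hg, Subgroup.map_map]
  have : (MulAut.conj g⁻¹).toMonoidHom.comp (MulAut.conj g).toMonoidHom = MonoidHom.id G := by
    ext x
    simp [MulAut.conj_apply]
    group
  rw [this, Subgroup.map_id]

omit [Finite G] in
theorem nc_map_of_smul {M L : Subgroup G} (h : ∀ g : G, MulAut.conj g • M ≠ L) :
    ∀ g : G, L.map (MulAut.conj g).toMonoidHom ≠ M := by
  apply nc_map_of_ne_map
  intro g hg
  exact h g hg.symm

omit [Finite G] in
theorem nc_smul_symm {M L : Subgroup G} (h : ∀ g : G, MulAut.conj g • M ≠ L) :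
    ∀ g : G, MulAut.conj g • L ≠ M := by
  intro g hg
  apply h g⁻¹
  rw [← hg, ← mul_smul, ← map_mul, inv_mul_cancel, map_one, one_smul]

omit [Finite G] in
theorem nc_smul_of_map {M L : Subgroup G} (h : ∀ g : G, L.map (MulAut.conj g).toMonoidHom ≠ M) :
    ∀ g : G, MulAut.conj g • L ≠ M := fun g hg => h g hg

/-- for `t ∉ β(M)`, a `t'`-subgroup of `M'` normalizing a `t`-subgroup `S` of `M` centralizes it -/
theorem centralizes_of_not_beta (hG : IsMinSimpleOddOrder G) (M : Subgroup G) (hM : IsCoatom M)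
    (t : ℕ) [Fact t.Prime] (htM : t ∣ Nat.card M) (htβ : t ∉ beta M) (X S : Subgroup G)
    (hXM' : X ≤ ⁅M, M⁆) (hXt : (Nat.card X).Coprime t) (hS : IsPGroup t S) (hSM : S ≤ M)
    (hXS : X ≤ Subgroup.normalizer (S : Set G)) : S ≤ Subgroup.centralizer (X : Set G) := by
  have ht : t.Prime := Fact.out
  obtain ⟨N, hNn, hNcop, hN⟩ :=
    Cfsg.Agent.Lib.Helper97.BGThirteenSix.exists_normal_qprime hG M hM t htM htβ
  have hM'M : ⁅M, M⁆ ≤ M := Subgroup.commutator_le_self M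
  intro s hs
  rw [Subgroup.mem_centralizer_iff]
  intro x hx
  set x' : ↥M := ⟨x, hM'M (hXM' hx)⟩ with hx'
  set s' : ↥M := ⟨s, hSM hs⟩ with hs'
  have hx'c : x' ∈ commutator ↥M :=
    Cfsg.Agent.Lib.Helper97.BGThirteenSix.mem_commutator_of_val_mem x' (hXM' hx)
  have hxo : (orderOf x').Coprime t := by
    apply Nat.Coprime.coprime_dvd_left _ hXt
    have h1 := orderOf_dvd_natCard (⟨x, hx⟩ : X)
    rw [Subgroup.orderOf_mk] at h1
    have h2 : orderOf x' = orderOf x := by rw [hx', Subgroup.orderOf_mk]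
    rw [h2]; exact h1
  have hx'N : x' ∈ N := hN x' hx'c hxo
  set c : ↥M := s' * x' * s'⁻¹ * x'⁻¹ with hc
  have hcN : c ∈ N := N.mul_mem (hNn.conj_mem x' hx'N s') (N.inv_mem hx'N)
  have hcS : (c : G) ∈ S := by
    have e : (c : G) = s * (x * s⁻¹ * x⁻¹) := by
      simp only [hc, hs', hx', Subgroup.coe_mul, Subgroup.coe_inv]
      group
    rw [e]
    exact S.mul_mem hs ((Subgroup.mem_normalizer_iff.mp (hXS hx) s⁻¹).mp (S.inv_mem hs))
  have hc1 : (c : G) = 1 := by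
    obtain ⟨k, hk⟩ := (IsPGroup.iff_orderOf.mp hS) ⟨(c : G), hcS⟩
    rw [Subgroup.orderOf_mk] at hk
    have h1 : orderOf c ∣ Nat.card N := by
      have := orderOf_dvd_natCard (⟨c, hcN⟩ : N)
      rwa [Subgroup.orderOf_mk] at this
    have h2 : orderOf (c : G) = orderOf c := Subgroup.orderOf_coe c
    have h3 : (orderOf (c : G)).Coprime (t ^ k) :=
      Nat.Coprime.pow_right k (Nat.Coprime.coprime_dvd_left (h2 ▸ h1) hNcop)
    rw [hk] at h3
    have h4 : t ^ k = 1 := (Nat.coprime_self _).mp h3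
    rw [h4] at hk
    exact orderOf_eq_one_iff.mp hk
  have e2 : (c : G) = s * x * s⁻¹ * x⁻¹ := by
    simp only [hc, hs', hx', Subgroup.coe_mul, Subgroup.coe_inv]
  rw [e2] at hc1
  have := congrArg (fun z => z * x * s) hc1
  simp only [one_mul] at this
  rw [← this]
  group

/-- **Lemma N1.** `q ∈ σ(M)` with `M` of `q`-rank one, `X ≤ M` of order `q`: `M` is the only maximal
subgroup containing `N_G(X)` (assuming 13.9). -/
theorem uniq_normalizer_of_rank_one (hG : IsMinSimpleOddOrder G) (hσd : SigmaDisjoint G)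
    (M : Subgroup G) (hM : IsCoatom M) (q : ℕ) [Fact q.Prime] (hq : q ∈ sigma M)
    (hr : PRankLE q 1 M) (X : Subgroup G) (hXM : X ≤ M) (hX : Nat.card X = q) :
    ∀ L : Subgroup G, IsCoatom L → Subgroup.normalizer (X : Set G) ≤ L → L = M := by
  intro L hL hNL
  by_contra hne
  have hqp : q.Prime := Fact.out
  have hU := uT hG
  have hXq : IsPGroup q X := isPGroup_of_card_eq_prime hX
  have hX1 : X ≠ ⊥ := ne_bot_of_card_eq_prime hqp hX
  obtain ⟨S, hXS⟩ := exists_sylow_map_ge hXM hXq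
  set S' := (S : Subgroup M).map M.subtype with hS'
  have hS'M : S' ≤ M := Subgroup.map_subtype_le _
  have hS'q : IsPGroup q S' := S.isPGroup'.map _
  have hq2 : q ≠ 2 := Cfsg.Agent.Lib.Helper96.BG142.ne_two_of_dvd_card hG hq.2.1
  have hS'c : IsCyclic S' :=
    Cfsg.Agent.Lib.Helper97.BGTwelve.isCyclic_of_pRankLE_one hq2 S' hS'q (pRankLE_of_le hS'M hr)
  have hNSX : Subgroup.normalizer (S' : Set G) ≤ Subgroup.normalizer (X : Set G) :=
    fun g hg => Cfsg.Agent.Lib.Helper82.NilAbel.mem_normalizer_of_le_cyclic hS'c hXS hg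
  obtain ⟨-, Q, hQ⟩ := Cfsg.Agent.Lib.Helper68.sylow_of_mem_sigma hq S
  have hS'L : S' ≤ L := Subgroup.le_normalizer.trans (hNSX.trans hNL)
  have hidx : ¬ q ∣ S'.relIndex L := by
    intro h
    apply Q.not_dvd_index
    rw [hQ]
    exact h.trans (Subgroup.relIndex_dvd_index_of_le hS'L)
  have hrL : PRankLE q 1 L :=
    pRankLE_of_le_of_not_dvd_relIndex L S' hS'L hidx (pRankLE_of_le hS'M hr)
  rcases mem_sigma_or_tau2_of_normalizer_le hG hU L hL q X hXq hX1 hNL with h | h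
  · have hXML : X ≤ M ⊓ L := le_inf hXM (Subgroup.le_normalizer.trans hNL)
    obtain ⟨S₀, hXS₀⟩ := exists_sylow_map_ge hXML hXq
    have h24 := (Cfsg.Agent.S1424.result hG M hM q hq X hXq hX1 hXM L hL hne hNL S₀ hXS₀).1
    exact hσd M L hM hL (nc_map_of_ne_map h24) q hq h
  · exact h.2.2.2 hrL

/-- subgroups of order `t ∈ τ₃(M)` of a complement `E` are normal in `E` and lie in `M'` -/
theorem tau3_normal (hG : IsMinSimpleOddOrder G) (M : Subgroup G) (hM : IsCoatom M)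
    (E : Subgroup G) (hE : IsComplIn E (sigmaCore M) M) (t : ℕ) (ht : t ∈ tau3 M)
    (X : Subgroup G) (hXE : X ≤ E) (hX : Nat.card X = t) :
    E ≤ Subgroup.normalizer (X : Set G) ∧ X ≤ ⁅M, M⁆ := by
  have hEs : Group.IsSolvable E :=
    Cfsg.Agent.Lib.Helper54.isSolvable_of_le hE.1 (hG.2.2.2 M hM.1)
  obtain ⟨E₃, hE₃⟩ := Cfsg.Agent.Lib.Helper62.exists_isPiHallOf (tau3 M) E hEs
  obtain ⟨hc, hE', hn⟩ := (Cfsg.Agent.S1415.result hG M hM E hE).2.2 E₃ hE₃
  have hXE₃ : X ≤ E₃ := by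
    apply Cfsg.Agent.Lib.Helper96.BG142.le_hall_of_normal hE₃ hn hXE
    intro p hp hpd
    rw [hX] at hpd
    rw [(Nat.prime_dvd_prime_iff_eq hp ht.1).mp hpd]
    exact ht
  refine ⟨fun g hg => Cfsg.Agent.Lib.Helper82.NilAbel.mem_normalizer_of_le_cyclic hc hXE₃ (hn hg), ?_⟩
  exact hXE₃.trans (hE'.trans (Subgroup.commutator_mono hE.1 hE.1))

end Cfsg.Agent.Lib.Helper68.BG13D
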