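import Mathlib
import Cfsg.Prelude.Def_OddOrderLocal
import Cfsg.Agent.Lib.Helper68.BGThirteenD2
import Cfsg.Agent.S1423

/-!
# Bender–Glauberman §13, Lemmas 13.10 / 13.11: the basic configuration  (helper68)

`Setup M E R H r`: `M` maximal, `E` a complement of `M_σ`, `R ≤ E` of order `r ∈ τ₃(M)`, `H` a
maximal subgroup containing `N_G(R)`.
-/

set_option autoImplicit false

namespace Cfsg.Agent.Lib.Helper68.BG13D

open Cfsg
open scoped commutatorElement Pointwise
open Cfsg.Agent.Lib.Helper34 (UniquenessThm)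
open Cfsg.Agent.Lib.Helper54

variable {G : Type*} [Group G] [Finite G]

structure Setup (M E R H : Subgroup G) (r : ℕ) : Prop where
  hM : IsCoatom M
  hE : IsComplIn E (sigmaCore M) M
  hr : r ∈ tau3 M
  hRE : R ≤ E
  hR : Nat.card R = r
  hH : IsCoatom H
  hNH : Subgroup.normalizer (R : Set G) ≤ H

namespace Setup

variable {M E R H : Subgroup G} {r : ℕ}

theorem hER (h : Setup M E R H r) (hG : IsMinSimpleOddOrder G) :
    E ≤ Subgroup.normalizer (R : Set G) :=
  (tau3_normal hG M h.hM E h.hE r h.hr R h.hRE h.hR).1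

theorem hRM' (h : Setup M E R H r) (hG : IsMinSimpleOddOrder G) : R ≤ ⁅M, M⁆ :=
  (tau3_normal hG M h.hM E h.hE r h.hr R h.hRE h.hR).2

omit [Finite G] in
theorem hRM (h : Setup M E R H r) : R ≤ M := h.hRE.trans h.hE.1

omit [Finite G] in
theorem hRH (h : Setup M E R H r) : R ≤ H := Subgroup.le_normalizer.trans h.hNH

theorem hEH (h : Setup M E R H r) (hG : IsMinSimpleOddOrder G) : E ≤ H := (h.hER hG).trans h.hNH

omit [Finite G] in
theorem hR1 (h : Setup M E R H r) : R ≠ ⊥ := ne_bot_of_card_eq_prime h.hr.1 h.hR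

omit [Finite G] in
theorem hYH (h : Setup M E R H r) : sigmaCore M ⊓ Subgroup.centralizer (R : Set G) ≤ H :=
  inf_le_right.trans ((Subgroup.centralizer_le_normalizer _).trans h.hNH)

theorem ne (h : Setup M E R H r) (hG : IsMinSimpleOddOrder G) : H ≠ M := by
  intro hHM
  have : Fact r.Prime := ⟨h.hr.1⟩
  have h9 := Cfsg.Agent.S1409.result hG M h.hM r h.hr.2.1 R h.hR (hHM ▸ h.hNH)
  exact h9.1.2 h.hr.2.2.2

theorem nc (h : Setup M E R H r) (hG : IsMinSimpleOddOrder G) :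
    ∀ g : G, MulAut.conj g • M ≠ H := by
  have : Fact r.Prime := ⟨h.hr.1⟩
  exact not_conj_of_normalizer_le hG (uT hG) M H h.hM r R (isPGroup_of_card_eq_prime h.hR) h.hR1
    h.hRM h.hNH (Or.inr (Or.inr h.hr))

theorem rH (h : Setup M E R H r) (hG : IsMinSimpleOddOrder G) : r ∈ sigma H ∨ r ∈ tau2 H := by
  have : Fact r.Prime := ⟨h.hr.1⟩
  exact mem_sigma_or_tau2_of_normalizer_le hG (uT hG) H h.hH r R (isPGroup_of_card_eq_prime h.hR)
    h.hR1 h.hNH

/-- `M_σ ∩ H = C_{M_σ}(R)` -/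
theorem inf_le (h : Setup M E R H r) (hG : IsMinSimpleOddOrder G) :
    sigmaCore M ⊓ H ≤ Subgroup.centralizer (R : Set G) := by
  have : Fact r.Prime := ⟨h.hr.1⟩
  have hRC : R ≤ Subgroup.normalizer ((sigmaCore M ⊓ H : Subgroup G) : Set G) :=
    le_normalizer_inf (h.hRM.trans (le_normalizer_sigmaCore M)) (h.hRH.trans Subgroup.le_normalizer)
  have key := Cfsg.Agent.Lib.Helper97.BGThirteen.comm_of_sigma_or_tau2 hG (uT hG) (h1417a hG)
    (h1418 hG) M H h.hM h.hH (h.nc hG) r h.hr.2.1 (h.rH hG) (sigmaCore M ⊓ H) R inf_le_left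
    (isPGroup_of_card_eq_prime h.hR) hRC inf_le_right h.hRH
  intro c hc
  rw [Subgroup.mem_centralizer_iff]
  intro s hs
  exact key c hc s hs

/-- `τ₂(M) = ∅` when `C_{M_σ}(R) ≠ 1` -/
theorem tau2_empty (h : Setup M E R H r) (hG : IsMinSimpleOddOrder G)
    (hY : sigmaCore M ⊓ Subgroup.centralizer (R : Set G) ≠ ⊥) : ∀ q : ℕ, q ∉ tau2 M := by
  intro q hq
  have : Fact q.Prime := ⟨hq.1⟩
  have hrk : ¬ PRankLE q 1 ↥E :=
    Cfsg.Agent.Lib.Helper97.BGTwelve.not_pRankLE_complement h.hE (sigmaCore_isPi M) hq.2.1 hq.2.2.2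
  obtain ⟨A, hAE, hAe, hAc⟩ :=
    Cfsg.Agent.Lib.Helper97.BGTwelve.exists_elemAb_sq_of_not_pRankLE_one E hrk
  have h17 := (Cfsg.Agent.S1417.result hG M h.hM q hq A ⟨hAE.trans h.hE.1, hAe, hAc⟩).2.2.2.2.1
    H h.hH (h.ne hG) (hAE.trans (h.hEH hG))
  apply hY
  rw [eq_bot_iff, ← h17]
  exact le_inf inf_le_left h.hYH

theorem not_dvd_sigmaCore (h : Setup M E R H r) : (Nat.card R).Coprime (Nat.card (sigmaCore M)) := by
  rw [h.hR, Nat.Prime.coprime_iff_not_dvd h.hr.1]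
  intro hd
  exact h.hr.2.1 (sigmaCore_isPi M r h.hr.1 hd)

/-- for `t ∈ σ(M) \ β(M)` every `R`-invariant `t`-subgroup of `M` is centralized by `R` -/
theorem centralizes (h : Setup M E R H r) (hG : IsMinSimpleOddOrder G) (t : ℕ) [Fact t.Prime]
    (htσ : t ∈ sigma M) (htβ : t ∉ beta M) (S : Subgroup G) (hS : IsPGroup t S) (hSM : S ≤ M)
    (hRS : R ≤ Subgroup.normalizer (S : Set G)) : S ≤ Subgroup.centralizer (R : Set G) := by
  apply centralizes_of_not_beta hG M h.hM t htσ.2.1 htβ R S (h.hRM' hG) _ hS hSM hRS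
  rw [h.hR, Nat.coprime_primes h.hr.1 Fact.out]
  rintro rfl
  exact h.hr.2.1 htσ

/-- for `t ∈ σ(M) \ β(M)`, if `H` has `t`-rank at most one then so has `M` -/
theorem rank_one (h : Setup M E R H r) (hG : IsMinSimpleOddOrder G) (t : ℕ) [Fact t.Prime]
    (htσ : t ∈ sigma M) (htβ : t ∉ beta M) (hrk : PRankLE t 1 H) : PRankLE t 1 M := by
  have hσM : sigmaCore M ≤ M := piCoreOf_le _ _
  have hRN : R ≤ Subgroup.normalizer ((sigmaCore M : Subgroup G) : Set G) :=
    h.hRM.trans (le_normalizer_sigmaCore M)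
  have hRs : Group.IsSolvable R := isSolvable_of_le h.hRM (hG.2.2.2 M h.hM.1)
  obtain ⟨S, hS⟩ := exists_invariant_sylow R (sigmaCore M) hRN h.not_dvd_sigmaCore (Or.inl hRs) t
  set S' := (S : Subgroup (sigmaCore M)).map (sigmaCore M).subtype with hS'
  have hS'σ : S' ≤ sigmaCore M := Subgroup.map_subtype_le _
  have hS't : IsPGroup t S' := S.isPGroup'.map _
  have hS'C : S' ≤ Subgroup.centralizer (R : Set G) :=
    h.centralizes hG t htσ htβ S' hS't (hS'σ.trans hσM) hS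
  have hS'H : S' ≤ H := (le_inf hS'σ hS'C).trans h.hYH
  have hidx : ¬ t ∣ S'.relIndex M := by
    rw [← Subgroup.relIndex_mul_relIndex S' (sigmaCore M) M hS'σ hσM]
    intro hd
    rcases (Nat.Prime.dvd_mul Fact.out).mp hd with h1 | h1
    · apply S.not_dvd_index
      rwa [hS', Cfsg.Agent.Lib.Helper24.relIndex_map_subtype_self] at h1
    · exact (sigmaCore_hall_of hG (uT hG) M h.hM).1.2.2 t Fact.out htσ h1
  exact pRankLE_of_le_of_not_dvd_relIndex M S' (hS'σ.trans hσM) hidx (pRankLE_of_le hS'H hrk)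

/-- for `t ∈ σ(M)` with `H` of `t`-rank at most one, `M` is the only maximal subgroup containing
`N_G(X)` for `X ≤ M` of order `t` (assuming 13.9) -/
theorem normalizer_uniq (h : Setup M E R H r) (hG : IsMinSimpleOddOrder G)
    (hσd : SigmaDisjoint G) (t : ℕ) [Fact t.Prime] (htσ : t ∈ sigma M) (hrk : PRankLE t 1 H)
    (X : Subgroup G) (hXM : X ≤ M) (hX : Nat.card X = t) :
    ∀ L : Subgroup G, IsCoatom L → Subgroup.normalizer (X : Set G) ≤ L → L = M := by
  by_cases htβ : t ∈ beta M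
  · intro L hL hNL
    obtain ⟨P⟩ : Nonempty (Sylow t ↥(sigmaCore M)) := inferInstance
    exact (Cfsg.Agent.S1423.result hG M h.hM t htσ X hXM hX P (Or.inl htβ)).1.2 L hL
      ((Subgroup.centralizer_le_normalizer _).trans hNL)
  · exact uniq_normalizer_of_rank_one hG hσd M h.hM t htσ (h.rank_one hG t htσ htβ hrk) X hXM hX

end Setup

end Cfsg.Agent.Lib.Helper68.BG13D
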