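import Mathlib
import Cfsg.Prelude.Def_OddOrderLocal
import Cfsg.Agent.Lib.Helper68.BGThirteenD3
import Cfsg.Agent.Lib.Helper70.BG36Basic
import Cfsg.Agent.Lib.Helper96.BGFourteenTwoD
import Cfsg.Agent.S1411
import Cfsg.Agent.S1422
import Cfsg.Agent.S1426

/-!
# Bender–Glauberman §13, Lemmas 13.10 / 13.11: fixed points of `P` on `M_σ`, primes outside `β(M)`
(helper68)

Configuration `B1 M E R H P r p`: `Setup M E R H r`, `P ≤ E` of order `p ∈ τ₁(M)` not centralizing
`R`, `C_{M_σ}(R) ≠ 1`.  For `t ∈ σ(M) \ β(M)` an `E`-invariant Sylow `t`-subgroup `S` of `M_σ` has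
`C_S(P) = 1`.
-/

set_option autoImplicit false

namespace Cfsg.Agent.Lib.Helper68.BG13D

open Cfsg
open scoped commutatorElement Pointwise
open Cfsg.Agent.Lib.Helper34 (UniquenessThm)
open Cfsg.Agent.Lib.Helper54
open Cfsg.Agent.Lib.Helper97.BGThirteenSix (Stmt1428)

variable {G : Type*} [Group G] [Finite G]

/-- a Sylow `t`-subgroup of `M_σ` (`t ∈ σ(M)`) is a Sylow `t`-subgroup of `M` -/
theorem sylow_sigmaCore_relIndex (hG : IsMinSimpleOddOrder G) (M : Subgroup G) (hM : IsCoatom M)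
    (t : ℕ) [Fact t.Prime] (htσ : t ∈ sigma M) (S : Sylow t ↥(sigmaCore M)) :
    ¬ t ∣ ((S : Subgroup (sigmaCore M)).map (sigmaCore M).subtype).relIndex M := by
  have hσM : sigmaCore M ≤ M := piCoreOf_le _ _
  rw [← Subgroup.relIndex_mul_relIndex _ (sigmaCore M) M (Subgroup.map_subtype_le _) hσM]
  intro hd
  rcases (Nat.Prime.dvd_mul Fact.out).mp hd with h1 | h1
  · apply S.not_dvd_index
    rwa [Cfsg.Agent.Lib.Helper24.relIndex_map_subtype_self] at h1
  · exact (sigmaCore_hall_of hG (uT hG) M hM).1.2.2 t Fact.out htσ h1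

omit [Finite G] in
theorem isComplIn_symm {A B M : Subgroup G} (h : IsComplIn A B M) : IsComplIn B A M := by
  obtain ⟨hA, hB, hAB, hf⟩ := h
  refine ⟨hB, hA, by rw [inf_comm]; exact hAB, ?_⟩
  intro m hm
  obtain ⟨a, ha, b, hb, hab⟩ := hf m⁻¹ (M.inv_mem hm)
  refine ⟨b⁻¹, B.inv_mem hb, a⁻¹, A.inv_mem ha, ?_⟩
  have : m = (m⁻¹)⁻¹ := (inv_inv m).symm
  rw [this, hab, mul_inv_rev]

/-- an abelian Sylow subgroup of a minimal simple group of odd order meets the centre of its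
normalizer trivially -/
theorem sylow_inf_centralizer_normalizer (hG : IsMinSimpleOddOrder G) (t : ℕ) [Fact t.Prime]
    (Q : Sylow t G) (hab : ∀ a ∈ (Q : Subgroup G), ∀ b ∈ (Q : Subgroup G), a * b = b * a) :
    (Q : Subgroup G) ⊓
      Subgroup.centralizer ((Subgroup.normalizer ((Q : Subgroup G) : Set G) : Subgroup G) : Set G)
        = ⊥ := by
  have ht : t.Prime := Fact.out
  by_cases hQ1 : (Q : Subgroup G) = ⊥
  · rw [hQ1]; exact bot_inf_eq _
  have hQT : (Q : Subgroup G) ≠ ⊤ := ne_top_of_isPGroup hG.2.1 hG.2.2.1 Q.isPGroup'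
  set N := Subgroup.normalizer ((Q : Subgroup G) : Set G) with hN
  have hNT : N ≠ ⊤ := normalizer_ne_top_of_simple hG.2.1 hQ1 hQT
  have hNs : Group.IsSolvable N := hG.2.2.2 N hNT
  have hQN : (Q : Subgroup G) ≤ N := Subgroup.le_normalizer
  have hHall : IsPiHallOf {t} (Q : Subgroup G) N := by
    refine ⟨hQN, ?_, ?_⟩
    · intro p hp hpd
      obtain ⟨k, hk⟩ := IsPGroup.iff_card.mp Q.isPGroup'
      rw [hk] at hpd
      exact (Nat.prime_dvd_prime_iff_eq hp ht).mp (hp.dvd_of_dvd_pow hpd)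
    · intro p _ hpt hpd
      rw [Set.mem_singleton_iff] at hpt
      subst hpt
      exact Q.not_dvd_index (hpd.trans (Subgroup.relIndex_dvd_index_of_le hQN))
  obtain ⟨V, hV, -⟩ := Cfsg.Agent.Lib.Helper97.BGTwelve.exists_complIn_ge (K := ⊥) hNs hHall bot_le
    (by
      intro p hp hpd
      rw [Subgroup.card_bot] at hpd
      exact absurd (Nat.dvd_one.mp hpd) hp.ne_one)
  have hV' : IsComplIn (Q : Subgroup G) V N := isComplIn_symm hV
  have h11 := (Cfsg.Agent.S1411.result hG t Q V hV').1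
  have hVN : V ≤ N := hV.1
  have hcard := Cfsg.Agent.Lib.Helper23.card_of_isComplIn hV
  have hcop : (Nat.card V).Coprime (Nat.card (Q : Subgroup G)) := by
    obtain ⟨k, hk⟩ := IsPGroup.iff_card.mp Q.isPGroup'
    rw [hk]
    apply Nat.Coprime.pow_right
    rw [Nat.coprime_comm, Nat.Prime.coprime_iff_not_dvd ht]
    intro hd
    apply hHall.2.2 t ht rfl
    have h1 := card_mul_relIndex hQN
    rw [hcard, mul_comm (Nat.card V)] at h1
    have h2 : (Q : Subgroup G).relIndex N = Nat.card V :=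
      (Nat.eq_of_mul_eq_mul_left Nat.card_pos h1)
    rw [h2]; exact hd
  have h70 := Cfsg.Agent.Lib.Helper70.BG36.commutator_inf_centralizer_eq_bot (Q : Subgroup G) V hab
    hVN hcop
  rw [← h11] at h70
  rw [eq_bot_iff, ← h70]
  exact inf_le_inf_left _ (Subgroup.centralizer_le hVN)

omit [Finite G] in
theorem commute_of_abelian {S : Subgroup G} (h : IsMulCommutative S) :
    ∀ a ∈ S, ∀ b ∈ S, a * b = b * a := fun a ha b hb =>
  congrArg Subtype.val (h.is_comm.comm ⟨a, ha⟩ ⟨b, hb⟩)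

/-- in `M`, for `t ∈ σ(M) \ β(M)` and an abelian Sylow `t`-subgroup `Q` of `G` inside `M`:
`N_{M_σ}(Q)` centralizes `Q` -/
theorem sigmaCore_inf_normalizer_le_centralizer (hG : IsMinSimpleOddOrder G) (M : Subgroup G)
    (hM : IsCoatom M) (E : Subgroup G) (hE : IsComplIn E (sigmaCore M) M) (t : ℕ) [Fact t.Prime]
    (htσ : t ∈ sigma M) (htβ : t ∉ beta M) (Q : Sylow t G) (hQM : (Q : Subgroup G) ≤ M)
    (hab : ∀ a ∈ (Q : Subgroup G), ∀ b ∈ (Q : Subgroup G), a * b = b * a) :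
    ∀ m ∈ sigmaCore M ⊓ Subgroup.normalizer ((Q : Subgroup G) : Set G), ∀ s ∈ (Q : Subgroup G),
      m * s = s * m := by
  have ht : t.Prime := Fact.out
  have hσM : sigmaCore M ≤ M := piCoreOf_le _ _
  have hσM' : sigmaCore M ≤ ⁅M, M⁆ := by
    rw [← (Cfsg.Agent.S1426.result hG M hM E hE).2.1]
    exact Subgroup.commutator_mono hσM hE.1
  intro m hm s hs
  revert m
  apply Cfsg.Agent.Lib.Helper96.BG142.commute_of_forall_prime_pow
  rintro e he he1 ⟨q, j, hq, hej⟩
  set X := Subgroup.zpowers e with hX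
  have hXσ : X ≤ sigmaCore M := Subgroup.zpowers_le.mpr he.1
  have hXN : X ≤ Subgroup.normalizer ((Q : Subgroup G) : Set G) := Subgroup.zpowers_le.mpr he.2
  have hXc : Nat.card X = q ^ j := by rw [Nat.card_zpowers, hej]
  by_cases hqt : q = t
  · subst hqt
    have hXq : IsPGroup q X := IsPGroup.of_card hXc
    have hsup : IsPGroup q (X ⊔ (Q : Subgroup G) : Subgroup G) :=
      IsPGroup.to_sup_of_normal_right' hXq Q.isPGroup' hXN
    have h1 := Q.is_maximal' hsup le_sup_right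
    have heQ : e ∈ (Q : Subgroup G) := by
      rw [← h1]
      exact Subgroup.mem_sup_left (Subgroup.mem_zpowers e)
    exact hab e heQ s hs
  · have hcop : (Nat.card X).Coprime t := by
      rw [hXc]
      exact Nat.Coprime.pow_left j ((Nat.coprime_primes hq ht).mpr hqt)
    have h2 := centralizes_of_not_beta hG M hM t htσ.2.1 htβ X (Q : Subgroup G) (hXσ.trans hσM')
      hcop Q.isPGroup' hQM hXN
    exact (Subgroup.mem_centralizer_iff.mp (h2 hs) e (Subgroup.mem_zpowers e))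

/-- the configuration of (b1) -/
structure B1 (M E R H P : Subgroup G) (r p : ℕ) : Prop where
  toSetup : Setup M E R H r
  hp : p ∈ tau1 M
  hPE : P ≤ E
  hP : Nat.card P = p
  hPR : ¬ P ≤ Subgroup.centralizer (R : Set G)
  hY : sigmaCore M ⊓ Subgroup.centralizer (R : Set G) ≠ ⊥

namespace B1

variable {M E R H P : Subgroup G} {r p : ℕ}

/-- primes of `E` lie in `τ₁(M) ∪ τ₃(M)` -/
theorem h13 (h : B1 M E R H P r p) (hG : IsMinSimpleOddOrder G) :
    ∀ q : ℕ, q.Prime → q ∣ Nat.card E → q ∈ tau1 M ∪ tau3 M := by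
  intro q hq hqE
  rcases Cfsg.Agent.Lib.Helper96.BG142.tau_trichotomy hG (uT hG) M h.toSetup.hM h.toSetup.hE hq hqE
    with h1 | h2 | h3
  · exact Or.inl h1
  · exact absurd h2 (h.toSetup.tau2_empty hG h.hY q)
  · exact Or.inr h3

/-- **Step (4a).** For `t ∈ σ(M) \ β(M)` an `E`-invariant Sylow `t`-subgroup `S` of `M_σ` has
`C_S(P) = 1`. -/
theorem inf_centralizer_of_not_beta (h : B1 M E R H P r p) (hG : IsMinSimpleOddOrder G)
    (h1428 : Stmt1428 G) (t : ℕ) [Fact t.Prime] (htσ : t ∈ sigma M) (htβ : t ∉ beta M)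
    (S : Sylow t ↥(sigmaCore M))
    (hES : E ≤ Subgroup.normalizer
      (((S : Subgroup (sigmaCore M)).map (sigmaCore M).subtype : Subgroup G) : Set G)) :
    (S : Subgroup (sigmaCore M)).map (sigmaCore M).subtype ⊓ Subgroup.centralizer (P : Set G)
      = ⊥ := by
  have ht : t.Prime := Fact.out
  have hs := h.toSetup
  have hM := hs.hM
  have hE := hs.hE
  have hσM : sigmaCore M ≤ M := piCoreOf_le _ _
  set S' := (S : Subgroup (sigmaCore M)).map (sigmaCore M).subtype with hS'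
  have hS'σ : S' ≤ sigmaCore M := Subgroup.map_subtype_le _
  have hS'M : S' ≤ M := hS'σ.trans hσM
  have hS't : IsPGroup t S' := S.isPGroup'.map _
  have hS'C : S' ≤ Subgroup.centralizer (R : Set G) :=
    hs.centralizes hG t htσ htβ S' hS't hS'M (hs.hRE.trans hES)
  have hS'H : S' ≤ H := (le_inf hS'σ hS'C).trans hs.hYH
  -- `S'` is abelian
  have hab : ∀ a ∈ S', ∀ b ∈ S', a * b = b * a := by
    by_contra hna
    have hnc : ¬ IsMulCommutative S' := fun hc => hna (commute_of_abelian hc)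
    obtain ⟨L, -, huniq⟩ := Cfsg.Agent.S1422.result hG t S' hS't hnc
    have h1 : M = L := huniq M ⟨hM, hS'M⟩
    have h2 : H = L := huniq H ⟨hs.hH, hS'H⟩
    exact hs.ne hG (h2.trans h1.symm)
  -- `S'` is a Sylow subgroup of `G`
  have hidx := sylow_sigmaCore_relIndex hG M hM t htσ S
  have hq' : IsPGroup t (S'.subgroupOf M) := hS't.comap_subtype
  obtain ⟨SM, hSM⟩ : ∃ SM : Sylow t ↥M, (SM : Subgroup M) = S'.subgroupOf M :=
    ⟨hq'.toSylow hidx, IsPGroup.toSylow_coe _ _⟩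
  have hSM' : (SM : Subgroup M).map M.subtype = S' := by
    rw [hSM, Subgroup.map_subgroupOf_eq_of_le hS'M]
  obtain ⟨hNS, Q, hQ⟩ := Cfsg.Agent.Lib.Helper68.sylow_of_mem_sigma htσ SM
  rw [hSM'] at hNS hQ
  have hA := sylow_inf_centralizer_normalizer hG t Q (by rw [hQ]; exact hab)
  rw [hQ] at hA
  have hclaim := sigmaCore_inf_normalizer_le_centralizer hG M hM E hE t htσ htβ Q
    (by rw [hQ]; exact hS'M) (by rw [hQ]; exact hab)
  rw [hQ] at hclaim
  -- Hall subgroups of `E`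
  have hEs : Group.IsSolvable E := isSolvable_of_le hE.1 (hG.2.2.2 M hM.1)
  have hPπ : Cfsg.Agent.Lib.Helper62.IsPiNum (tau1 M) (Nat.card P) := by
    intro q hq hqd
    rw [h.hP] at hqd
    rw [(Nat.prime_dvd_prime_iff_eq hq h.hp.1).mp hqd]
    exact h.hp
  obtain ⟨E₁, hE₁, hPE₁⟩ := Cfsg.Agent.Lib.Helper62.isPiHallOf_dom hEs h.hPE hPπ
  obtain ⟨E₃, hE₃⟩ := Cfsg.Agent.Lib.Helper62.exists_isPiHallOf (tau3 M) E hEs
  obtain ⟨hcard, hcop⟩ := Cfsg.Agent.Lib.Helper96.BG142.card_hall13 (h.h13 hG) hE₁ hE₃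
  have hE13 : E₁ ⊔ E₃ = E :=
    Cfsg.Agent.Lib.Helper96.BG142.eq_of_card_mul_dvd (sup_le hE₁.1 hE₃.1) le_sup_left le_sup_right
      hcard hcop
  have hE₃M' : E₃ ≤ ⁅M, M⁆ :=
    ((Cfsg.Agent.S1415.result hG M hM E hE).2.2 E₃ hE₃).2.1.trans
      (Subgroup.commutator_mono hE.1 hE.1)
  have hE₃t : (Nat.card E₃).Coprime t := by
    rw [Nat.coprime_comm, Nat.Prime.coprime_iff_not_dvd ht]
    intro hd
    exact (hE₃.2.1 t ht hd).2.1 htσ
  have hS'E₃ : S' ≤ Subgroup.centralizer (E₃ : Set G) :=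
    centralizes_of_not_beta hG M hM t htσ.2.1 htβ E₃ S' hE₃M' hE₃t hS't hS'M (hE₃.1.trans hES)
  rw [eq_bot_iff]
  intro z hz
  obtain ⟨hzS, hzP⟩ := Subgroup.mem_inf.mp hz
  have hzE₁ : z ∈ Subgroup.centralizer (E₁ : Set G) :=
    Cfsg.Agent.Lib.Helper97.BGThirteenSix.le_centralizer_hall_tau1 hG h1428 M hM E hE p h.hp P h.hP
      E₁ hE₁ hPE₁ ⟨hS'σ hzS, hzP⟩
  have hzE : E ≤ Subgroup.centralizer ({z} : Set G) := by
    rw [← hE13]
    apply sup_le
    · intro e he
      rw [Subgroup.mem_centralizer_singleton_iff]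
      exact Subgroup.mem_centralizer_iff.mp hzE₁ e he
    · intro e he
      rw [Subgroup.mem_centralizer_singleton_iff]
      exact Subgroup.mem_centralizer_iff.mp (hS'E₃ hzS) e he
  have hzN : z ∈ Subgroup.centralizer
      ((Subgroup.normalizer (S' : Set G) : Subgroup G) : Set G) := by
    rw [Subgroup.mem_centralizer_iff]
    intro n hn
    obtain ⟨e, he, m, hm, hnem⟩ := hE.2.2.2 n (hNS hn)
    have hmN : m ∈ Subgroup.normalizer (S' : Set G) := by
      have : m = e⁻¹ * n := by rw [hnem]; group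
      rw [this]
      exact Subgroup.mul_mem _ (Subgroup.inv_mem _ (hES he)) hn
    have h1 : m * z = z * m := hclaim m ⟨hm, hmN⟩ z hzS
    have h2 : e * z = z * e := Subgroup.mem_centralizer_singleton_iff.mp (hzE he)
    rw [hnem]
    calc e * m * z = e * (m * z) := by group
      _ = e * (z * m) := by rw [h1]
      _ = (e * z) * m := by group
      _ = z * e * m := by rw [h2]
      _ = z * (e * m) := by group
  have : z ∈ S' ⊓ Subgroup.centralizer
      ((Subgroup.normalizer (S' : Set G) : Subgroup G) : Set G) := ⟨hzS, hzN⟩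
  rwa [hA] at this

end B1

end Cfsg.Agent.Lib.Helper68.BG13D
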