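import Mathlib
import Cfsg.Prelude.Def_OddOrderLocal
import Cfsg.Agent.Lib.Helper68.BGThirteenD4
import Cfsg.Agent.Lib.Helper97.ShultCyclic
import Cfsg.Agent.Lib.Helper10.BGThirteenA2
import Cfsg.Agent.S0026
import Cfsg.Agent.S1406

/-!
# Bender–Glauberman §13, Lemmas 13.10 / 13.11: `P` acts fixed-point-freely on `C_{M_σ}(R)`
(helper68)

In the configuration `B1 M E R H P r p`: `C_{M_σ}(R P) = 1`; hence `Y₃ := C_{M_σ}(R) = [Y₃, P] ≤ H'`
and `p ∉ σ(H)`.
-/

set_option autoImplicit false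

namespace Cfsg.Agent.Lib.Helper68.BG13D

open Cfsg
open scoped commutatorElement Pointwise
open Cfsg.Agent.Lib.Helper34 (UniquenessThm)
open Cfsg.Agent.Lib.Helper54
open Cfsg.Agent.Lib.Helper97.BGThirteenSix (Stmt1428)

variable {G : Type*} [Group G] [Finite G]

theorem h1406 (hG : IsMinSimpleOddOrder G) : Cfsg.Agent.Lib.Helper51.BG12.H1406 G :=
  fun M hM X hXM hXα hr => Cfsg.Agent.S1406.result hG M hM X hXM hXα hr

/-- `|E|` is prime to `|M_σ|` -/
theorem coprime_compl (hG : IsMinSimpleOddOrder G) (M : Subgroup G) (hM : IsCoatom M)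
    {E : Subgroup G} (hE : IsComplIn E (sigmaCore M) M) :
    (Nat.card E).Coprime (Nat.card (sigmaCore M)) := by
  apply Nat.coprime_of_dvd
  intro k hk hk1 hk2
  exact Cfsg.Agent.Lib.Helper96.BG142.not_mem_sigma_of_dvd_card_compl hG (uT hG) M hM hE hk hk1
    (sigmaCore_isPi M k hk hk2)

omit [Finite G] in
/-- the normalizer of `B` normalizes `C_G(B)` -/
theorem normalizer_le_normalizer_cent (B : Subgroup G) :
    Subgroup.normalizer (B : Set G) ≤
      Subgroup.normalizer ((Subgroup.centralizer (B : Set G) : Subgroup G) : Set G) := by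
  have key : ∀ y : G, y ∈ Subgroup.normalizer (B : Set G) → ∀ g ∈ Subgroup.centralizer (B : Set G),
      y * g * y⁻¹ ∈ Subgroup.centralizer (B : Set G) := by
    intro y hy g hg
    rw [Subgroup.mem_centralizer_iff]
    intro b hb
    have hb' : y⁻¹ * b * y ∈ B := by
      have := (Subgroup.mem_normalizer_iff.mp (Subgroup.inv_mem _ hy) b).mp hb
      simpa using this
    have h1 := Subgroup.mem_centralizer_iff.mp hg _ hb'
    calc b * (y * g * y⁻¹) = y * ((y⁻¹ * b * y) * g) * y⁻¹ := by group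
      _ = y * (g * (y⁻¹ * b * y)) * y⁻¹ := by rw [h1]
      _ = y * g * y⁻¹ * b := by group
  intro x hx
  rw [Subgroup.mem_normalizer_iff]
  intro g
  constructor
  · exact key x hx g
  · intro hg
    have := key x⁻¹ (Subgroup.inv_mem _ hx) _ hg
    simpa [mul_assoc] using this

namespace B1

variable {M E R H P : Subgroup G} {r p : ℕ}

theorem hPN (h : B1 M E R H P r p) (hG : IsMinSimpleOddOrder G) :
    P ≤ Subgroup.normalizer (R : Set G) := h.hPE.trans (h.toSetup.hER hG)

omit [Finite G] in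
theorem hrp (h : B1 M E R H P r p) : r ≠ p := by
  rintro rfl
  exact Cfsg.Agent.Lib.Helper96.BG142.not_mem_tau3_of_mem_tau1 h.hp h.toSetup.hr

/-- **Step (4b).** For `t ∈ β(M)` an `R P`-invariant Sylow `t`-subgroup `S` of `M_σ` has
`C_S(R P) = 1`. -/
theorem inf_centralizer_of_beta (h : B1 M E R H P r p) (hG : IsMinSimpleOddOrder G) (t : ℕ)
    [Fact t.Prime] (htβ : t ∈ beta M) (S : Sylow t ↥(sigmaCore M))
    (hRS : R ≤ Subgroup.normalizer
      (((S : Subgroup (sigmaCore M)).map (sigmaCore M).subtype : Subgroup G) : Set G))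
    (hPS : P ≤ Subgroup.normalizer
      (((S : Subgroup (sigmaCore M)).map (sigmaCore M).subtype : Subgroup G) : Set G)) :
    (S : Subgroup (sigmaCore M)).map (sigmaCore M).subtype ⊓ Subgroup.centralizer (R : Set G) ⊓
      Subgroup.centralizer (P : Set G) = ⊥ := by
  have ht : t.Prime := Fact.out
  have hs := h.toSetup
  have hM := hs.hM
  have hU := uT hG
  have hr : r.Prime := hs.hr.1
  have hp : p.Prime := h.hp.1
  have : Fact r.Prime := ⟨hr⟩
  have : Fact p.Prime := ⟨hp⟩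
  have hσM : sigmaCore M ≤ M := piCoreOf_le _ _
  have htσ : t ∈ sigma M := Cfsg.Agent.Lib.Helper50.alpha_subset_sigma hG
    (uniqThree_of_uniquenessThm hU) M hM htβ.1
  set S' := (S : Subgroup (sigmaCore M)).map (sigmaCore M).subtype with hS'
  have hS'σ : S' ≤ sigmaCore M := Subgroup.map_subtype_le _
  have hS'M : S' ≤ M := hS'σ.trans hσM
  have hS't : IsPGroup t S' := S.isPGroup'.map _
  by_contra hne
  have hZt : IsPGroup t (S' ⊓ Subgroup.centralizer (R : Set G) ⊓
      Subgroup.centralizer (P : Set G) : Subgroup G) := hS't.to_le (inf_le_left.trans inf_le_left)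
  obtain ⟨z, hz, hzo⟩ := Cfsg.Agent.Lib.Helper47.bgs_exists_orderOf_eq _ hZt hne
  obtain ⟨⟨hzS, hzR⟩, hzP⟩ := hz
  set X := Subgroup.zpowers z with hX
  have hXc : Nat.card X = t := by rw [Nat.card_zpowers, hzo]
  have hXS : X ≤ S' ⊓ Subgroup.centralizer (P : Set G) :=
    Subgroup.zpowers_le.mpr ⟨hzS, hzP⟩
  have hXR : X ≤ Subgroup.centralizer (R : Set G) := Subgroup.zpowers_le.mpr hzR
  have hS'α : S' ≤ alphaCore M :=
    Cfsg.Agent.Lib.Helper10.BG13.le_alphaCore_of_isPGroup hG hU M hM t htβ.1 hS't hS'M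
  have hPM : P ≤ M := h.hPE.trans hs.hE.1
  have hcyc : IsCyclic ↥(S' ⊓ Subgroup.centralizer (P : Set G)) :=
    Cfsg.Agent.Lib.Helper10.BG13.isCyclic_inf_centralizer_of_le_alphaCore hG hU (h1406 hG) M hM p
      h.hp.2.1 h.hp.2.2.2.2 P hPM h.hP t S' hS't hS'α
  have ht2 : t ≠ 2 := Cfsg.Agent.Lib.Helper96.BG142.ne_two_of_dvd_card hG htσ.2.1
  have hr2 : r ≠ 2 := Cfsg.Agent.Lib.Helper96.BG142.ne_two_of_dvd_card hG
    (hs.hR ▸ Subgroup.card_dvd_of_le hs.hRM)
  have htr : t ≠ r := by rintro rfl; exact hs.hr.2.1 htσ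
  have htp : t ≠ p := by rintro rfl; exact h.hp.2.1 htσ
  have hgen : R ≤ ⁅R, P⁆ := (prime_order_frob hr hs.hR (h.hPN hG) h.hPR).1
  have hΩ : ∀ x ∈ S' ⊓ Subgroup.centralizer (P : Set G), x ^ t = 1 →
      x ∈ Subgroup.centralizer (R : Set G) := by
    intro x hx hxt
    exact hXR (Cfsg.Agent.Lib.Helper10.BG13.mem_of_pow_eq_one_of_isCyclic ht hcyc hXS hXc hx hxt)
  have hF := Cfsg.Agent.Lib.Helper97.ShultCyclic.centralizes_of_cyclic_centralizer ht2 hr2 htr htp
    h.hrp S' R P hS't (isPGroup_of_card_eq_prime hs.hR) h.hP (h.hPN hG) hRS hPS hgen hcyc hΩ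
  have hS'H : S' ≤ H := (le_inf hS'σ hF).trans hs.hYH
  have hXM : X ≤ M := (hXS.trans inf_le_left).trans hS'M
  obtain ⟨L, -, huniq⟩ := (Cfsg.Agent.S1423.result hG M hM t htσ X hXM hXc S (Or.inl htβ)).2.1
  have h1 : M = L := huniq M ⟨hM, hS'M⟩
  have h2 : H = L := huniq H ⟨hs.hH, hS'H⟩
  exact hs.ne hG (h2.trans h1.symm)

/-- **Step (4).** `C_{M_σ}(R P) = 1`. -/
theorem fpf (h : B1 M E R H P r p) (hG : IsMinSimpleOddOrder G) (h1428 : Stmt1428 G) :
    sigmaCore M ⊓ Subgroup.centralizer (R : Set G) ⊓ Subgroup.centralizer (P : Set G) = ⊥ := by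
  have hs := h.toSetup
  have hM := hs.hM
  have hE := hs.hE
  have hσM : sigmaCore M ≤ M := piCoreOf_le _ _
  by_contra hne
  obtain ⟨y, hy1⟩ := (Subgroup.ne_bot_iff_exists_ne_one).mp hne
  have hy1' : (y : G) ≠ 1 := fun h0 => hy1 (Subtype.ext h0)
  obtain ⟨t, z, ht, hzo, hzy⟩ :=
    Cfsg.Agent.Lib.Helper96.BG142.exists_prime_orderOf_mem_zpowers hy1'
  have : Fact t.Prime := ⟨ht⟩
  have hzC : z ∈ sigmaCore M ⊓ Subgroup.centralizer (R : Set G) ⊓
      Subgroup.centralizer (P : Set G) := (Subgroup.zpowers_le.mpr y.2) hzy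
  obtain ⟨⟨hzσ, hzR⟩, hzP⟩ := hzC
  set X := Subgroup.zpowers z with hX
  have hXc : Nat.card X = t := by rw [Nat.card_zpowers, hzo]
  have hXσ : X ≤ sigmaCore M := Subgroup.zpowers_le.mpr hzσ
  have hXt : IsPGroup t X := isPGroup_of_card_eq_prime hXc
  have htσ : t ∈ sigma M := sigmaCore_isPi M t ht (hXc ▸ Subgroup.card_dvd_of_le hXσ)
  have hAE : R ⊔ P ≤ E := sup_le hs.hRE h.hPE
  have hAσ : R ⊔ P ≤ Subgroup.normalizer ((sigmaCore M : Subgroup G) : Set G) :=
    (hAE.trans hE.1).trans (le_normalizer_sigmaCore M)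
  have hEσ : E ≤ Subgroup.normalizer ((sigmaCore M : Subgroup G) : Set G) :=
    hE.1.trans (le_normalizer_sigmaCore M)
  have hcopE := coprime_compl hG M hM hE
  have hcop : (Nat.card (R ⊔ P : Subgroup G)).Coprime (Nat.card (sigmaCore M)) :=
    Nat.Coprime.coprime_dvd_left (Subgroup.card_dvd_of_le hAE) hcopE
  have hMs : Group.IsSolvable M := hG.2.2.2 M hM.1
  have hEs : Group.IsSolvable E := isSolvable_of_le hE.1 hMs
  have hAs : Group.IsSolvable (R ⊔ P : Subgroup G) := isSolvable_of_le hAE hEs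
  have hAX : R ⊔ P ≤ Subgroup.normalizer (X : Set G) := by
    refine le_trans ?_ (Subgroup.centralizer_le_normalizer _)
    apply sup_le
    · intro a ha
      rw [Subgroup.mem_centralizer_iff]
      intro x hx
      obtain ⟨k, rfl⟩ := Subgroup.mem_zpowers_iff.mp hx
      have hc : Commute a z := (Subgroup.mem_centralizer_iff.mp hzR a ha)
      exact ((hc.zpow_right k).eq).symm
    · intro a ha
      rw [Subgroup.mem_centralizer_iff]
      intro x hx
      obtain ⟨k, rfl⟩ := Subgroup.mem_zpowers_iff.mp hx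
      have hc : Commute a z := (Subgroup.mem_centralizer_iff.mp hzP a ha)
      exact ((hc.zpow_right k).eq).symm
  obtain ⟨S, hXS, hAS⟩ := exists_invariant_sylow_ge (R ⊔ P) (sigmaCore M) hAσ hcop (Or.inl hAs) t
    X hXσ hXt hAX
  have hzS : z ∈ (S : Subgroup (sigmaCore M)).map (sigmaCore M).subtype :=
    hXS (Subgroup.mem_zpowers z)
  have hz1 : z ≠ 1 := by
    intro h0
    rw [h0, orderOf_one] at hzo
    exact ht.one_lt.ne hzo
  by_cases htβ : t ∈ beta M
  · have h4b := h.inf_centralizer_of_beta hG t htβ S (le_sup_left.trans hAS)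
      (le_sup_right.trans hAS)
    have : z ∈ (S : Subgroup (sigmaCore M)).map (sigmaCore M).subtype ⊓
        Subgroup.centralizer (R : Set G) ⊓ Subgroup.centralizer (P : Set G) := ⟨⟨hzS, hzR⟩, hzP⟩
    rw [h4b, Subgroup.mem_bot] at this
    exact hz1 this
  · obtain ⟨SE, hSE⟩ := exists_invariant_sylow E (sigmaCore M) hEσ hcopE (Or.inl hEs) t
    have h4a := h.inf_centralizer_of_not_beta hG h1428 t htσ htβ SE hSE
    obtain ⟨c, hcA, hc⟩ := exists_centralizer_conj_sylow (R ⊔ P) (sigmaCore M) hAσ hcop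
      (Or.inl hAs) t S SE hAS (hAE.trans hSE)
    have hw : (c : G) * z * (c : G)⁻¹ ∈
        (SE : Subgroup (sigmaCore M)).map (sigmaCore M).subtype := by
      rw [← hc, map_sylow_conj_smul]
      exact conj_mem_conj_smul hzS
    have hwP : (c : G) * z * (c : G)⁻¹ ∈ Subgroup.centralizer (P : Set G) := by
      rw [Subgroup.mem_centralizer_iff]
      intro a ha
      have h1 : a * (c : G) = (c : G) * a :=
        Subgroup.mem_centralizer_iff.mp hcA a (Subgroup.mem_sup_right ha)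
      have h2 : a * z = z * a := Subgroup.mem_centralizer_iff.mp hzP a ha
      have hc1 : Commute a (c : G) := h1
      have hz2 : Commute a z := h2
      exact ((hc1.mul_right hz2).mul_right hc1.inv_right).eq
    have : (c : G) * z * (c : G)⁻¹ ∈ (SE : Subgroup (sigmaCore M)).map (sigmaCore M).subtype ⊓
        Subgroup.centralizer (P : Set G) := ⟨hw, hwP⟩
    rw [h4a, Subgroup.mem_bot] at this
    apply hz1
    have h3 := congrArg (fun u => (c : G)⁻¹ * u * (c : G)) this
    simpa [mul_assoc] using h3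

/-- `P` normalizes `Y₃ = C_{M_σ}(R)` -/
theorem hPY (h : B1 M E R H P r p) (hG : IsMinSimpleOddOrder G) :
    P ≤ Subgroup.normalizer
      ((sigmaCore M ⊓ Subgroup.centralizer (R : Set G) : Subgroup G) : Set G) := by
  apply le_normalizer_inf
  · exact (h.hPE.trans h.toSetup.hE.1).trans (le_normalizer_sigmaCore M)
  · exact (h.hPN hG).trans (normalizer_le_normalizer_cent R)

end B1

end Cfsg.Agent.Lib.Helper68.BG13D
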