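import Mathlib
import Cfsg.Prelude.Def_OddOrderLocal
import Cfsg.Agent.Lib.Helper68.BGThirteenD5
import Cfsg.Agent.S1420

/-!
# Bender–Glauberman §13, Lemmas 13.10 / 13.11: the case `r ∈ τ₂(H)`  (helper68)

In the configuration `Setup M E R H r` (assuming 13.9): if `r ∈ τ₂(H)` then no prime divisor of
`|C_{M_σ}(R)|` lies in `τ₂(H) ∪ τ₃(H)`.
-/

set_option autoImplicit false

namespace Cfsg.Agent.Lib.Helper68.BG13D

open Cfsg
open scoped commutatorElement Pointwise
open Cfsg.Agent.Lib.Helper34 (UniquenessThm)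
open Cfsg.Agent.Lib.Helper54
open Cfsg.Agent.Lib.Helper97.BGThirteenSix (Stmt1428)

variable {G : Type*} [Group G] [Finite G]

omit [Finite G] in
/-- an elementary abelian group of order `t ^ 2` is not cyclic -/
theorem not_isCyclic_of_elemAb_sq {t : ℕ} (ht : t.Prime) {A : Subgroup G}
    (hAe : IsElementaryAbelian t A) (hAc : Nat.card A = t ^ 2) : ¬ IsCyclic A := by
  intro hc
  obtain ⟨g, hg⟩ := hc.exists_generator
  have h1 : Nat.card A = orderOf g := (orderOf_eq_card_of_forall_mem_zpowers hg).symm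
  have h2 : g ^ t = 1 := by
    apply Subtype.ext
    have := hAe.2 (g : G) g.2
    simpa using this
  have h3 : orderOf g ∣ t := orderOf_dvd_of_pow_eq_one h2
  rw [← h1, hAc] at h3
  have h4 := Nat.le_of_dvd ht.pos h3
  have h5 : t < t ^ 2 := by
    calc t = t ^ 1 := (pow_one t).symm
      _ < t ^ 2 := Nat.pow_lt_pow_right ht.one_lt (by norm_num)
  omega

/-- a subgroup of `N_G(X)` lies in `M` when `M` is the only maximal subgroup over `N_G(X)` -/
theorem normalizer_le_of_uniq (hG : IsMinSimpleOddOrder G) {t : ℕ} [Fact t.Prime] {M X : Subgroup G}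
    (hX : Nat.card X = t)
    (h : ∀ L : Subgroup G, IsCoatom L → Subgroup.normalizer (X : Set G) ≤ L → L = M) :
    Subgroup.normalizer (X : Set G) ≤ M := by
  have ht : t.Prime := Fact.out
  have hX1 : X ≠ ⊥ := ne_bot_of_card_eq_prime ht hX
  have hXT : X ≠ ⊤ := ne_top_of_isPGroup hG.2.1 hG.2.2.1 (isPGroup_of_card_eq_prime hX)
  obtain ⟨L, hL, hNL⟩ := exists_isCoatom_ge (normalizer_ne_top_of_simple hG.2.1 hX1 hXT)
  rw [← h L hL hNL]
  exact hNL

namespace Setup

variable {M E R H : Subgroup G} {r : ℕ}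

theorem sigma_disj (h : Setup M E R H r) (hG : IsMinSimpleOddOrder G) (hσd : SigmaDisjoint G) :
    ∀ q ∈ sigma M, q ∉ sigma H :=
  hσd M H h.hM h.hH (nc_map_of_smul (h.nc hG))

/-- primes of `C_{M_σ}(R)` -/
theorem Y_primes (h : Setup M E R H r) (hG : IsMinSimpleOddOrder G) (hσd : SigmaDisjoint G) :
    ∀ q : ℕ, q.Prime → q ∣ Nat.card ↥(sigmaCore M ⊓ Subgroup.centralizer (R : Set G)) →
      q ∈ sigma M ∧ q ∉ sigma H := by
  intro q hq hqd
  have h1 : q ∈ sigma M := sigmaCore_isPi M q hq (hqd.trans (Subgroup.card_dvd_of_le inf_le_left))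
  exact ⟨h1, h.sigma_disj hG hσd q h1⟩

/-- **Case `r ∈ τ₂(H)`.** -/
theorem false_of_tau2 (h : Setup M E R H r) (hG : IsMinSimpleOddOrder G) (hσd : SigmaDisjoint G)
    (hrτ : r ∈ tau2 H) (t : ℕ) (ht : t.Prime)
    (htY : t ∣ Nat.card ↥(sigmaCore M ⊓ Subgroup.centralizer (R : Set G)))
    (htH : t ∈ tau2 H ∨ t ∈ tau3 H) : False := by
  have hr : r.Prime := h.hr.1
  have : Fact r.Prime := ⟨hr⟩
  have : Fact t.Prime := ⟨ht⟩
  have hU := uT hG
  have hM := h.hM
  have hH := h.hH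
  have hσM : sigmaCore M ≤ M := piCoreOf_le _ _
  set Y := sigmaCore M ⊓ Subgroup.centralizer (R : Set G) with hY
  have hYM : Y ≤ M := inf_le_left.trans hσM
  obtain ⟨htσ, -⟩ := h.Y_primes hG hσd t ht htY
  -- a complement `E_H` of `H_σ` containing `Y R`
  have hRY : R ≤ Subgroup.normalizer (Y : Set G) := by
    refine le_trans ?_ (Subgroup.centralizer_le_normalizer _)
    intro a ha
    rw [Subgroup.mem_centralizer_iff]
    intro y hy
    exact (Subgroup.mem_centralizer_iff.mp hy.2 a ha).symm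
  have hDH : Y ⊔ R ≤ H := sup_le h.hYH h.hRH
  have hDpi : ∀ q : ℕ, q.Prime → q ∣ Nat.card (Y ⊔ R : Subgroup G) → q ∉ sigma H := by
    intro q hq hqd
    have h1 := hqd.trans (Cfsg.Agent.Lib.Helper22.card_sup_dvd_mul_of_le_normalizer hRY)
    rcases (Nat.Prime.dvd_mul hq).mp h1 with h2 | h2
    · exact (h.Y_primes hG hσd q hq h2).2
    · rw [h.hR] at h2
      rw [(Nat.prime_dvd_prime_iff_eq hq hr).mp h2]
      exact hrτ.2.1
  obtain ⟨EH, hEH, hDEH⟩ := Cfsg.Agent.Lib.Helper97.BGTwelve.exists_complIn_ge (hG.2.2.2 H hH.1)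
    (sigmaCore_hall_of hG hU H hH).1 hDH hDpi
  have hYEH : Y ≤ EH := le_sup_left.trans hDEH
  -- `A_r ≤ E_H`
  have hrk : ¬ PRankLE r 1 ↥EH :=
    Cfsg.Agent.Lib.Helper97.BGTwelve.not_pRankLE_complement hEH (sigmaCore_isPi H) hrτ.2.1
      hrτ.2.2.2
  obtain ⟨Ar, hArE, hAre, hArc⟩ :=
    Cfsg.Agent.Lib.Helper97.BGTwelve.exists_elemAb_sq_of_not_pRankLE_one EH hrk
  -- it suffices to show `E_H ≤ M`
  suffices hEM : EH ≤ M by
    refine not_pRankLE_of_elemAb (hArE.trans hEM) (commute_of_abelian hAre.1) hAre.2 ?_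
      h.hr.2.2.2
    rw [hArc]
    exact Nat.pow_lt_pow_right hr.one_lt (by norm_num)
  -- a subgroup `X₃ ≤ Y` of order `t`
  obtain ⟨x, hx⟩ := exists_prime_orderOf_dvd_card' t htY
  set X := Subgroup.zpowers (x : G) with hX
  have hXc : Nat.card X = t := by rw [Nat.card_zpowers, Subgroup.orderOf_coe, hx]
  have hXY : X ≤ Y := Subgroup.zpowers_le.mpr x.2
  have hXM : X ≤ M := hXY.trans hYM
  rcases htH with ht2 | ht3
  · -- `t ∈ τ₂(H)`
    have hrkt : ¬ PRankLE t 1 ↥EH :=
      Cfsg.Agent.Lib.Helper97.BGTwelve.not_pRankLE_complement hEH (sigmaCore_isPi H) ht2.2.1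
        ht2.2.2.2
    obtain ⟨At, hAtE, hAte, hAtc⟩ :=
      Cfsg.Agent.Lib.Helper97.BGTwelve.exists_elemAb_sq_of_not_pRankLE_one EH hrkt
    obtain ⟨⟨hEN, hXA⟩, -, -⟩ := Cfsg.Agent.S1418.result hG H hH EH hEH t ht2 At ⟨hAtE, hAte, hAtc⟩
    have hXAt : X ≤ At := hXA X (hXY.trans hYEH) hXc
    have hAtt : IsPGroup t At := Cfsg.Agent.Lib.Helper34.isPGroup_of_isElementaryAbelian hAte
    have hAtM : At ≤ M := by
      by_cases htβ : t ∈ beta M
      · obtain ⟨P⟩ : Nonempty (Sylow t ↥(sigmaCore M)) := inferInstance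
        have hC := (Cfsg.Agent.S1423.result hG M hM t htσ X hXM hXc P (Or.inl htβ)).1.1
        refine le_trans ?_ hC
        intro a ha
        rw [Subgroup.mem_centralizer_iff]
        intro y hy
        exact commute_of_abelian hAte.1 y (hXAt hy) a ha
      · -- an `R`-invariant Sylow `t`-subgroup of `M_σ` lies in `Y ≤ E_H`
        have hRN : R ≤ Subgroup.normalizer ((sigmaCore M : Subgroup G) : Set G) :=
          h.hRM.trans (le_normalizer_sigmaCore M)
        have hRs : Group.IsSolvable R := isSolvable_of_le h.hRM (hG.2.2.2 M hM.1)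
        obtain ⟨S, hS⟩ := exists_invariant_sylow R (sigmaCore M) hRN h.not_dvd_sigmaCore
          (Or.inl hRs) t
        set S' := (S : Subgroup (sigmaCore M)).map (sigmaCore M).subtype with hS'
        have hS'σ : S' ≤ sigmaCore M := Subgroup.map_subtype_le _
        have hS'M : S' ≤ M := hS'σ.trans hσM
        have hS't : IsPGroup t S' := S.isPGroup'.map _
        have hS'C : S' ≤ Subgroup.centralizer (R : Set G) :=
          h.centralizes hG t htσ htβ S' hS't hS'M hS
        have hS'EH : S' ≤ EH := (le_inf hS'σ hS'C).trans hYEH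
        have hidx := sylow_sigmaCore_relIndex hG M hM t htσ S
        have hq' : IsPGroup t (S'.subgroupOf M) := hS't.comap_subtype
        obtain ⟨SM, hSM⟩ : ∃ SM : Sylow t ↥M, (SM : Subgroup M) = S'.subgroupOf M :=
          ⟨hq'.toSylow hidx, IsPGroup.toSylow_coe _ _⟩
        have hSM' : (SM : Subgroup M).map M.subtype = S' := by
          rw [hSM, Subgroup.map_subgroupOf_eq_of_le hS'M]
        obtain ⟨-, Q, hQ⟩ := Cfsg.Agent.Lib.Helper68.sylow_of_mem_sigma htσ SM
        rw [hSM'] at hQ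
        have hsup : IsPGroup t (S' ⊔ At : Subgroup G) :=
          IsPGroup.to_sup_of_normal_right' hS't hAtt (hS'EH.trans hEN)
        have h1 := Q.is_maximal' hsup (by rw [hQ]; exact le_sup_left)
        have : At ≤ S' := by
          rw [← hQ, ← h1]
          exact le_sup_right
        exact this.trans hS'M
    have hNAt := (Cfsg.Agent.S1420.result hG M hM E h.hE).2.2.1 t At htσ hAtt hAtM
      (not_isCyclic_of_elemAb_sq ht hAte hAtc)
    exact hEN.trans hNAt
  · -- `t ∈ τ₃(H)`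
    have hEN := (tau3_normal hG H hH EH hEH t ht3 X (hXY.trans hYEH) hXc).1
    have huniq := h.normalizer_uniq hG hσd t htσ ht3.2.2.2 X hXM hXc
    exact hEN.trans (normalizer_le_of_uniq hG hXc huniq)

end Setup

end Cfsg.Agent.Lib.Helper68.BG13D
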