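import Mathlib
import Cfsg.Prelude.Def_OddOrderLocal
import Cfsg.Agent.Lib.Helper68.BGThirteenD6
import Cfsg.Agent.Lib.Helper54.Transitivity
import Cfsg.Agent.S1416

/-!
# Bender–Glauberman §13, Lemmas 13.10 / 13.11: preparations for the case `r ∈ σ(H)`  (helper68)
-/

set_option autoImplicit false

namespace Cfsg.Agent.Lib.Helper68.BG13D

open Cfsg
open scoped commutatorElement Pointwise
open Cfsg.Agent.Lib.Helper34 (UniquenessThm)
open Cfsg.Agent.Lib.Helper54
open Cfsg.Agent.Lib.Helper97.BGThirteenSix (Stmt1428)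

variable {G : Type*} [Group G] [Finite G]

theorem hCsq (hG : IsMinSimpleOddOrder G) : Cfsg.Agent.Lib.Helper50.CentSqLE G :=
  fun M' hM' p _ A hAM hAe hAc => (Cfsg.Agent.S1416.result hG M' hM' p A ⟨hAM, hAe, hAc⟩).1

/-- a `σ(M)`-subgroup of `M` lies in `M_σ` -/
theorem le_sigmaCore_of (hG : IsMinSimpleOddOrder G) (M : Subgroup G) (hM : IsCoatom M)
    {X : Subgroup G} (hXM : X ≤ M) (hX : ∀ q : ℕ, q.Prime → q ∣ Nat.card X → q ∈ sigma M) :
    X ≤ sigmaCore M :=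
  Cfsg.Agent.Lib.Helper96.BG142.le_hall_of_normal (sigmaCore_hall_of hG (uT hG) M hM).1
    (le_normalizer_sigmaCore M) hXM hX

/-- a `q`-subgroup of `M`, `q ∈ σ(M)`, lies in `M_σ` -/
theorem le_sigmaCore_of_isPGroup (hG : IsMinSimpleOddOrder G) (M : Subgroup G) (hM : IsCoatom M)
    {q : ℕ} [Fact q.Prime] (hq : q ∈ sigma M) {X : Subgroup G} (hXM : X ≤ M) (hXq : IsPGroup q X) :
    X ≤ sigmaCore M := by
  apply le_sigmaCore_of hG M hM hXM
  intro s hs hsd
  obtain ⟨k, hk⟩ := IsPGroup.iff_card.mp hXq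
  rw [hk] at hsd
  rw [(Nat.prime_dvd_prime_iff_eq hs Fact.out).mp (hs.dvd_of_dvd_pow hsd)]
  exact hq

/-- some complement of `M_σ` in `M` -/
theorem exists_compl (hG : IsMinSimpleOddOrder G) (M : Subgroup G) (hM : IsCoatom M) :
    ∃ E : Subgroup G, IsComplIn E (sigmaCore M) M := by
  obtain ⟨E, hE, -⟩ := Cfsg.Agent.Lib.Helper97.BGTwelve.exists_complIn_ge (K := ⊥)
    (hG.2.2.2 M hM.1) (sigmaCore_hall_of hG (uT hG) M hM).1 bot_le (by
      intro p hp hpd
      rw [Subgroup.card_bot] at hpd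
      exact absurd (Nat.dvd_one.mp hpd) hp.ne_one)
  exact ⟨E, hE⟩

namespace Setup

variable {M E R H : Subgroup G} {r : ℕ}

/-- **no prime of `C_{M_σ}(R)` lies in `τ₂(H)` when `r ∈ σ(H)`** -/
theorem not_tau2_of_sigma (h : Setup M E R H r) (hG : IsMinSimpleOddOrder G) (hrσ : r ∈ sigma H)
    (t : ℕ) (ht : t.Prime)
    (htY : t ∣ Nat.card ↥(sigmaCore M ⊓ Subgroup.centralizer (R : Set G))) : t ∉ tau2 H := by
  intro ht2
  have hr : r.Prime := h.hr.1
  have : Fact r.Prime := ⟨hr⟩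
  have : Fact t.Prime := ⟨ht⟩
  have hU := uT hG
  have hM := h.hM
  have hH := h.hH
  have hσM : sigmaCore M ≤ M := piCoreOf_le _ _
  have htσ : t ∈ sigma M :=
    sigmaCore_isPi M t ht (htY.trans (Subgroup.card_dvd_of_le inf_le_left))
  obtain ⟨x, hx⟩ := exists_prime_orderOf_dvd_card' t htY
  have hxo : orderOf (x : G) = t := by rw [Subgroup.orderOf_coe, hx]
  set X := Subgroup.zpowers (x : G) with hX
  have hXc : Nat.card X = t := by rw [Nat.card_zpowers, hxo]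
  have hxM : (x : G) ∈ M := hσM x.2.1
  have hxH : (x : G) ∈ H := h.hYH x.2
  have hXM : X ≤ M := Subgroup.zpowers_le.mpr hxM
  have hx1 : (x : G) ≠ 1 := by
    intro h0
    rw [h0, orderOf_one] at hxo
    exact ht.one_lt.ne hxo
  -- `R ≤ H_σ`
  have hRσ : R ≤ sigmaCore H :=
    le_sigmaCore_of_isPGroup hG H hH hrσ h.hRH (isPGroup_of_card_eq_prime h.hR)
  obtain ⟨y, hy1⟩ := (Subgroup.ne_bot_iff_exists_ne_one).mp h.hR1
  have hy1' : (y : G) ≠ 1 := fun h0 => hy1 (Subtype.ext h0)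
  have hxy : (x : G) * (y : G) = (y : G) * (x : G) :=
    (Subgroup.mem_centralizer_iff.mp x.2.2 (y : G) y.2).symm
  obtain ⟨EH, hEH⟩ := exists_compl hG H hH
  have h20 := (Cfsg.Agent.S1420.result hG H hH EH hEH).2.2.2 (x : G) hxH hx1 (by
      intro q hq hqd
      rw [hxo] at hqd
      rw [(Nat.prime_dvd_prime_iff_eq hq ht).mp hqd]
      exact ht2) ⟨hxH, (y : G), hRσ y.2, hy1', hxy⟩
  have hNX : Subgroup.normalizer (X : Set G) ≤ H := by
    apply normalizer_le_of_uniq hG hXc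
    intro L hL hNL
    apply h20.2 L hL
    -- `C(x) ≤ N(⟨x⟩)`
    refine le_trans ?_ hNL
    intro g hg
    rw [Subgroup.mem_normalizer_iff]
    intro a
    have hgx : g * (x : G) = (x : G) * g :=
      (Subgroup.mem_centralizer_singleton_iff.mp hg)
    have hc : Commute g (x : G) := hgx
    constructor
    · intro ha
      obtain ⟨k, rfl⟩ := Subgroup.mem_zpowers_iff.mp ha
      have hck : Commute g ((x : G) ^ k) := hc.zpow_right k
      have : g * (x : G) ^ k * g⁻¹ = (x : G) ^ k := by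
        rw [hck.eq]; group
      rw [this]
      exact Subgroup.zpow_mem _ (Subgroup.mem_zpowers _) k
    · intro ha
      obtain ⟨k, hk⟩ := Subgroup.mem_zpowers_iff.mp ha
      have hck : Commute g ((x : G) ^ k) := hc.zpow_right k
      have : a = (x : G) ^ k := by
        have h1 : a = g⁻¹ * (g * a * g⁻¹) * g := by group
        rw [h1, ← hk]
        have h2 : g⁻¹ * (x : G) ^ k * g = (x : G) ^ k := by
          have := hck.eq
          calc g⁻¹ * (x : G) ^ k * g = g⁻¹ * ((x : G) ^ k * g) := by group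
            _ = g⁻¹ * (g * (x : G) ^ k) := by rw [this]
            _ = (x : G) ^ k := by group
        exact h2
      rw [this]
      exact Subgroup.zpow_mem _ (Subgroup.mem_zpowers _) k
  have hXt : IsPGroup t X := isPGroup_of_card_eq_prime hXc
  have hX1 : X ≠ ⊥ := ne_bot_of_card_eq_prime ht hXc
  have hXMH : X ≤ M ⊓ H := le_inf hXM (Subgroup.zpowers_le.mpr hxH)
  obtain ⟨S₀, hXS₀⟩ := exists_sylow_map_ge hXMH hXt
  have h24 := (Cfsg.Agent.S1424.result hG M hM t htσ X hXt hX1 hXM H hH (h.ne hG) hNX S₀ hXS₀).2.2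
  set S' := (S₀ : Subgroup ↥(M ⊓ H)).map (M ⊓ H).subtype with hS'
  have hS'MH : S' ≤ M ⊓ H := Subgroup.map_subtype_le _
  have hS't : IsPGroup t S' := S₀.isPGroup'.map _
  have hd2 := sigma_embedding_d2 hG hU (hCsq hG)
    (fun M' hM' q _ hq A hAM hAe hAc =>
      (Cfsg.Agent.S1417.result hG M' hM' q hq A ⟨hAM, hAe, hAc⟩).1)
    (fun M' hM' q _ hq A hAM hAe hAc =>
      (Cfsg.Agent.S1417.result hG M' hM' q hq A ⟨hAM, hAe, hAc⟩).2.2.2.2.1)
    (fun M' hM' E' hE' q _ hq A hAE hAe hAc =>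
      (Cfsg.Agent.S1418.result hG M' hM' E' hE' q hq A ⟨hAE, hAe, hAc⟩).1.1)
    M H hM hH (fun h0 => h.ne hG h0.symm) t htσ ht2 S' hS't (hS'MH.trans inf_le_left)
    (hS'MH.trans inf_le_right) h24
  have hRbot : R ≤ sigmaCore H ⊓ M := le_inf hRσ h.hRM
  rw [hd2.2.1] at hRbot
  exact h.hR1 (le_bot_iff.mp hRbot)

end Setup

namespace B1

variable {M E R H P : Subgroup G} {r p : ℕ}

theorem hPH (h : B1 M E R H P r p) (hG : IsMinSimpleOddOrder G) : P ≤ H :=
  h.hPE.trans (h.toSetup.hEH hG)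

omit [Finite G] in
theorem hPM (h : B1 M E R H P r p) : P ≤ M := h.hPE.trans h.toSetup.hE.1

theorem coprime_PY (h : B1 M E R H P r p) (hG : IsMinSimpleOddOrder G) :
    (Nat.card P).Coprime
      (Nat.card ↥(sigmaCore M ⊓ Subgroup.centralizer (R : Set G))) :=
  Nat.Coprime.coprime_dvd_left (Subgroup.card_dvd_of_le h.hPE)
    (Nat.Coprime.coprime_dvd_right (Subgroup.card_dvd_of_le inf_le_left)
      (coprime_compl hG M h.toSetup.hM h.toSetup.hE))

/-- `p ∉ σ(H)` -/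
theorem p_not_sigma_H (h : B1 M E R H P r p) (hG : IsMinSimpleOddOrder G) (h1428 : Stmt1428 G) :
    p ∉ sigma H := by
  intro hpH
  have hs := h.toSetup
  have : Fact p.Prime := ⟨h.hp.1⟩
  have key := Cfsg.Agent.Lib.Helper97.BGThirteen.comm_of_mem_sigma hG (uT hG) M H hs.hM hs.hH p
    h.hp.2.1 hpH (sigmaCore M ⊓ Subgroup.centralizer (R : Set G)) P inf_le_left
    (isPGroup_of_card_eq_prime h.hP) (h.hPY hG) hs.hYH (h.hPH hG)
  apply h.hY
  rw [eq_bot_iff, ← h.fpf hG h1428]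
  intro c hc
  refine Subgroup.mem_inf.mpr ⟨hc, ?_⟩
  apply Subgroup.mem_centralizer_iff.mpr
  intro s hs'
  exact key c hc s hs'

/-- `Y₃ = [Y₃, P] ≤ H'` -/
theorem Y_le_comm (h : B1 M E R H P r p) (hG : IsMinSimpleOddOrder G) (h1428 : Stmt1428 G) :
    sigmaCore M ⊓ Subgroup.centralizer (R : Set G) ≤ ⁅H, H⁆ := by
  have hs := h.toSetup
  have hPs : Group.IsSolvable P :=
    isSolvable_of_le h.hPM (hG.2.2.2 M hs.hM.1)
  have h26 := Cfsg.Agent.S0026.result P (sigmaCore M ⊓ Subgroup.centralizer (R : Set G))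
    (h.hPY hG) (h.coprime_PY hG) (Or.inl hPs)
  rw [h.fpf hG h1428, sup_bot_eq] at h26
  rw [← h26]
  exact Subgroup.commutator_mono hs.hYH (h.hPH hG)

/-- every prime of `Y₃` lies in `τ₂(H) ∪ τ₃(H)` -/
theorem Y_tau23 (h : B1 M E R H P r p) (hG : IsMinSimpleOddOrder G) (h1428 : Stmt1428 G)
    (hσd : SigmaDisjoint G) (t : ℕ) (ht : t.Prime)
    (htY : t ∣ Nat.card ↥(sigmaCore M ⊓ Subgroup.centralizer (R : Set G))) :
    t ∈ tau2 H ∨ t ∈ tau3 H := by
  have hs := h.toSetup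
  have htH : t ∣ Nat.card H := htY.trans (Subgroup.card_dvd_of_le hs.hYH)
  have htH' : t ∣ Nat.card ↥⁅H, H⁆ := htY.trans (Subgroup.card_dvd_of_le (h.Y_le_comm hG h1428))
  rcases tau_tri hG H hs.hH ht htH (hs.Y_primes hG hσd t ht htY).2 with h1 | h2 | h3
  · exact absurd htH' h1.2.2.2.1
  · exact Or.inl h2
  · exact Or.inr h3

end B1

end Cfsg.Agent.Lib.Helper68.BG13D
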