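import Mathlib
import Cfsg.Prelude.Def_OddOrderLocal
import Cfsg.Agent.Lib.Helper68.BGThirteenD7

/-!
# Bender–Glauberman §13: the key configuration (b1) is impossible  (helper68)

`b1_false`: `M` maximal, `E` a complement of `M_σ`, `P ≤ E` of order `p ∈ τ₁(M)`, `R ≤ E` of order
`r ∈ τ₃(M)`, `[R, P] ≠ 1`, `C_{M_σ}(R) ≠ 1`: contradiction.  Hypotheses: 13.9 (`SigmaDisjoint`),
the literal S1428 (`Stmt1428`) and the general asymmetry lemma 13.8 (`H138`).
-/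

set_option autoImplicit false

namespace Cfsg.Agent.Lib.Helper68.BG13D

open Cfsg
open scoped commutatorElement Pointwise
open Cfsg.Agent.Lib.Helper34 (UniquenessThm)
open Cfsg.Agent.Lib.Helper54
open Cfsg.Agent.Lib.Helper97.BGThirteenSix (Stmt1428)

/-- **BG Lemma 13.8** (asymmetry), general form: `M`, `M*` maximal and not conjugate,
`p ∈ τ₁(M) ∩ τ₁(M*)`, `P ≤ M ∩ M*` of order `p`; `Q ≤ M ∩ M*` a nontrivial `q`-group, Sylow in `M`,
`q ∈ σ(M*)`, `N_M(Q) ≤ M*`, `P` normalizing `Q` fixed-point-freely; `Q*` the same with `M` and `M*`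
exchanged.  Then `False`. -/
def H138 (G : Type*) [Group G] : Prop :=
  ∀ (M Mstar : Subgroup G), IsCoatom M → IsCoatom Mstar →
    (∀ g : G, Mstar.map (MulAut.conj g).toMonoidHom ≠ M) →
    ∀ (p : ℕ), p ∈ tau1 M → p ∈ tau1 Mstar → ∀ P : Subgroup G, P ≤ M ⊓ Mstar → Nat.card P = p →
    ∀ (q : ℕ) [Fact q.Prime] (Q : Subgroup G), IsPGroup q Q → Q ≠ ⊥ → Q ≤ M ⊓ Mstar →
      ¬ q ∣ Q.relIndex M → q ∈ sigma Mstar → M ⊓ Subgroup.normalizer (Q : Set G) ≤ Mstar →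
      P ≤ Subgroup.normalizer (Q : Set G) → Q ⊓ Subgroup.centralizer (P : Set G) = ⊥ →
    ∀ (qs : ℕ) [Fact qs.Prime] (Qs : Subgroup G), IsPGroup qs Qs → Qs ≠ ⊥ → Qs ≤ M ⊓ Mstar →
      ¬ qs ∣ Qs.relIndex Mstar → qs ∈ sigma M → Mstar ⊓ Subgroup.normalizer (Qs : Set G) ≤ M →
      P ≤ Subgroup.normalizer (Qs : Set G) → Qs ⊓ Subgroup.centralizer (P : Set G) = ⊥ → False

variable {G : Type*} [Group G] [Finite G]

/-- the index of a complement of `M_σ` is `|M_σ|` -/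
theorem relIndex_compl {M E : Subgroup G} (hE : IsComplIn E (sigmaCore M) M) :
    E.relIndex M = Nat.card (sigmaCore M) := by
  have h1 := Cfsg.Agent.Lib.Helper23.card_of_isComplIn hE
  have h2 := card_mul_relIndex hE.1
  rw [h1] at h2
  exact Nat.eq_of_mul_eq_mul_left Nat.card_pos h2

/-- a Sylow `q`-subgroup of a complement `E` (`q ∉ σ(M)`) is a Sylow `q`-subgroup of `M` -/
theorem sylow_compl_relIndex {M E : Subgroup G} (hE : IsComplIn E (sigmaCore M) M) (q : ℕ)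
    [Fact q.Prime] (hq : q ∉ sigma M) (Q₁ : Sylow q ↥E) :
    ¬ q ∣ ((Q₁ : Subgroup E).map E.subtype).relIndex M := by
  rw [← Subgroup.relIndex_mul_relIndex _ E M (Subgroup.map_subtype_le _) hE.1]
  intro hd
  rcases (Nat.Prime.dvd_mul Fact.out).mp hd with h1 | h1
  · apply Q₁.not_dvd_index
    rwa [Cfsg.Agent.Lib.Helper24.relIndex_map_subtype_self] at h1
  · rw [relIndex_compl hE] at h1
    exact hq (sigmaCore_isPi M q Fact.out h1)

namespace B1

variable {M E R H P : Subgroup G} {r p : ℕ}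

/-- **Case `r ∈ σ(H)`.** -/
theorem false_of_sigma (h : B1 M E R H P r p) (hG : IsMinSimpleOddOrder G) (h1428 : Stmt1428 G)
    (hσd : SigmaDisjoint G) (h138 : H138 G) (hrσ : r ∈ sigma H) : False := by
  have hs := h.toSetup
  have hM := hs.hM
  have hH := hs.hH
  have hE := hs.hE
  have hU := uT hG
  have hr : r.Prime := hs.hr.1
  have hp : p.Prime := h.hp.1
  have : Fact r.Prime := ⟨hr⟩
  have : Fact p.Prime := ⟨hp⟩
  have hσM : sigmaCore M ≤ M := piCoreOf_le _ _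
  set Y := sigmaCore M ⊓ Subgroup.centralizer (R : Set G) with hY
  have hYM : Y ≤ M := inf_le_left.trans hσM
  have hYH : Y ≤ H := hs.hYH
  have hYcard : Nat.card Y ≠ 1 := fun h0 => h.hY (Subgroup.card_eq_one.mp h0)
  obtain ⟨t, ht, htY⟩ := Nat.exists_prime_and_dvd hYcard
  have : Fact t.Prime := ⟨ht⟩
  obtain ⟨htσ, htH⟩ := hs.Y_primes hG hσd t ht htY
  have ht3 : t ∈ tau3 H :=
    (h.Y_tau23 hG h1428 hσd t ht htY).resolve_left (hs.not_tau2_of_sigma hG hrσ t ht htY)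
  have ht2' : t ≠ 2 := Cfsg.Agent.Lib.Helper96.BG142.ne_two_of_dvd_card hG htσ.2.1
  have hpH := h.p_not_sigma_H hG h1428
  have hPY := h.hPY hG
  have hPH := h.hPH hG
  -- a complement `E_H ≥ Y P`
  have hDH : Y ⊔ P ≤ H := sup_le hYH hPH
  have hDpi : ∀ q : ℕ, q.Prime → q ∣ Nat.card (Y ⊔ P : Subgroup G) → q ∉ sigma H := by
    intro q hq hqd
    have h1 := hqd.trans (Cfsg.Agent.Lib.Helper22.card_sup_dvd_mul_of_le_normalizer hPY)
    rcases (Nat.Prime.dvd_mul hq).mp h1 with h2 | h2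
    · exact (hs.Y_primes hG hσd q hq h2).2
    · rw [h.hP] at h2
      rw [(Nat.prime_dvd_prime_iff_eq hq hp).mp h2]
      exact hpH
  obtain ⟨EH, hEH, hDEH⟩ := Cfsg.Agent.Lib.Helper97.BGTwelve.exists_complIn_ge (hG.2.2.2 H hH.1)
    (sigmaCore_hall_of hG hU H hH).1 hDH hDpi
  have hYEH : Y ≤ EH := le_sup_left.trans hDEH
  have hPEH : P ≤ EH := le_sup_right.trans hDEH
  -- a `P`-invariant Sylow `t`-subgroup `T` of `Y`
  have hPs : Group.IsSolvable P := isSolvable_of_le h.hPM (hG.2.2.2 M hM.1)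
  obtain ⟨T₀, hT₀⟩ := exists_invariant_sylow P Y hPY (h.coprime_PY hG) (Or.inl hPs) t
  set T := (T₀ : Subgroup Y).map Y.subtype with hT
  have hTY : T ≤ Y := Subgroup.map_subtype_le _
  have hTt : IsPGroup t T := T₀.isPGroup'.map _
  have hT1 : T ≠ ⊥ := by
    intro h0
    apply T₀.ne_bot_of_dvd_card htY
    exact (Subgroup.map_eq_bot_iff_of_injective _ Y.subtype_injective).mp h0
  have hfpf := h.fpf hG h1428
  have hTP : T ⊓ Subgroup.centralizer (P : Set G) = ⊥ := by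
    rw [eq_bot_iff, ← hfpf]
    exact inf_le_inf_right _ hTY
  -- `X ≤ T` of order `t`
  obtain ⟨x, hxT, hxo⟩ := Cfsg.Agent.Lib.Helper47.bgs_exists_orderOf_eq T hTt hT1
  set X := Subgroup.zpowers x with hX
  have hXc : Nat.card X = t := by rw [Nat.card_zpowers, hxo]
  have hXT : X ≤ T := Subgroup.zpowers_le.mpr hxT
  have hXY : X ≤ Y := hXT.trans hTY
  have hXM : X ≤ M := hXY.trans hYM
  have hXEH : X ≤ EH := hXY.trans hYEH
  have huniq := hs.normalizer_uniq hG hσd t htσ ht3.2.2.2 X hXM hXc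
  have hNXM : Subgroup.normalizer (X : Set G) ≤ M := normalizer_le_of_uniq hG hXc huniq
  -- `R ≤ H_σ`, `τ₂(H) = ∅`
  have hRσ : R ≤ sigmaCore H :=
    le_sigmaCore_of_isPGroup hG H hH hrσ hs.hRH (isPGroup_of_card_eq_prime hs.hR)
  have hτ₂H : ∀ q : ℕ, q ∉ tau2 H := by
    have hX1 : X ≠ ⊥ := ne_bot_of_card_eq_prime ht hXc
    have hXTop : X ≠ ⊤ := ne_top_of_isPGroup hG.2.1 hG.2.2.1 (isPGroup_of_card_eq_prime hXc)
    obtain ⟨L, hL, hNL⟩ := exists_isCoatom_ge (normalizer_ne_top_of_simple hG.2.1 hX1 hXTop)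
    have hs' : Setup H EH X L t := ⟨hH, hEH, ht3, hXEH, hXc, hL, hNL⟩
    apply hs'.tau2_empty hG
    intro h0
    apply hs.hR1
    rw [eq_bot_iff, ← h0]
    refine le_inf hRσ ?_
    intro a ha
    rw [Subgroup.mem_centralizer_iff]
    intro y hy
    exact (Subgroup.mem_centralizer_iff.mp (hXY hy).2 a ha).symm
  -- Hall `τ₃(H)`-subgroup of `E_H`
  have hEHs : Group.IsSolvable EH := isSolvable_of_le hEH.1 (hG.2.2.2 H hH.1)
  obtain ⟨E₃H, hE₃H⟩ := Cfsg.Agent.Lib.Helper62.exists_isPiHallOf (tau3 H) EH hEHs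
  obtain ⟨hE₃Hc, -, hE₃Hn⟩ := (Cfsg.Agent.S1415.result hG H hH EH hEH).2.2 E₃H hE₃H
  have hTE₃ : T ≤ E₃H := by
    apply Cfsg.Agent.Lib.Helper96.BG142.le_hall_of_normal hE₃H hE₃Hn (hTY.trans hYEH)
    intro q hq hqd
    obtain ⟨k, hk⟩ := IsPGroup.iff_card.mp hTt
    rw [hk] at hqd
    rw [(Nat.prime_dvd_prime_iff_eq hq ht).mp (hq.dvd_of_dvd_pow hqd)]
    exact ht3
  -- `p ∈ τ₁(H)`
  have hpH1 : p ∈ tau1 H := by
    have hpdH : p ∣ Nat.card H := h.hP ▸ Subgroup.card_dvd_of_le hPH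
    rcases tau_tri hG H hH hp hpdH hpH with h1 | h2 | h3
    · exact h1
    · exact absurd h2 (hτ₂H p)
    · exfalso
      have hPE₃ : P ≤ E₃H := by
        apply Cfsg.Agent.Lib.Helper96.BG142.le_hall_of_normal hE₃H hE₃Hn hPEH
        intro q hq hqd
        rw [h.hP] at hqd
        rw [(Nat.prime_dvd_prime_iff_eq hq hp).mp hqd]
        exact h3
      apply hT1
      rw [eq_bot_iff, ← hTP]
      refine le_inf le_rfl ?_
      intro y hy
      rw [Subgroup.mem_centralizer_iff]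
      intro a ha
      exact Cfsg.Agent.Lib.Helper96.BG142.comm_of_isCyclic hE₃Hc a (hPE₃ ha) y (hTE₃ hy)
  -- the subgroup `Q`
  have hRr : IsPGroup r R := isPGroup_of_card_eq_prime hs.hR
  obtain ⟨Q₁, hRQ⟩ := exists_sylow_map_ge hs.hRE hRr
  set Q := (Q₁ : Subgroup E).map E.subtype with hQ
  have hQE : Q ≤ E := Subgroup.map_subtype_le _
  have hQM : Q ≤ M := hQE.trans hE.1
  have hQr : IsPGroup r Q := Q₁.isPGroup'.map _
  have hQ1 : Q ≠ ⊥ := fun h0 => hs.hR1 (le_bot_iff.mp (h0 ▸ hRQ))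
  have hr2 : r ≠ 2 := Cfsg.Agent.Lib.Helper96.BG142.ne_two_of_dvd_card hG
    (hs.hR ▸ Subgroup.card_dvd_of_le hs.hRM)
  have hQc : IsCyclic Q :=
    Cfsg.Agent.Lib.Helper97.BGTwelve.isCyclic_of_pRankLE_one hr2 Q hQr
      (pRankLE_of_le hQM hs.hr.2.2.2)
  have hidxQ : ¬ r ∣ Q.relIndex M := sylow_compl_relIndex hE r hs.hr.2.1 Q₁
  have hNQ : M ⊓ Subgroup.normalizer (Q : Set G) ≤ H := by
    refine le_trans inf_le_right (le_trans ?_ hs.hNH)
    intro g hg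
    exact Cfsg.Agent.Lib.Helper82.NilAbel.mem_normalizer_of_le_cyclic hQc hRQ hg
  have hEs : Group.IsSolvable E := isSolvable_of_le hE.1 (hG.2.2.2 M hM.1)
  obtain ⟨E₃, hE₃⟩ := Cfsg.Agent.Lib.Helper62.exists_isPiHallOf (tau3 M) E hEs
  obtain ⟨hE₃c, -, hE₃n⟩ := (Cfsg.Agent.S1415.result hG M hM E hE).2.2 E₃ hE₃
  have hQE₃ : Q ≤ E₃ := by
    apply Cfsg.Agent.Lib.Helper96.BG142.le_hall_of_normal hE₃ hE₃n hQE
    intro q hq hqd
    obtain ⟨k, hk⟩ := IsPGroup.iff_card.mp hQr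
    rw [hk] at hqd
    rw [(Nat.prime_dvd_prime_iff_eq hq hr).mp (hq.dvd_of_dvd_pow hqd)]
    exact hs.hr
  have hPQ : P ≤ Subgroup.normalizer (Q : Set G) := by
    intro a ha
    exact Cfsg.Agent.Lib.Helper82.NilAbel.mem_normalizer_of_le_cyclic hE₃c hQE₃ (hE₃n (h.hPE ha))
  have hQP : Q ⊓ Subgroup.centralizer (P : Set G) = ⊥ :=
    inf_centralizer_eq_bot_of_cyclic hQc hQr hRQ hs.hR
      (prime_order_frob hr hs.hR (h.hPN hG) h.hPR).2
  -- `T` is a Sylow `t`-subgroup of `H`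
  have hTH : T ≤ H := hTY.trans hYH
  obtain ⟨T₁, hTT₁⟩ := exists_sylow_map_ge hTH hTt
  set T' := (T₁ : Subgroup H).map H.subtype with hT'
  have hT'H : T' ≤ H := Subgroup.map_subtype_le _
  have hT't : IsPGroup t T' := T₁.isPGroup'.map _
  have hT'c : IsCyclic T' :=
    Cfsg.Agent.Lib.Helper97.BGTwelve.isCyclic_of_pRankLE_one ht2' T' hT't
      (pRankLE_of_le hT'H ht3.2.2.2)
  have hT'M : T' ≤ M := by
    refine le_trans ?_ hNXM
    refine le_trans ?_ (Subgroup.centralizer_le_normalizer _)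
    intro a ha
    rw [Subgroup.mem_centralizer_iff]
    intro y hy
    exact Cfsg.Agent.Lib.Helper96.BG142.comm_of_isCyclic hT'c y (hTT₁ (hXT hy)) a ha
  have hT'Y : T' ≤ Y := by
    have h1 : T' ≤ sigmaCore M := le_sigmaCore_of_isPGroup hG M hM htσ hT'M hT't
    exact le_inf h1 ((le_inf h1 hT'H).trans (hs.inf_le hG))
  have hT'T : T' = T := by
    have h1 : IsPGroup t (T'.subgroupOf Y) := hT't.comap_subtype
    have h2 : (T₀ : Subgroup Y) ≤ T'.subgroupOf Y := by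
      intro y hy
      rw [Subgroup.mem_subgroupOf]
      exact hTT₁ ⟨y, hy, rfl⟩
    have h3 := T₀.is_maximal' h1 h2
    rw [hT, ← h3, Subgroup.map_subgroupOf_eq_of_le hT'Y]
  have hidxT : ¬ t ∣ T.relIndex H := by
    rw [← hT'T, hT', Cfsg.Agent.Lib.Helper24.relIndex_map_subtype_self]
    exact T₁.not_dvd_index
  have hTc : IsCyclic T := hT'T ▸ hT'c
  have hNT : H ⊓ Subgroup.normalizer (T : Set G) ≤ M := by
    refine le_trans inf_le_right (le_trans ?_ hNXM)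
    intro g hg
    exact Cfsg.Agent.Lib.Helper82.NilAbel.mem_normalizer_of_le_cyclic hTc hXT hg
  exact h138 M H hM hH (nc_map_of_smul (hs.nc hG)) p h.hp hpH1 P (le_inf h.hPM hPH) h.hP
    r Q hQr hQ1 (le_inf hQM (hQE.trans (hs.hEH hG))) hidxQ hrσ hNQ hPQ hQP
    t T hTt hT1 (le_inf (hTY.trans hYM) hTH) hidxT htσ hNT hT₀ hTP

end B1

/-- **(b1)**: the key configuration is impossible. -/
theorem b1_false (hG : IsMinSimpleOddOrder G) (h1428 : Stmt1428 G) (hσd : SigmaDisjoint G)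
    (h138 : H138 G) (M : Subgroup G) (hM : IsCoatom M) (E : Subgroup G)
    (hE : IsComplIn E (sigmaCore M) M) (p : ℕ) (hp : p ∈ tau1 M) (P : Subgroup G) (hPE : P ≤ E)
    (hP : Nat.card P = p) (r : ℕ) (hr : r ∈ tau3 M) (R : Subgroup G) (hRE : R ≤ E)
    (hR : Nat.card R = r) (hPR : ¬ P ≤ Subgroup.centralizer (R : Set G))
    (hY : sigmaCore M ⊓ Subgroup.centralizer (R : Set G) ≠ ⊥) : False := by
  have : Fact r.Prime := ⟨hr.1⟩
  have hR1 : R ≠ ⊥ := ne_bot_of_card_eq_prime hr.1 hR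
  have hRT : R ≠ ⊤ := ne_top_of_isPGroup hG.2.1 hG.2.2.1 (isPGroup_of_card_eq_prime hR)
  obtain ⟨H, hH, hNH⟩ := exists_isCoatom_ge (normalizer_ne_top_of_simple hG.2.1 hR1 hRT)
  have hs : Setup M E R H r := ⟨hM, hE, hr, hRE, hR, hH, hNH⟩
  have hb : B1 M E R H P r p := ⟨hs, hp, hPE, hP, hPR, hY⟩
  rcases hs.rH hG with hσ | hτ
  · exact hb.false_of_sigma hG h1428 hσd h138 hσ
  · have hYcard : Nat.card ↥(sigmaCore M ⊓ Subgroup.centralizer (R : Set G)) ≠ 1 :=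
      fun h0 => hY (Subgroup.card_eq_one.mp h0)
    obtain ⟨t, ht, htY⟩ := Nat.exists_prime_and_dvd hYcard
    exact hs.false_of_tau2 hG hσd hτ t ht htY (hb.Y_tau23 hG h1428 hσd t ht htY)

end Cfsg.Agent.Lib.Helper68.BG13D
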