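import Mathlib
import Cfsg.Prelude.Def_OddOrderLocal
import Cfsg.Agent.Lib.Helper68.BGThirteenD8

/-!
# Bender–Glauberman §13: converse of S1428 for commuting `P ≤ E₁`, `R ≤ E₃`  (helper68)

`core137`: `P ≤ E` of order `p ∈ τ₁(M)`, `R ≤ E` of order `r ∈ τ₃(M)`, `[P, R] = 1`.  Then
`C_{M_σ}(R) ≤ C_{M_σ}(P)` (so the two are equal, by S1428).
-/

set_option autoImplicit false

namespace Cfsg.Agent.Lib.Helper68.BG13D

open Cfsg
open scoped commutatorElement Pointwise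
open Cfsg.Agent.Lib.Helper34 (UniquenessThm)
open Cfsg.Agent.Lib.Helper54
open Cfsg.Agent.Lib.Helper97.BGThirteenSix (Stmt1428)

variable {G : Type*} [Group G] [Finite G]

omit [Finite G] in
theorem le_centralizer_symm {A B : Subgroup G} (h : A ≤ Subgroup.centralizer (B : Set G)) :
    B ≤ Subgroup.centralizer (A : Set G) := by
  intro b hb
  rw [Subgroup.mem_centralizer_iff]
  intro a ha
  exact (Subgroup.mem_centralizer_iff.mp (h ha) b hb).symm

/-- **13.7-core.** -/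
theorem core137 (hG : IsMinSimpleOddOrder G) (h1428 : Stmt1428 G) (hσd : SigmaDisjoint G)
    (h138 : H138 G) (M : Subgroup G) (hM : IsCoatom M) (E : Subgroup G)
    (hE : IsComplIn E (sigmaCore M) M) (p : ℕ) (hp : p ∈ tau1 M) (P : Subgroup G) (hPE : P ≤ E)
    (hP : Nat.card P = p) (r : ℕ) (hr : r ∈ tau3 M) (R : Subgroup G) (hRE : R ≤ E)
    (hR : Nat.card R = r) (hPR : P ≤ Subgroup.centralizer (R : Set G)) :
    sigmaCore M ⊓ Subgroup.centralizer (R : Set G) ≤ Subgroup.centralizer (P : Set G) := by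
  by_contra hne
  have hU := uT hG
  have hrp : r.Prime := hr.1
  have hpp : p.Prime := hp.1
  have : Fact r.Prime := ⟨hrp⟩
  have : Fact p.Prime := ⟨hpp⟩
  have hσM : sigmaCore M ≤ M := piCoreOf_le _ _
  have hR1 : R ≠ ⊥ := ne_bot_of_card_eq_prime hrp hR
  have hRT : R ≠ ⊤ := ne_top_of_isPGroup hG.2.1 hG.2.2.1 (isPGroup_of_card_eq_prime hR)
  obtain ⟨H, hH, hNH⟩ := exists_isCoatom_ge (normalizer_ne_top_of_simple hG.2.1 hR1 hRT)
  have hs : Setup M E R H r := ⟨hM, hE, hr, hRE, hR, hH, hNH⟩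
  set Y := sigmaCore M ⊓ Subgroup.centralizer (R : Set G) with hY
  have hYM : Y ≤ M := inf_le_left.trans hσM
  have hYH : Y ≤ H := hs.hYH
  have hPM : P ≤ M := hPE.trans hE.1
  have hPH : P ≤ H := hPE.trans (hs.hEH hG)
  have hPY : P ≤ Subgroup.normalizer (Y : Set G) := by
    apply le_normalizer_inf (hPM.trans (le_normalizer_sigmaCore M))
    exact (hPR.trans (Subgroup.centralizer_le_normalizer _)).trans
      (normalizer_le_normalizer_cent R)
  have hcop : (Nat.card P).Coprime (Nat.card Y) :=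
    Nat.Coprime.coprime_dvd_left (Subgroup.card_dvd_of_le hPE)
      (Nat.Coprime.coprime_dvd_right (Subgroup.card_dvd_of_le inf_le_left)
        (coprime_compl hG M hM hE))
  have hPs : Group.IsSolvable P := isSolvable_of_le hPM (hG.2.2.2 M hM.1)
  have hPp : IsPGroup p P := isPGroup_of_card_eq_prime hP
  -- `p ∉ σ(H)`
  have hpH : p ∉ sigma H := by
    intro hpH
    have key := Cfsg.Agent.Lib.Helper97.BGThirteen.comm_of_mem_sigma hG hU M H hM hH p
      hp.2.1 hpH Y P inf_le_left hPp hPY hYH hPH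
    apply hne
    intro c hc
    apply Subgroup.mem_centralizer_iff.mpr
    intro s hs'
    exact key c hc s hs'
  obtain ⟨q, hqF, Q₀, hQ₀P, hQ₀ne⟩ := exists_invariant_sylow_not_le hPY hcop (Or.inl hPs) hne
  have hq : q.Prime := hqF.out
  set T := (Q₀ : Subgroup Y).map Y.subtype with hT
  have hTY : T ≤ Y := Subgroup.map_subtype_le _
  have hTq : IsPGroup q T := Q₀.isPGroup'.map _
  have hTH : T ≤ H := hTY.trans hYH
  have hT1 : T ≠ ⊥ := by
    intro h0
    apply hQ₀ne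
    rw [h0]
    exact bot_le
  have hqT : q ∣ Nat.card T := Cfsg.Agent.Lib.Helper34.dvd_card_of_isPGroup_ne_bot hTq hT1
  have hqY : q ∣ Nat.card Y := hqT.trans (Subgroup.card_dvd_of_le hTY)
  obtain ⟨hqσ, hqH⟩ := hs.Y_primes hG hσd q hq hqY
  have hq2 : q ≠ 2 := Cfsg.Agent.Lib.Helper96.BG142.ne_two_of_dvd_card hG hqσ.2.1
  -- `q ∣ |H'|`
  have hqH' : q ∣ Nat.card ↥⁅H, H⁆ := by
    have hc1 : ⁅T, P⁆ ≠ ⊥ := fun h0 =>
      hQ₀ne (Subgroup.commutator_eq_bot_iff_le_centralizer.mp h0)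
    have hc2 : ⁅T, P⁆ ≤ T := Subgroup.le_normalizer_iff_commutator_le_left.mp hQ₀P
    have hc3 : IsPGroup q (⁅T, P⁆ : Subgroup G) := hTq.to_le hc2
    exact (Cfsg.Agent.Lib.Helper34.dvd_card_of_isPGroup_ne_bot hc3 hc1).trans
      (Subgroup.card_dvd_of_le (Subgroup.commutator_mono hTH hPH))
  have hq23 : q ∈ tau2 H ∨ q ∈ tau3 H := by
    rcases tau_tri hG H hH hq (hqY.trans (Subgroup.card_dvd_of_le hYH)) hqH with h1 | h2 | h3
    · exact absurd hqH' h1.2.2.2.1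
    · exact Or.inl h2
    · exact Or.inr h3
  rcases hs.rH hG with hrσ | hrτ
  swap
  · exact hs.false_of_tau2 hG hσd hrτ q hq hqY hq23
  -- case `r ∈ σ(H)`
  have hq3 : q ∈ tau3 H := hq23.resolve_left (hs.not_tau2_of_sigma hG hrσ q hq hqY)
  -- a complement `E_H ≥ Y P`
  have hDH : Y ⊔ P ≤ H := sup_le hYH hPH
  have hDpi : ∀ s : ℕ, s.Prime → s ∣ Nat.card (Y ⊔ P : Subgroup G) → s ∉ sigma H := by
    intro s hs' hsd
    have h1 := hsd.trans (Cfsg.Agent.Lib.Helper22.card_sup_dvd_mul_of_le_normalizer hPY)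
    rcases (Nat.Prime.dvd_mul hs').mp h1 with h2 | h2
    · exact (hs.Y_primes hG hσd s hs' h2).2
    · rw [hP] at h2
      rw [(Nat.prime_dvd_prime_iff_eq hs' hpp).mp h2]
      exact hpH
  obtain ⟨EH, hEH, hDEH⟩ := Cfsg.Agent.Lib.Helper97.BGTwelve.exists_complIn_ge (hG.2.2.2 H hH.1)
    (sigmaCore_hall_of hG hU H hH).1 hDH hDpi
  have hYEH : Y ≤ EH := le_sup_left.trans hDEH
  have hPEH : P ≤ EH := le_sup_right.trans hDEH
  have hTc : IsCyclic T :=
    Cfsg.Agent.Lib.Helper97.BGTwelve.isCyclic_of_pRankLE_one hq2 T hTq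
      (pRankLE_of_le hTH hq3.2.2.2)
  obtain ⟨x, hxT, hxo⟩ := Cfsg.Agent.Lib.Helper47.bgs_exists_orderOf_eq T hTq hT1
  set X := Subgroup.zpowers x with hX
  have hXc : Nat.card X = q := by rw [Nat.card_zpowers, hxo]
  have hXT : X ≤ T := Subgroup.zpowers_le.mpr hxT
  have hXY : X ≤ Y := hXT.trans hTY
  have hXEH : X ≤ EH := hXY.trans hYEH
  have hpq : p ≠ q := by
    rintro rfl
    exact hp.2.1 hqσ
  have hXP : ¬ X ≤ Subgroup.centralizer (P : Set G) := by
    intro h0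
    apply hQ₀ne
    apply le_centralizer_of_cyclic_of_prime_le hq2 hTc hTq hXT hXc hQ₀P _ h0
    rw [hP]
    exact (Nat.coprime_primes hpp hq).mpr hpq
  have hRσ : R ≤ sigmaCore H :=
    le_sigmaCore_of_isPGroup hG H hH hrσ hs.hRH (isPGroup_of_card_eq_prime hR)
  have hY' : sigmaCore H ⊓ Subgroup.centralizer (X : Set G) ≠ ⊥ := by
    intro h0
    apply hR1
    rw [eq_bot_iff, ← h0]
    refine le_inf hRσ ?_
    intro a ha
    rw [Subgroup.mem_centralizer_iff]
    intro y hy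
    exact (Subgroup.mem_centralizer_iff.mp (hXY hy).2 a ha).symm
  have hτ₂H : ∀ s : ℕ, s ∉ tau2 H := by
    have hX1 : X ≠ ⊥ := ne_bot_of_card_eq_prime hq hXc
    have hXTop : X ≠ ⊤ := ne_top_of_isPGroup hG.2.1 hG.2.2.1 (isPGroup_of_card_eq_prime hXc)
    obtain ⟨L, hL, hNL⟩ := exists_isCoatom_ge (normalizer_ne_top_of_simple hG.2.1 hX1 hXTop)
    have hs' : Setup H EH X L q := ⟨hH, hEH, hq3, hXEH, hXc, hL, hNL⟩
    exact hs'.tau2_empty hG hY'
  have hEHs : Group.IsSolvable EH := isSolvable_of_le hEH.1 (hG.2.2.2 H hH.1)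
  have hpH1 : p ∈ tau1 H := by
    have hpdH : p ∣ Nat.card H := hP ▸ Subgroup.card_dvd_of_le hPH
    rcases tau_tri hG H hH hpp hpdH hpH with h1 | h2 | h3
    · exact h1
    · exact absurd h2 (hτ₂H p)
    · exfalso
      obtain ⟨E₃H, hE₃H⟩ := Cfsg.Agent.Lib.Helper62.exists_isPiHallOf (tau3 H) EH hEHs
      obtain ⟨hE₃Hc, -, hE₃Hn⟩ := (Cfsg.Agent.S1415.result hG H hH EH hEH).2.2 E₃H hE₃H
      have hTE₃ : T ≤ E₃H := by
        apply Cfsg.Agent.Lib.Helper96.BG142.le_hall_of_normal hE₃H hE₃Hn (hTY.trans hYEH)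
        intro s hs' hsd
        obtain ⟨k, hk⟩ := IsPGroup.iff_card.mp hTq
        rw [hk] at hsd
        rw [(Nat.prime_dvd_prime_iff_eq hs' hq).mp (hs'.dvd_of_dvd_pow hsd)]
        exact hq3
      have hPE₃ : P ≤ E₃H := by
        apply Cfsg.Agent.Lib.Helper96.BG142.le_hall_of_normal hE₃H hE₃Hn hPEH
        intro s hs' hsd
        rw [hP] at hsd
        rw [(Nat.prime_dvd_prime_iff_eq hs' hpp).mp hsd]
        exact h3
      apply hQ₀ne
      intro y hy
      rw [Subgroup.mem_centralizer_iff]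
      intro a ha
      exact Cfsg.Agent.Lib.Helper96.BG142.comm_of_isCyclic hE₃Hc a (hPE₃ ha) y (hTE₃ hy)
  exact b1_false hG h1428 hσd h138 H hH EH hEH p hpH1 P hPEH hP q hq3 X hXEH hXc
    (fun h0 => hXP (le_centralizer_symm h0)) hY'

end Cfsg.Agent.Lib.Helper68.BG13D
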