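import Mathlib
import Cfsg.Prelude.Def_OddOrderLocal
import Cfsg.Agent.Lib.Helper68.BGThirteenD9
import Cfsg.Agent.Lib.Helper96.BGFourteenTwoHyp
import Cfsg.Agent.S1427

/-!
# Bender–Glauberman Lemma 13.10(b) and Corollary 13.11  (helper68)

`h1310b_of : H1310b G` and `h1311_of : H1311 G` (the hypotheses of helper96's Proposition 14.2
library) from 13.9 (`SigmaDisjoint`), the literal S1428 (`Stmt1428`) and the general asymmetry lemma
13.8 (`H138`).
-/

set_option autoImplicit false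

namespace Cfsg.Agent.Lib.Helper68.BG13D

open Cfsg
open scoped commutatorElement Pointwise
open Cfsg.Agent.Lib.Helper34 (UniquenessThm)
open Cfsg.Agent.Lib.Helper54
open Cfsg.Agent.Lib.Helper97.BGThirteenSix (Stmt1428)
open Cfsg.Agent.Lib.Helper96.BG142 (H1310b H1311)

variable {G : Type*} [Group G] [Finite G]

omit [Finite G] in
theorem centralizer_zpowers_eq (a : G) :
    Subgroup.centralizer ((Subgroup.zpowers a : Subgroup G) : Set G) =
      Subgroup.centralizer ({a} : Set G) := by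
  apply le_antisymm
  · apply Subgroup.centralizer_le
    intro y hy
    rw [Set.mem_singleton_iff] at hy
    rw [hy]
    exact Subgroup.mem_zpowers a
  · intro g hg
    rw [Subgroup.mem_centralizer_iff]
    intro y hy
    obtain ⟨k, rfl⟩ := Subgroup.mem_zpowers_iff.mp hy
    have hc : Commute a g := Subgroup.mem_centralizer_iff.mp hg a rfl
    exact (hc.zpow_left k).eq

/-- from a non-regular element of `E₃` to a non-regular subgroup of prime order -/
theorem exists_prime_sub_of_nonreg {M E₃ : Subgroup G} {x : G} (hx : x ∈ E₃) (hx1 : x ≠ 1)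
    (hne : sigmaCore M ⊓ Subgroup.centralizer ({x} : Set G) ≠ ⊥) :
    ∃ (r : ℕ) (R : Subgroup G), r.Prime ∧ R ≤ E₃ ∧ Nat.card R = r ∧
      sigmaCore M ⊓ Subgroup.centralizer (R : Set G) ≠ ⊥ := by
  obtain ⟨r, y, hr, hyo, hyx⟩ :=
    Cfsg.Agent.Lib.Helper96.BG142.exists_prime_orderOf_mem_zpowers hx1
  refine ⟨r, Subgroup.zpowers y, hr, ?_, ?_, ?_⟩
  · exact Subgroup.zpowers_le.mpr ((Subgroup.zpowers_le.mpr hx) hyx)
  · rw [Nat.card_zpowers, hyo]
  · intro h0
    apply hne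
    rw [eq_bot_iff, ← h0]
    refine inf_le_inf_left _ ?_
    rw [← centralizer_zpowers_eq x]
    exact Subgroup.centralizer_le (Subgroup.zpowers_le.mpr hyx)

/-- if `P` centralizes every subgroup of prime order of the cyclic group `E₃` of odd order prime to
`|P|`, then `P` centralizes `E₃` -/
theorem exists_prime_sub_not_le {E₃ P : Subgroup G} (hE₃c : IsCyclic E₃)
    (hPN : P ≤ Subgroup.normalizer (E₃ : Set G))
    (hcop : (Nat.card P).Coprime (Nat.card E₃))
    (hodd : ∀ q : ℕ, q.Prime → q ∣ Nat.card E₃ → q ≠ 2)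
    (hne : ¬ P ≤ Subgroup.centralizer (E₃ : Set G)) :
    ∃ (r : ℕ) (R : Subgroup G), r.Prime ∧ R ≤ E₃ ∧ Nat.card R = r ∧
      ¬ R ≤ Subgroup.centralizer (P : Set G) := by
  by_contra hcon
  push Not at hcon
  apply hne
  apply le_centralizer_symm
  have key : E₃ ⊓ Subgroup.centralizer (P : Set G) = E₃ := by
    apply eq_of_forall_sylow_le inf_le_left
    intro q hq
    obtain ⟨Q⟩ : Nonempty (Sylow q ↥E₃) := inferInstance
    refine ⟨Q, le_inf (Subgroup.map_subtype_le _) ?_⟩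
    set T := (Q : Subgroup E₃).map E₃.subtype with hT
    have hTE : T ≤ E₃ := Subgroup.map_subtype_le _
    have hTq : IsPGroup q T := Q.isPGroup'.map _
    by_cases hT1 : T = ⊥
    · rw [hT1]; exact bot_le
    have hqT := Cfsg.Agent.Lib.Helper34.dvd_card_of_isPGroup_ne_bot hTq hT1
    have hqE : q ∣ Nat.card E₃ := hqT.trans (Subgroup.card_dvd_of_le hTE)
    obtain ⟨y, hyT, hyo⟩ := Cfsg.Agent.Lib.Helper47.bgs_exists_orderOf_eq T hTq hT1
    have hXc : Nat.card (Subgroup.zpowers y) = q := by rw [Nat.card_zpowers, hyo]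
    have hXT : Subgroup.zpowers y ≤ T := Subgroup.zpowers_le.mpr hyT
    have hXP := hcon q (Subgroup.zpowers y) hq.out (hXT.trans hTE) hXc
    have hTc : IsCyclic T := Cfsg.Agent.Lib.Helper97.ShultCyclic.isCyclic_of_le' hTE hE₃c
    have hPT : P ≤ Subgroup.normalizer (T : Set G) := fun a ha =>
      Cfsg.Agent.Lib.Helper82.NilAbel.mem_normalizer_of_le_cyclic hE₃c hTE (hPN ha)
    exact le_centralizer_of_cyclic_of_prime_le (hodd q hq.out hqE) hTc hTq hXT hXc hPT
      (Nat.Coprime.coprime_dvd_right hqE hcop) hXP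
  rw [← key]
  exact inf_le_right

/-- **BG Lemma 13.10(b).** -/
theorem h1310b_of (hG : IsMinSimpleOddOrder G) (h1428 : Stmt1428 G) (hσd : SigmaDisjoint G)
    (h138 : H138 G) : H1310b G := by
  intro M hM E hE p hp P hPE hP E₃ hE₃ hPE₃ x hx hx1
  by_contra hne
  have hpp : p.Prime := hp.1
  obtain ⟨r, R, hr, hRE₃, hRc, hYR⟩ := exists_prime_sub_of_nonreg hx hx1 hne
  have hrτ : r ∈ tau3 M := hE₃.2.1 r hr (hRc ▸ Subgroup.card_dvd_of_le hRE₃)
  have hRE : R ≤ E := hRE₃.trans hE₃.1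
  obtain ⟨hE₃c, -, hE₃n⟩ := (Cfsg.Agent.S1415.result hG M hM E hE).2.2 E₃ hE₃
  by_cases hPR : P ≤ Subgroup.centralizer (R : Set G)
  swap
  · exact b1_false hG h1428 hσd h138 M hM E hE p hp P hPE hP r hrτ R hRE hRc hPR hYR
  have hYP := core137 hG h1428 hσd h138 M hM E hE p hp P hPE hP r hrτ R hRE hRc hPR
  -- a subgroup `R₁ ≤ E₃` of prime order not centralized by `P`
  have hcop : (Nat.card P).Coprime (Nat.card E₃) := by
    rw [hP, Nat.Prime.coprime_iff_not_dvd hpp]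
    intro hd
    exact Cfsg.Agent.Lib.Helper96.BG142.not_mem_tau3_of_mem_tau1 hp (hE₃.2.1 p hpp hd)
  have hodd : ∀ q : ℕ, q.Prime → q ∣ Nat.card E₃ → q ≠ 2 := fun q _ hqd =>
    Cfsg.Agent.Lib.Helper96.BG142.ne_two_of_dvd_card hG hqd
  obtain ⟨r₁, R₁, hr₁, hR₁E₃, hR₁c, hR₁P⟩ :=
    exists_prime_sub_not_le hE₃c (hPE.trans hE₃n) hcop hodd hPE₃
  have hr₁τ : r₁ ∈ tau3 M := hE₃.2.1 r₁ hr₁ (hR₁c ▸ Subgroup.card_dvd_of_le hR₁E₃)
  have hR₁E : R₁ ≤ E := hR₁E₃.trans hE₃.1
  have hPR₁ : ¬ P ≤ Subgroup.centralizer (R₁ : Set G) := fun h0 => hR₁P (le_centralizer_symm h0)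
  have hY₁ : sigmaCore M ⊓ Subgroup.centralizer (R₁ : Set G) = ⊥ := by
    by_contra h0
    exact b1_false hG h1428 hσd h138 M hM E hE p hp P hPE hP r₁ hr₁τ R₁ hR₁E hR₁c hPR₁ h0
  -- `R₁` normalizes `Y₀ = C_{M_σ}(R)`, which `P` centralizes
  set Y₀ := sigmaCore M ⊓ Subgroup.centralizer (R : Set G) with hY₀
  have hR₁R : R₁ ≤ Subgroup.centralizer (R : Set G) := by
    intro a ha
    rw [Subgroup.mem_centralizer_iff]
    intro y hy
    exact Cfsg.Agent.Lib.Helper96.BG142.comm_of_isCyclic hE₃c y (hRE₃ hy) a (hR₁E₃ ha)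
  have hR₁Y : R₁ ≤ Subgroup.normalizer (Y₀ : Set G) := by
    apply le_normalizer_inf ((hR₁E.trans hE.1).trans (le_normalizer_sigmaCore M))
    exact (hR₁R.trans (Subgroup.centralizer_le_normalizer _)).trans
      (normalizer_le_normalizer_cent R)
  have hPN₁ : P ≤ Subgroup.normalizer (R₁ : Set G) :=
    hPE.trans (tau3_normal hG M hM E hE r₁ hr₁τ R₁ hR₁E hR₁c).1
  have hgen : R₁ ≤ ⁅R₁, P⁆ := (prime_order_frob hr₁ hR₁c hPN₁ hPR₁).1
  have hPC : P ≤ Subgroup.centralizer (Y₀ : Set G) := le_centralizer_symm hYP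
  have hcomm : ⁅R₁, P⁆ ≤ Subgroup.centralizer (Y₀ : Set G) := by
    rw [Subgroup.commutator_le]
    intro a ha b hb
    have hN := normalizer_le_normalizer_cent Y₀ (hR₁Y ha)
    have h1 : a * b * a⁻¹ ∈ Subgroup.centralizer (Y₀ : Set G) :=
      (Subgroup.mem_normalizer_iff.mp hN b).mp (hPC hb)
    rw [commutatorElement_def]
    exact Subgroup.mul_mem _ h1 (Subgroup.inv_mem _ (hPC hb))
  have hYR₁ : Y₀ ≤ Subgroup.centralizer (R₁ : Set G) := le_centralizer_symm (hgen.trans hcomm)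
  apply hYR
  rw [eq_bot_iff, ← hY₁]
  exact le_inf inf_le_left hYR₁

/-- **BG Corollary 13.11.** -/
theorem h1311_of (hG : IsMinSimpleOddOrder G) (h1428 : Stmt1428 G) (hσd : SigmaDisjoint G)
    (h138 : H138 G) : H1311 G := by
  intro M hM E hE E₃ hE₃ hnr
  obtain ⟨x, hx, hx1, hne⟩ := hnr
  have hU := uT hG
  have h10 := h1310b_of hG h1428 hσd h138
  obtain ⟨r, R, hr, hRE₃, hRc, hYR⟩ := exists_prime_sub_of_nonreg hx hx1 hne
  have : Fact r.Prime := ⟨hr⟩
  have hrτ : r ∈ tau3 M := hE₃.2.1 r hr (hRc ▸ Subgroup.card_dvd_of_le hRE₃)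
  have hRE : R ≤ E := hRE₃.trans hE₃.1
  obtain ⟨hE₃c, hE₃E', hE₃n⟩ := (Cfsg.Agent.S1415.result hG M hM E hE).2.2 E₃ hE₃
  have hR1 : R ≠ ⊥ := ne_bot_of_card_eq_prime hr hRc
  have hRT : R ≠ ⊤ := ne_top_of_isPGroup hG.2.1 hG.2.2.1 (isPGroup_of_card_eq_prime hRc)
  obtain ⟨H, hH, hNH⟩ := exists_isCoatom_ge (normalizer_ne_top_of_simple hG.2.1 hR1 hRT)
  have hs : Setup M E R H r := ⟨hM, hE, hrτ, hRE, hRc, hH, hNH⟩
  have hτ₂ := hs.tau2_empty hG hYR
  have h13 : ∀ q : ℕ, q.Prime → q ∣ Nat.card E → q ∈ tau1 M ∨ q ∈ tau3 M := by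
    intro q hq hqE
    rcases Cfsg.Agent.Lib.Helper96.BG142.tau_trichotomy hG hU M hM hE hq hqE with h1 | h2 | h3
    · exact Or.inl h1
    · exact absurd h2 (hτ₂ q)
    · exact Or.inr h3
  -- (1) `E₁ ≠ 1`
  have h1 : ∃ p ∈ tau1 M, p ∣ Nat.card E := by
    by_contra hcon
    push Not at hcon
    have hEH : IsPiHallOf (tau3 M) E E := by
      refine ⟨le_rfl, ?_, ?_⟩
      · intro q hq hqE
        rcases h13 q hq hqE with h1 | h3
        · exact absurd hqE (hcon q h1)
        · exact h3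
      · intro q hq _ hqd
        rw [Subgroup.relIndex_self] at hqd
        exact hq.one_lt.ne' (Nat.dvd_one.mp hqd)
    obtain ⟨hEc, hEE', -⟩ := (Cfsg.Agent.S1415.result hG M hM E hE).2.2 E hEH
    have hbot : ⁅E, E⁆ = ⊥ := by
      rw [Subgroup.commutator_eq_bot_iff_le_centralizer]
      intro a ha
      rw [Subgroup.mem_centralizer_iff]
      intro b hb
      exact Cfsg.Agent.Lib.Helper96.BG142.comm_of_isCyclic hEc b hb a ha
    rw [hbot] at hEE'
    have : x ∈ (⊥ : Subgroup G) := hEE' (hE₃.1 hx)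
    exact hx1 (Subgroup.mem_bot.mp this)
  refine ⟨h1, fun q hq _ => hτ₂ q hq, ?_⟩
  obtain ⟨p₀, hp₀, hp₀E⟩ := h1
  have : Fact p₀.Prime := ⟨hp₀.1⟩
  obtain ⟨z₀, hz₀⟩ := exists_prime_orderOf_dvd_card' p₀ hp₀E
  set P₀ := Subgroup.zpowers (z₀ : G) with hP₀
  have hP₀c : Nat.card P₀ = p₀ := by rw [Nat.card_zpowers, Subgroup.orderOf_coe, hz₀]
  have hP₀E : P₀ ≤ E := Subgroup.zpowers_le.mpr z₀.2
  -- (i) subgroups of order in `τ₁` centralize `E₃`
  have hi : ∀ (p : ℕ), p ∈ tau1 M → ∀ P : Subgroup G, P ≤ E → Nat.card P = p →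
      P ≤ Subgroup.centralizer (E₃ : Set G) := by
    intro p hp P hPE hP
    by_contra h0
    exact hne (h10 M hM E hE p hp P hPE hP E₃ hE₃ h0 x hx hx1)
  set Y₀ := sigmaCore M ⊓ Subgroup.centralizer (R : Set G) with hY₀
  -- (ii) for `P` of order in `τ₁` and `X ≤ E₃` of prime order: `C_{M_σ}(P) = C_{M_σ}(X)`
  have hii : ∀ (p : ℕ), p ∈ tau1 M → ∀ P : Subgroup G, P ≤ E → Nat.card P = p →
      ∀ (s : ℕ), s.Prime → ∀ X : Subgroup G, X ≤ E₃ → Nat.card X = s →
      sigmaCore M ⊓ Subgroup.centralizer (P : Set G) =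
        sigmaCore M ⊓ Subgroup.centralizer (X : Set G) := by
    intro p hp P hPE hP s hs' X hXE₃ hXc
    have hsτ : s ∈ tau3 M := hE₃.2.1 s hs' (hXc ▸ Subgroup.card_dvd_of_le hXE₃)
    have hPX : P ≤ Subgroup.centralizer (X : Set G) :=
      (hi p hp P hPE hP).trans (Subgroup.centralizer_le hXE₃)
    apply le_antisymm
    · exact h1428 M hM E hE p hp P hPE hP X
        (le_inf (hXE₃.trans hE₃.1) (le_centralizer_symm hPX)) (hXc ▸ hs')
    · exact le_inf inf_le_left
        (core137 hG h1428 hσd h138 M hM E hE p hp P hPE hP s hsτ X (hXE₃.trans hE₃.1) hXc hPX)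
  have hP₀Y : sigmaCore M ⊓ Subgroup.centralizer (P₀ : Set G) = Y₀ :=
    hii p₀ hp₀ P₀ hP₀E hP₀c r hr R hRE₃ hRc
  -- (ii') every subgroup of prime order of `E` has centralizer `Y₀` in `M_σ`
  have hii' : ∀ (s : ℕ), s.Prime → ∀ X : Subgroup G, X ≤ E → Nat.card X = s →
      sigmaCore M ⊓ Subgroup.centralizer (X : Set G) = Y₀ := by
    intro s hs' X hXE hXc
    rcases h13 s hs' (hXc ▸ Subgroup.card_dvd_of_le hXE) with hs1 | hs3
    · exact hii s hs1 X hXE hXc r hr R hRE₃ hRc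
    · have hXE₃ : X ≤ E₃ := by
        apply Cfsg.Agent.Lib.Helper96.BG142.le_hall_of_normal hE₃ hE₃n hXE
        intro q hq hqd
        rw [hXc] at hqd
        rw [(Nat.prime_dvd_prime_iff_eq hq hs').mp hqd]
        exact hs3
      rw [← hii p₀ hp₀ P₀ hP₀E hP₀c s hs' X hXE₃ hXc, hP₀Y]
  -- (iii) `Y₀ ≤ C(E)`
  have hiii : Y₀ ≤ Subgroup.centralizer (E : Set G) := by
    intro c hc
    rw [Subgroup.mem_centralizer_iff]
    apply Cfsg.Agent.Lib.Helper96.BG142.commute_of_forall_prime_pow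
    rintro e he he1 ⟨q, j, hq, hej⟩
    have : Fact q.Prime := ⟨hq⟩
    have heq : IsPGroup q (Subgroup.zpowers e) := by
      apply IsPGroup.of_card (n := j)
      rw [Nat.card_zpowers, hej]
    obtain ⟨S, heS⟩ := exists_sylow_map_ge (Subgroup.zpowers_le.mpr he) heq
    set S' := (S : Subgroup E).map E.subtype with hS'
    have heS' : e ∈ S' := heS (Subgroup.mem_zpowers e)
    have hS'E : S' ≤ E := Subgroup.map_subtype_le _
    have hS'q : IsPGroup q S' := S.isPGroup'.map _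
    have hS1 : (S : Subgroup E) ≠ ⊥ := by
      intro h0
      have : S' = ⊥ := by rw [hS', h0, Subgroup.map_bot]
      rw [this, Subgroup.mem_bot] at heS'
      exact he1 heS'
    have hqE : q ∣ Nat.card E := by
      have h2 := Cfsg.Agent.Lib.Helper34.dvd_card_of_isPGroup_ne_bot S.isPGroup' hS1
      exact h2.trans (Subgroup.card_subgroup_dvd_card _)
    have hq2 : q ≠ 2 := Cfsg.Agent.Lib.Helper96.BG142.ne_two_of_dvd_card hG hqE
    have hrk : PRankLE q 1 M := by
      rcases h13 q hq hqE with h1 | h3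
      · exact h1.2.2.2.2
      · exact h3.2.2.2
    have hS'c : IsCyclic S' :=
      Cfsg.Agent.Lib.Helper97.BGTwelve.isCyclic_of_pRankLE_one hq2 S' hS'q
        (pRankLE_of_le (hS'E.trans hE.1) hrk)
    have hSc : IsCyclic (S : Subgroup E) := by
      have e1 : (S : Subgroup E) ≃* S' :=
        (S : Subgroup E).equivMapOfInjective E.subtype E.subtype_injective
      exact isCyclic_of_surjective e1.symm e1.symm.surjective
    have h27 := Cfsg.Agent.S1427.result hG M hM E hE q S hS1 hSc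
    -- an element of order `q` of `⟨e⟩`
    obtain ⟨s, y, hs', hyo, hye⟩ :=
      Cfsg.Agent.Lib.Helper96.BG142.exists_prime_orderOf_mem_zpowers he1
    have hyS' : y ∈ S' := heS hye
    have hy1 : y ≠ 1 := by
      intro h0
      rw [h0, orderOf_one] at hyo
      exact hs'.one_lt.ne hyo
    have h3 := h27 y hyS' hy1
    have h4 : sigmaCore M ⊓ Subgroup.centralizer ({y} : Set G) = Y₀ := by
      rw [← centralizer_zpowers_eq y]
      exact hii' s hs' (Subgroup.zpowers y) (Subgroup.zpowers_le.mpr (hS'E hyS'))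
        (by rw [Nat.card_zpowers, hyo])
    rw [h4] at h3
    have hc' : c ∈ Subgroup.centralizer (S' : Set G) := by
      have : c ∈ sigmaCore M ⊓ Subgroup.centralizer (S' : Set G) := h3 ▸ hc
      exact this.2
    exact Subgroup.mem_centralizer_iff.mp hc' e heS'
  intro e he he1
  apply le_antisymm
  · obtain ⟨s, y, hs', hyo, hye⟩ :=
      Cfsg.Agent.Lib.Helper96.BG142.exists_prime_orderOf_mem_zpowers he1
    have h4 : sigmaCore M ⊓ Subgroup.centralizer ({y} : Set G) = Y₀ := by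
      rw [← centralizer_zpowers_eq y]
      exact hii' s hs' (Subgroup.zpowers y)
        (Subgroup.zpowers_le.mpr ((Subgroup.zpowers_le.mpr he) hye))
        (by rw [Nat.card_zpowers, hyo])
    have h5 : sigmaCore M ⊓ Subgroup.centralizer ({e} : Set G) ≤
        sigmaCore M ⊓ Subgroup.centralizer ({y} : Set G) := by
      refine inf_le_inf_left _ ?_
      rw [← centralizer_zpowers_eq e, ← centralizer_zpowers_eq y]
      exact Subgroup.centralizer_le (Subgroup.zpowers_le.mpr hye)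
    rw [h4] at h5
    exact le_inf (h5.trans inf_le_left) (h5.trans hiii)
  · exact inf_le_inf_left _ (Subgroup.centralizer_le (Set.singleton_subset_iff.mpr he))

end Cfsg.Agent.Lib.Helper68.BG13D
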