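import Mathlib
import Cfsg.Prelude.Def_OddOrderLocal
import Cfsg.Agent.Lib.Helper68.BGThirteenD10
import Cfsg.Agent.Lib.Helper51.BGAsymFinal
import Cfsg.Agent.S1378
import Cfsg.Agent.S1428

/-!
# Bender–Glauberman Lemma 13.10(b) and Corollary 13.11, unconditional  (helper68)

`h1310b hG : H1310b G` and `h1311 hG : H1311 G`, the two Section 13 inputs of helper96's
Proposition 14.2 library, from the landed rows S1428 (13.4), S1378 (13.9) and helper51's asymmetry
lemma 13.8.
-/

set_option autoImplicit false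

namespace Cfsg.Agent.Lib.Helper68.BG13D

open Cfsg
open Cfsg.Agent.Lib.Helper54 (SigmaDisjoint)
open Cfsg.Agent.Lib.Helper97.BGThirteenSix (Stmt1428)
open Cfsg.Agent.Lib.Helper96.BG142 (H1310b H1311)

variable {G : Type*} [Group G] [Finite G]

theorem stmt1428_result (hG : IsMinSimpleOddOrder G) : Stmt1428 G :=
  fun M hM E hE p hp P hPE hP R hRE hR =>
    Cfsg.Agent.S1428.result hG M hM E hE p hp P hPE hP R hRE hR

/-- BG Theorem 13.9 in the form `SigmaDisjoint`, from the landed row S1378 -/
theorem sigmaDisjoint_result (hG : IsMinSimpleOddOrder G) : SigmaDisjoint G := by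
  intro M L hM hL hnc p hpM hpL
  obtain ⟨g, hg⟩ := (Cfsg.Agent.S1378.result hG).2 M L hM hL ⟨p, hpM, hpL⟩
  apply hnc g⁻¹
  rw [hg, Subgroup.map_map]
  have : (MulAut.conj g⁻¹).toMonoidHom.comp (MulAut.conj g).toMonoidHom = MonoidHom.id G := by
    ext x
    simp [MulAut.conj_apply]
    group
  rw [this, Subgroup.map_id]

theorem h138_result (hG : IsMinSimpleOddOrder G) : H138 G :=
  Cfsg.Agent.Lib.Helper51.BGAsym.h138 hG

/-- **BG Lemma 13.10(b)**, unconditional. -/
theorem h1310b (hG : IsMinSimpleOddOrder G) : H1310b G :=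
  h1310b_of hG (stmt1428_result hG) (sigmaDisjoint_result hG) (h138_result hG)

/-- **BG Corollary 13.11**, unconditional. -/
theorem h1311 (hG : IsMinSimpleOddOrder G) : H1311 G :=
  h1311_of hG (stmt1428_result hG) (sigmaDisjoint_result hG) (h138_result hG)

end Cfsg.Agent.Lib.Helper68.BG13D
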