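/-
helper68: S1351 (every maximal subgroup `M` of a minimal simple group of odd order has a Hall
`κ(M)`-subgroup, and every Hall `κ(M)`-subgroup is cyclic), conditional on

* `Stmt1430 G` (B&G 14.2), `Stmt1429 G` (B&G 14.1),
* `NC G`: a maximal subgroup of type `𝒫₁` with Hall `κ`-subgroup `K ≠ 1` has a maximal subgroup
  `M*` with `K ≤ M*_σ` which is NOT of type `𝒫₁` (B&G 14.7(a),(f); helper21's clique count).
-/
import Mathlib
import Cfsg.Prelude.Def_OddOrderLocal
import Cfsg.Prelude.Def_OddOrder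
import Cfsg.Agent.Lib.Helper54.BGFourteenDefs
import Cfsg.Agent.Lib.Helper62.PiHall
import Cfsg.Agent.Lib.Helper21.BGFourteenSevenC

set_option autoImplicit false

namespace Cfsg.Agent.Lib.Helper68.KappaCyclic

open Cfsg Cfsg.Agent.Lib.Helper54 Cfsg.Agent.Lib.Helper21

universe u

variable {G : Type u} [Group G]

/-- `M` is of type `𝒫₁` (or `κ(M) = ∅ = π(M) \ σ(M)`): every prime divisor of `|M|` outside `σ(M)` is
in `κ(M)`. -/
def IsP1 (M : Subgroup G) : Prop :=
  ∀ q : ℕ, q.Prime → q ∣ Nat.card M → q ∉ sigma M → q ∈ kappa M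

/-- B&G 14.7(a)+(f) in the form needed for the cyclicity of `K`: a `𝒫₁`-type maximal subgroup with
Hall `κ`-subgroup `K ≠ 1` has a partner-like maximal subgroup `M*` with `K ≤ M*_σ`, not of
type `𝒫₁`. -/
def NC (G : Type u) [Group G] : Prop :=
  ∀ (M K : Subgroup G), IsCoatom M → IsPiHallOf (kappa M) K M → K ≠ ⊥ → IsP1 M →
    ∃ Ms : Subgroup G, IsCoatom Ms ∧ K ≤ sigmaCore Ms ∧ ¬ IsP1 Ms

/-- A `κ(M)`-subgroup of `M` has cyclic Sylow subgroups. -/
theorem isZGroup_of_kappa [Finite G] {M K : Subgroup G} (hKM : K ≤ M)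
    (hκ : ∀ p : ℕ, p.Prime → p ∣ Nat.card K → p ∈ kappa M) : IsZGroup K := by
  refine ⟨fun p hp P => ?_⟩
  have : Fact p.Prime := ⟨hp⟩
  by_cases hpK : p ∣ Nat.card K
  · have hpκ := hκ p hp hpK
    -- image of `P` in `M`
    set P' : Subgroup M := (P : Subgroup K).map (Subgroup.inclusion hKM) with hP'
    have hP'p : IsPGroup p P' := P.2.map _
    obtain ⟨Q, hQ⟩ := hP'p.exists_le_sylow
    have hQc : IsCyclic (Q : Subgroup M) := (hpκ.2.2.2 Q).1
    let f : (P : Subgroup K) →* (Q : Subgroup M) :=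
      { toFun := fun x => ⟨Subgroup.inclusion hKM (x : K), hQ (Subgroup.mem_map_of_mem _ x.2)⟩
        map_one' := by
          apply Subtype.ext
          simp
        map_mul' := by
          intro a b
          apply Subtype.ext
          simp }
    have hinj : Function.Injective f := by
      intro a b hab
      have h1 : (Subgroup.inclusion hKM) (a : K) = (Subgroup.inclusion hKM) (b : K) :=
        congrArg Subtype.val hab
      exact Subtype.ext (Subgroup.inclusion_injective hKM h1)
    exact isCyclic_of_injective f hinj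
  · -- trivial Sylow subgroup
    have h1 : Nat.card (P : Subgroup K) = 1 := by
      have hdvd : Nat.card (P : Subgroup K) ∣ Nat.card K := Subgroup.card_subgroup_dvd_card _
      obtain ⟨n, hn⟩ := P.2.exists_card_eq
      rcases n with _ | n
      · simpa using hn
      · exfalso
        apply hpK
        rw [hn] at hdvd
        exact (dvd_pow_self p (Nat.succ_ne_zero n)).trans hdvd
    have : Subsingleton (P : Subgroup K) := (Nat.card_eq_one_iff_unique.mp h1).1
    exact isCyclic_of_subsingleton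

/-- **S1351**, conditional. -/
theorem s1351_of [Finite G] (hG : IsMinSimpleOddOrder G) (h30 : Stmt1430 G) (h29 : Stmt1429 G)
    (hNC : NC G) (M : Subgroup G) (hM : IsCoatom M) :
    (∃ K : Subgroup G, IsPiHallOf (kappa M) K M) ∧
      ∀ K : Subgroup G, IsPiHallOf (kappa M) K M → IsCyclic K := by
  refine ⟨Cfsg.Agent.Lib.Helper62.exists_isPiHallOf (kappa M) M (hG.2.2.2 M hM.1), ?_⟩
  intro K hK
  by_cases hK1 : K = ⊥
  · subst hK1
    exact isCyclic_of_subsingleton
  by_cases hP1 : IsP1 M
  · obtain ⟨Ms, hMs, hKMs, hnP⟩ := hNC M K hM hK hK1 hP1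
    -- a prime of `Ms` outside `σ ∪ κ`
    have hnP' := hnP
    unfold IsP1 at hnP'
    push Not at hnP'
    obtain ⟨q, hq, hqM, hqσ, hqκ⟩ := hnP'
    have : Fact q.Prime := ⟨hq⟩
    obtain S : Sylow q Ms := default
    have hnil : Group.IsNilpotent (sigmaCore Ms) :=
      (h29 Ms hMs hnP q hqM (by
        intro h
        rcases h with h | h
        · exact hqσ h
        · exact hqκ h) S).2.2
    -- `K` is nilpotent
    have hKnil : Group.IsNilpotent K := by
      have : Group.IsNilpotent (sigmaCore Ms) := hnil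
      have h1 : Group.IsNilpotent ↥(K.subgroupOf (sigmaCore Ms)) := inferInstance
      exact Group.nilpotent_of_mulEquiv (Subgroup.subgroupOfEquivOfLe hKMs)
    have hZ : IsZGroup K := isZGroup_of_kappa hK.1 hK.2.1
    infer_instance
  · have hP1' := hP1
    unfold IsP1 at hP1'
    push Not at hP1'
    obtain ⟨s, hs, hsM, hsσ, hsκ⟩ := hP1'
    have hp := prime_card_of_not_P1 hG h30 h29 M hM K hK hK1 s hs hsM hsσ hsκ
    have : Fact (Nat.card K).Prime := ⟨hp⟩
    exact isCyclic_of_prime_card rfl

end Cfsg.Agent.Lib.Helper68.KappaCyclic
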