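/-
helper68: the hypothesis `NC G` of `BGKappaCyclic.s1351_of`, discharged from helper21's
`exists_partner_not_P1` (B&G 14.7(a),(f) without cyclicity) and the landed rows
S1377, S1378, S1409, S1416, S1417, S1424, S1429, S1430, S1431, S1432, S1433.
-/
import Cfsg.Agent.S1377
import Cfsg.Agent.S1378
import Cfsg.Agent.S1409
import Cfsg.Agent.S1416
import Cfsg.Agent.S1417
import Cfsg.Agent.S1424
import Cfsg.Agent.S1429
import Cfsg.Agent.S1430
import Cfsg.Agent.S1431
import Cfsg.Agent.S1432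
import Cfsg.Agent.S1433
import Cfsg.Agent.Lib.Helper24.BGKstarCentUniq
import Cfsg.Agent.Lib.Helper34.TildeEquiv
import Cfsg.Agent.Lib.Helper21.BGFourteenSevenJ
import Cfsg.Agent.Lib.Helper68.BGKappaCyclic

set_option autoImplicit false

namespace Cfsg.Agent.Lib.Helper68.KappaCyclic

open Cfsg Cfsg.Agent.Lib.Helper54 Cfsg.Agent.Lib.Helper21

universe u

variable {G : Type u} [Group G] [Finite G]

theorem stmt1430_result (hG : IsMinSimpleOddOrder G) : Stmt1430 G :=
  fun M hM K hK hK1 => Cfsg.Agent.S1430.result hG M hM K hK hK1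

theorem stmt1431_result (hG : IsMinSimpleOddOrder G) : Stmt1431 G :=
  fun M hM K hK hK1 => Cfsg.Agent.S1431.result hG M hM K hK hK1

theorem stmt1429_result (hG : IsMinSimpleOddOrder G) : Stmt1429 G :=
  fun M hM hP1 p _ hpM hp S => Cfsg.Agent.S1429.result hG M hM hP1 p hpM hp S

/-- `M̃ ∩ Ñ = ∅` for non-conjugate maximal subgroups, in helper21's shape. -/
theorem tilde_disjoint_result (hG : IsMinSimpleOddOrder G) :
    ∀ M N : Subgroup G, IsCoatom M → IsCoatom N →
      (∀ g : G, N.map (MulAut.conj g).toMonoidHom ≠ M) →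
      Disjoint (tildeOf M ((sigmaCore M : Set G) \ {1}))
        (tildeOf N ((sigmaCore N : Set G) \ {1})) := by
  intro M N hM hN hne
  rw [Set.disjoint_iff_inter_eq_empty]
  refine Cfsg.Agent.Lib.Helper34.TildeEquiv.tildeSigma_disjoint_of
    (fun M N hM hN x y hx hy hx1 hy1 hxy =>
      Cfsg.Agent.S1433.result hG M N hM hN x y hx hy hx1 hy1 hxy)
    (fun M N hM hN h => (Cfsg.Agent.S1378.result hG).2 M N hM hN h) M N hM hN ?_
  intro g hg
  apply hne g⁻¹
  rw [hg]
  exact Cfsg.Agent.Lib.Helper34.map_conj_inv_map_conj M g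

/-- B&G 14.7(a),(f): `NC G`, unconditionally. -/
theorem nc_result (hG : IsMinSimpleOddOrder G) : NC G := by
  intro M K hM hK hK1 hP1
  obtain ⟨Ms, hMs, hKMs, -, -, -, hnP⟩ :=
    exists_partner_not_P1 hG (stmt1430_result hG) (stmt1431_result hG)
      (fun M hM x hx hx1 x' hx' hx'1 h =>
        Cfsg.Agent.S1432.result hG M hM x hx hx1 x' hx' hx'1 h)
      (Cfsg.Agent.Lib.Helper24.kstarCentUniq hG)
      (Cfsg.Agent.Lib.Helper68.BG13D.sigmaDisjoint_result hG)
      (fun M hM p _ hp X hX hN => Cfsg.Agent.S1409.result hG M hM p hp X hX hN)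
      (fun M hM p _ A hA => (Cfsg.Agent.S1416.result hG M hM p A hA).1)
      (fun M hM p _ hp A hA => Cfsg.Agent.S1417.result hG M hM p hp A hA)
      (fun M hM q _ hq X hX hX1 hXM Ms hMs hne hN S hS =>
        Cfsg.Agent.S1424.result hG M hM q hq X hX hX1 hXM Ms hMs hne hN S hS)
      (fun L hL => Cfsg.Agent.S1377.result hG L hL)
      (tilde_disjoint_result hG)
      (stmt1429_result hG) hM hK hK1 hP1
  exact ⟨Ms, hMs, hKMs, hnP⟩

end Cfsg.Agent.Lib.Helper68.KappaCyclic
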