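import Mathlib
import Cfsg.Agent.Lib.Helper71.SylAltDefs
import Cfsg.Prelude.Def_TwoFusion

/-!
# S2221 project (helper71), module [AG-BASIC] (helper68)

`DecompGroup` is invariant under `≃*`, agrees with `Cfsg.IsInternalDirectProduct` for subgroups,
and fails for a finite `2`-group whose centre has at most two elements.
-/

set_option autoImplicit false

namespace Cfsg.Agent.Lib.Helper68.SylAlt

open Equiv Cfsg.Agent.Lib.Helper71.SylAlt

theorem decompGroup_of_mulEquiv {K K' : Type*} [Group K] [Group K'] (e : K ≃* K')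
    (h : DecompGroup K) : DecompGroup K' := by
  obtain ⟨A, B, hA, hB, hc, hi, hs⟩ := h
  have hinj : Function.Injective e.toMonoidHom := e.injective
  refine ⟨A.map e.toMonoidHom, B.map e.toMonoidHom, ?_, ?_, ?_, ?_, ?_⟩
  · rw [Ne, Subgroup.map_eq_bot_iff_of_injective A hinj]; exact hA
  · rw [Ne, Subgroup.map_eq_bot_iff_of_injective B hinj]; exact hB
  · rintro _ ⟨a, ha, rfl⟩ _ ⟨b, hb, rfl⟩
    have := hc a ha b hb
    simp only [MulEquiv.coe_toMonoidHom]
    rw [← map_mul, ← map_mul, this]
  · rw [← Subgroup.map_inf A B e.toMonoidHom hinj, hi, Subgroup.map_bot]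
  · rw [← Subgroup.map_sup, hs]
    exact Subgroup.map_top_of_surjective e.toMonoidHom e.surjective

theorem decompGroup_congr {K K' : Type*} [Group K] [Group K'] (e : K ≃* K') :
    DecompGroup K ↔ DecompGroup K' :=
  ⟨decompGroup_of_mulEquiv e, decompGroup_of_mulEquiv e.symm⟩

theorem decomp_iff_decompGroup {G : Type*} [Group G] (P : Subgroup G) :
    (∃ S₁ S₂ : Subgroup G, S₁ ≠ ⊥ ∧ S₂ ≠ ⊥ ∧ Cfsg.IsInternalDirectProduct S₁ S₂ P) ↔
      DecompGroup ↥P := by
  constructor
  · rintro ⟨S₁, S₂, h1, h2, hle1, hle2, hc, hi, hs⟩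
    refine ⟨S₁.subgroupOf P, S₂.subgroupOf P, ?_, ?_, ?_, ?_, ?_⟩
    · intro h
      rw [Subgroup.subgroupOf_eq_bot, disjoint_iff, inf_eq_left.mpr hle1] at h
      exact h1 h
    · intro h
      rw [Subgroup.subgroupOf_eq_bot, disjoint_iff, inf_eq_left.mpr hle2] at h
      exact h2 h
    · intro a ha b hb
      apply Subtype.ext
      exact hc a.1 (Subgroup.mem_subgroupOf.mp ha) b.1 (Subgroup.mem_subgroupOf.mp hb)
    · rw [eq_bot_iff]
      intro x hx
      rw [Subgroup.mem_inf] at hx
      have : (x : G) ∈ S₁ ⊓ S₂ :=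
        ⟨Subgroup.mem_subgroupOf.mp hx.1, Subgroup.mem_subgroupOf.mp hx.2⟩
      rw [hi, Subgroup.mem_bot] at this
      rw [Subgroup.mem_bot]
      exact Subtype.ext this
    · rw [← Subgroup.subgroupOf_sup hle1 hle2, hs, Subgroup.subgroupOf_self]
  · rintro ⟨A, B, hA, hB, hc, hi, hs⟩
    have hinj : Function.Injective P.subtype := P.subtype_injective
    refine ⟨A.map P.subtype, B.map P.subtype, ?_, ?_, ?_, ?_, ?_, ?_, ?_⟩
    · rw [Ne, Subgroup.map_eq_bot_iff_of_injective A hinj]; exact hA
    · rw [Ne, Subgroup.map_eq_bot_iff_of_injective B hinj]; exact hB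
    · exact Subgroup.map_subtype_le A
    · exact Subgroup.map_subtype_le B
    · rintro _ ⟨a, ha, rfl⟩ _ ⟨b, hb, rfl⟩
      have := hc a ha b hb
      rw [← map_mul, ← map_mul, this]
    · rw [← Subgroup.map_inf A B P.subtype hinj, hi, Subgroup.map_bot]
    · rw [← Subgroup.map_sup, hs, ← MonoidHom.range_eq_map, Subgroup.range_subtype]

/-- an element central in one factor of an internal direct decomposition is central. -/
theorem central_of_central_factor {K : Type*} [Group K] {A B : Subgroup K}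
    (hs : A ⊔ B = ⊤) (a : K)
    (ha : ∀ x ∈ A, x * a = a * x) (haB : ∀ b ∈ B, b * a = a * b) : ∀ g : K, g * a = a * g := by
  have h1 : A ≤ Subgroup.centralizer ({a} : Set K) := by
    intro x hx
    rw [Subgroup.mem_centralizer_iff]
    intro y hy
    rw [Set.mem_singleton_iff] at hy
    subst hy
    exact (ha x hx).symm
  have h2 : B ≤ Subgroup.centralizer ({a} : Set K) := by
    intro x hx
    rw [Subgroup.mem_centralizer_iff]
    intro y hy
    rw [Set.mem_singleton_iff] at hy
    subst hy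
    exact (haB x hx).symm
  have h3 : (⊤ : Subgroup K) ≤ Subgroup.centralizer ({a} : Set K) := hs ▸ sup_le h1 h2
  intro g
  have := h3 (Subgroup.mem_top g)
  rw [Subgroup.mem_centralizer_iff] at this
  exact (this a rfl).symm

/-- a nontrivial subgroup of a finite `2`-group has a nontrivial central element. -/
theorem exists_central_ne_one {K : Type*} [Group K] [Finite K] (hp : IsPGroup 2 K)
    (A : Subgroup K) (hA : A ≠ ⊥) : ∃ a ∈ A, a ≠ 1 ∧ ∀ x ∈ A, x * a = a * x := by
  have : Fact (Nat.Prime 2) := ⟨Nat.prime_two⟩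
  have : Nontrivial A := (Subgroup.nontrivial_iff_ne_bot A).mpr hA
  have hpA : IsPGroup 2 A := hp.to_subgroup A
  have := hpA.center_nontrivial
  obtain ⟨c, hc⟩ := exists_ne (1 : Subgroup.center A)
  refine ⟨(c : A), (c : A).2, ?_, ?_⟩
  · intro h
    apply hc
    apply Subtype.ext
    apply Subtype.ext
    simpa using h
  · intro x hx
    have := Subgroup.mem_center_iff.mp c.2 ⟨x, hx⟩
    have h2 := congrArg (Subtype.val) this
    simpa using h2

theorem not_decompGroup_of_center {K : Type*} [Group K] [Finite K] (hp : IsPGroup 2 K) (z : K)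
    (hz : ∀ c : K, (∀ g : K, g * c = c * g) → c = 1 ∨ c = z) : ¬ DecompGroup K := by
  rintro ⟨A, B, hA, hB, hc, hi, hs⟩
  obtain ⟨a, haA, ha1, hacen⟩ := exists_central_ne_one hp A hA
  obtain ⟨b, hbB, hb1, hbcen⟩ := exists_central_ne_one hp B hB
  have hacK : ∀ g : K, g * a = a * g :=
    central_of_central_factor hs a hacen (fun b' hb' => (hc a haA b' hb').symm)
  have hs' : B ⊔ A = ⊤ := by rw [sup_comm]; exact hs
  have hbcK : ∀ g : K, g * b = b * g :=
    central_of_central_factor hs' b hbcen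
      (fun a' ha' => hc a' ha' b hbB)
  have haz : a = z := (hz a hacK).resolve_left ha1
  have hbz : b = z := (hz b hbcK).resolve_left hb1
  have : a ∈ A ⊓ B := ⟨haA, by rw [haz, ← hbz]; exact hbB⟩
  rw [hi, Subgroup.mem_bot] at this
  exact ha1 this

end Cfsg.Agent.Lib.Helper68.SylAlt
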