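import Mathlib
import Cfsg.Agent.Lib.Helper72.Wielandt
import Cfsg.Agent.Lib.Helper47.Subnormal

/-!
# Subnormalizers of `p`-subgroups (helper68)

`InSub p H g` : there is a `p`-subgroup `T ≥ H` normalized by `g`.  For a `p`-subgroup `H` of a
finite group this is equivalent to `H` being subnormal in `⟨H, g⟩` (`subn_iff`).
Also: the smallest `x`-invariant subgroup `cl H x` containing `H`.
(The small lemmas `isSubnormal_of_nilp`, `relSN_of_pgroup`, `le_normalizer_inf'` follow
helper72's S4089.)
-/

set_option autoImplicit false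
open scoped Pointwise

namespace Cfsg.Agent.Lib.Helper68.Subn

open Cfsg Cfsg.Agent.Lib.Helper72 Cfsg.Agent.Lib.Helper47

variable {G : Type*} [Group G]

/-- `g` lies in the subnormalizer of `H` (elementary form). -/
def InSub (p : ℕ) (H : Subgroup G) (g : G) : Prop :=
  ∃ T : Subgroup G, IsPGroup p T ∧ H ≤ T ∧ g ∈ Subgroup.normalizer (T : Set G)

theorem isSubnormal_of_nilp {N : Type*} [Group N] [Finite N] [Group.IsNilpotent N]
    (H : Subgroup N) : H.IsSubnormal := by
  induction H using WellFoundedGT.induction with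
  | ind H ih =>
    by_cases hH : H = ⊤
    · rw [hH]; exact Subgroup.IsSubnormal.top
    · have h1 : H < Subgroup.normalizer (H : Set N) :=
        Group.normalizerCondition_of_isNilpotent H (lt_top_iff_ne_top.2 hH)
      exact Subgroup.IsSubnormal.step H _ h1.le (ih _ h1)
        (Subgroup.normal_subgroupOf_of_le_normalizer le_rfl)

theorem relSN_of_pgroup [Finite G] {p : ℕ} [Fact p.Prime] {H D : Subgroup G}
    (hD : IsPGroup p D) (hle : H ≤ D) : RelSN H D := by
  have := hD.isNilpotent
  exact relSN_of_isSubnormal_subgroupOf hle (isSubnormal_of_nilp _)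

theorem le_normalizer_inf' {R K M : Subgroup G} (h1 : M ≤ Subgroup.normalizer (R : Set G))
    (h2 : M ≤ Subgroup.normalizer (K : Set G)) :
    M ≤ Subgroup.normalizer ((R ⊓ K : Subgroup G) : Set G) := by
  intro m hm
  have hR := Subgroup.mem_normalizer_iff.mp (h1 hm)
  have hK := Subgroup.mem_normalizer_iff.mp (h2 hm)
  rw [Subgroup.mem_normalizer_iff]
  intro y
  rw [Subgroup.mem_inf, Subgroup.mem_inf, ← hR y, ← hK y]

/-- Subnormality of a `p`-subgroup `H` in `⟨H, g⟩`, in elementary terms. -/
theorem subn_iff [Finite G] {p : ℕ} [Fact p.Prime] {H : Subgroup G} (hH : IsPGroup p H) (g : G) :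
    (H.subgroupOf (H ⊔ Subgroup.zpowers g)).IsSubnormal ↔ InSub p H g := by
  constructor
  · intro h
    have h0 : RelSN H (H ⊔ Subgroup.zpowers g) := relSN_of_isSubnormal_subgroupOf le_sup_left h
    have h2 : IsPGroup p ↥(H.subgroupOf (H ⊔ Subgroup.zpowers g)) := hH.comap_subtype
    have h3 : H.subgroupOf (H ⊔ Subgroup.zpowers g) ≤ Cfsg.pCore p ↥(H ⊔ Subgroup.zpowers g) :=
      le_pCore_of_isSubnormal_of_isPGroup h h2
    have h4 := Subgroup.map_mono (f := (H ⊔ Subgroup.zpowers g).subtype) h3
    rw [Subgroup.map_subgroupOf_eq_of_le h0.le] at h4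
    refine ⟨Cfsg.pCoreOf p (H ⊔ Subgroup.zpowers g), pCoreOf_isPGroup p _, h4, ?_⟩
    apply normalizer_le_normalizer_pCoreOf p _
    apply Subgroup.le_normalizer
    exact (le_sup_right : Subgroup.zpowers g ≤ H ⊔ Subgroup.zpowers g) (Subgroup.mem_zpowers g)
  · rintro ⟨T, hT, hHT, hg⟩
    have hK : H ⊔ Subgroup.zpowers g ≤ Subgroup.normalizer (T : Set G) :=
      sup_le (hHT.trans Subgroup.le_normalizer) ((Subgroup.zpowers_le).mpr hg)
    have h1 : RelSN H (T ⊓ (H ⊔ Subgroup.zpowers g)) :=
      relSN_of_pgroup (hT.to_le inf_le_left) (le_inf hHT le_sup_left)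
    have h2 : RelSN (T ⊓ (H ⊔ Subgroup.zpowers g)) (H ⊔ Subgroup.zpowers g) :=
      RelSN.of_normal inf_le_right (le_normalizer_inf' hK Subgroup.le_normalizer)
    exact (h1.trans h2).isSubnormal_subgroupOf

/-- The smallest subgroup containing `H` and normalized by `x`. -/
def cl (H : Subgroup G) (x : G) : Subgroup G :=
  sInf {T : Subgroup G | H ≤ T ∧ x ∈ Subgroup.normalizer (T : Set G)}

theorem le_cl (H : Subgroup G) (x : G) : H ≤ cl H x := by
  unfold cl
  exact le_sInf fun T hT => hT.1

theorem cl_le {H T : Subgroup G} {x : G} (h1 : H ≤ T) (h2 : x ∈ Subgroup.normalizer (T : Set G)) :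
    cl H x ≤ T := sInf_le ⟨h1, h2⟩

theorem mem_normalizer_cl (H : Subgroup G) (x : G) :
    x ∈ Subgroup.normalizer ((cl H x : Subgroup G) : Set G) := by
  rw [Subgroup.mem_normalizer_iff]
  intro y
  unfold cl
  simp only [Subgroup.mem_sInf, Set.mem_setOf_eq]
  constructor
  · intro h T hT
    exact (Subgroup.mem_normalizer_iff.mp hT.2 y).mp (h T hT)
  · intro h T hT
    exact (Subgroup.mem_normalizer_iff.mp hT.2 y).mpr (h T hT)

theorem inSub_iff_cl {p : ℕ} (H : Subgroup G) (x : G) :
    InSub p H x ↔ IsPGroup p (cl H x) := by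
  constructor
  · rintro ⟨T, hT, hHT, hx⟩
    exact hT.to_le (cl_le hHT hx)
  · intro h
    exact ⟨cl H x, h, le_cl H x, mem_normalizer_cl H x⟩

theorem map_cl {Q : Type*} [Group Q] (f : G →* Q) (H : Subgroup G) (x : G) :
    (cl H x).map f = cl (H.map f) (f x) := by
  apply le_antisymm
  · rw [Subgroup.map_le_iff_le_comap]
    apply cl_le
    · exact (Subgroup.le_comap_map f H).trans (Subgroup.comap_mono (le_cl _ _))
    · exact Subgroup.le_normalizer_comap f (Subgroup.mem_comap.mpr (mem_normalizer_cl _ _))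
  · apply cl_le
    · exact Subgroup.map_mono (le_cl H x)
    · exact Subgroup.le_normalizer_map f (Subgroup.mem_map_of_mem f (mem_normalizer_cl H x))

theorem InSub.map {Q : Type*} [Group Q] {p : ℕ} (f : G →* Q) {H : Subgroup G} {x : G}
    (h : InSub p H x) : InSub p (H.map f) (f x) := by
  obtain ⟨T, hT, hHT, hx⟩ := h
  exact ⟨T.map f, hT.map f, Subgroup.map_mono hHT,
    Subgroup.le_normalizer_map f (Subgroup.mem_map_of_mem f hx)⟩

/-- Counting through the fibres of a map. -/
theorem card_of_fibers {α β : Type*} [Finite α] [Finite β] (f : α → β) (R : α → Prop)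
    (A : Set β) (c : ℕ) (h1 : ∀ x, R x → f x ∈ A)
    (h2 : ∀ b ∈ A, Nat.card {x : α // f x = b ∧ R x} = c) :
    Nat.card {x : α // R x} = c * Nat.card A := by
  classical
  haveI := Fintype.ofFinite α
  haveI := Fintype.ofFinite β
  have hs : Nat.card {x : α // R x} = (Finset.univ.filter R).card := by
    rw [Nat.card_eq_fintype_card, Fintype.card_subtype]
  have ht : Nat.card A = (Finset.univ.filter (· ∈ A)).card := by
    rw [Nat.card_eq_fintype_card]
    exact Fintype.card_subtype _
  rw [hs, ht, Finset.card_eq_sum_card_fiberwise (f := f) (t := Finset.univ.filter (· ∈ A))]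
  · rw [Finset.sum_congr rfl (g := fun _ => c)]
    · rw [Finset.sum_const, smul_eq_mul, mul_comm]
    · intro b hb
      have hbA : b ∈ A := (Finset.mem_filter.mp hb).2
      rw [← h2 b hbA, Nat.card_eq_fintype_card, Fintype.card_subtype]
      congr 1
      ext x
      simp only [Finset.mem_filter, Finset.mem_univ, true_and]
      tauto
  · intro x hx
    simp only [Finset.coe_filter, Finset.mem_univ, true_and, Set.mem_setOf_eq] at hx ⊢
    exact h1 x hx

end Cfsg.Agent.Lib.Helper68.Subn
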