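import Mathlib
import Cfsg.Agent.Lib.Helper68.Subnormalizer

/-!
# Subnormalizers and quotients by normal `p`- and `p'`-subgroups (helper68)
-/

set_option autoImplicit false
open scoped Pointwise

namespace Cfsg.Agent.Lib.Helper68.Subn

open Cfsg Cfsg.Agent.Lib.Helper72 Cfsg.Agent.Lib.Helper47

variable {G : Type*} [Group G]

theorem mem_conj_smul {g x : G} {T : Subgroup G} :
    x ∈ MulAut.conj g • T ↔ g⁻¹ * x * g ∈ T := by
  rw [Subgroup.mem_pointwise_smul_iff_inv_smul_mem, ← map_inv, MulAut.smul_def, MulAut.conj_apply,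
    inv_inv]

theorem map_conj_smul {Q : Type*} [Group Q] (f : G →* Q) (g : G) (T : Subgroup G) :
    (MulAut.conj g • T).map f = MulAut.conj (f g) • T.map f := by
  apply le_antisymm
  · rintro y ⟨x, hx, rfl⟩
    have hx' : x ∈ MulAut.conj g • T := hx
    rw [mem_conj_smul] at hx' ⊢
    refine ⟨g⁻¹ * x * g, hx', ?_⟩
    simp
  · intro y hy
    rw [mem_conj_smul] at hy
    obtain ⟨t, ht, hty⟩ := hy
    refine ⟨g * t * g⁻¹, ?_, ?_⟩
    · have h1 : g * t * g⁻¹ ∈ MulAut.conj g • T := by
        rw [mem_conj_smul]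
        have : g⁻¹ * (g * t * g⁻¹) * g = t := by group
        rw [this]; exact ht
      exact h1
    · rw [map_mul, map_mul, hty, map_inv]
      group

/-- A set described as a left coset of a subgroup has the cardinality of the subgroup. -/
theorem card_coset_like (K : Subgroup G) (P : G → Prop) (x0 : G)
    (hP : ∀ x, P x ↔ x0⁻¹ * x ∈ K) : Nat.card {x : G // P x} = Nat.card K := by
  refine Nat.card_congr
    { toFun := fun x => ⟨x0⁻¹ * x.1, (hP x.1).mp x.2⟩
      invFun := fun k => ⟨x0 * k.1, (hP _).mpr (by rw [inv_mul_cancel_left]; exact k.2)⟩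
      left_inv := fun x => by simp
      right_inv := fun k => by simp }

section quot

variable [Finite G] (N : Subgroup G) [N.Normal]

theorem card_comap_mk' (B : Subgroup (G ⧸ N)) :
    Nat.card (B.comap (QuotientGroup.mk' N)) = Nat.card N * Nat.card B := by
  have h1 := (B.comap (QuotientGroup.mk' N)).card_mul_index
  rw [Subgroup.index_comap_of_surjective (H := B) (QuotientGroup.mk'_surjective N)] at h1
  have h2 := B.card_mul_index
  have h3 := Subgroup.card_eq_card_quotient_mul_card_subgroup N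
  have hpos : 0 < B.index := Nat.pos_of_ne_zero (Subgroup.index_ne_zero_of_finite)
  apply Nat.eq_of_mul_eq_mul_right hpos
  rw [h1, h3, ← h2]
  ring

theorem card_preimage_mk' (A : Set (G ⧸ N)) :
    Nat.card {g : G // QuotientGroup.mk' N g ∈ A} = Nat.card N * Nat.card A := by
  apply card_of_fibers (QuotientGroup.mk' N) (fun g => QuotientGroup.mk' N g ∈ A) A
  · intro x hx; exact hx
  · intro b hb
    obtain ⟨g0, rfl⟩ := QuotientGroup.mk'_surjective N b
    apply card_coset_like N _ g0
    intro x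
    constructor
    · rintro ⟨h1, -⟩
      exact QuotientGroup.eq.mp h1.symm
    · intro h
      have h1 : QuotientGroup.mk' N x = QuotientGroup.mk' N g0 := (QuotientGroup.eq.mpr h).symm
      exact ⟨h1, h1 ▸ hb⟩

omit [Finite G] in
theorem comap_map_of_le {A : Subgroup G} (h : N ≤ A) :
    (A.map (QuotientGroup.mk' N)).comap (QuotientGroup.mk' N) = A := by
  rw [Subgroup.comap_map_eq, QuotientGroup.ker_mk', sup_eq_left.mpr h]

theorem card_of_le {A : Subgroup G} (h : N ≤ A) :
    Nat.card A = Nat.card N * Nat.card (A.map (QuotientGroup.mk' N)) := by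
  rw [← card_comap_mk', comap_map_of_le N h]

theorem inf_eq_bot_of_pgroup {p : ℕ} [Fact p.Prime] (hN : (Nat.card N).Coprime p)
    {T : Subgroup G} (hT : IsPGroup p T) : T ⊓ N = ⊥ := by
  obtain ⟨k, hk⟩ := IsPGroup.iff_card.mp hT
  have h1 : Nat.Coprime (Nat.card T) (Nat.card N) := by
    rw [hk]
    exact (Nat.Coprime.pow_right k hN).symm
  exact (Subgroup.disjoint_of_coprime_natCard h1).eq_bot

theorem card_map_of_inf_eq_bot {T : Subgroup G} (h : T ⊓ N = ⊥) :
    Nat.card (T.map (QuotientGroup.mk' N)) = Nat.card T := by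
  have hinj : Function.Injective ((QuotientGroup.mk' N).comp T.subtype) := by
    rw [injective_iff_map_eq_one]
    intro t ht
    have h1 : (t : G) ∈ N := (QuotientGroup.eq_one_iff _).mp ht
    have h2 : (t : G) ∈ T ⊓ N := ⟨t.2, h1⟩
    rw [h, Subgroup.mem_bot] at h2
    exact Subtype.ext h2
  have hr : ((QuotientGroup.mk' N).comp T.subtype).range = T.map (QuotientGroup.mk' N) := by
    rw [MonoidHom.range_comp, Subgroup.range_subtype]
  rw [← hr]
  exact (Nat.card_congr (MonoidHom.ofInjective hinj).toEquiv).symm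

/-! ### Q1: quotient by a normal `p`-subgroup -/

theorem inSub_iff_of_pgroup_normal {p : ℕ} [Fact p.Prime] (hN : IsPGroup p N) (H : Subgroup G)
    (g : G) : InSub p H g ↔
      InSub p (H.map (QuotientGroup.mk' N)) (QuotientGroup.mk' N g) := by
  constructor
  · exact InSub.map _
  · rintro ⟨Tb, hTb, hle, hg⟩
    refine ⟨Tb.comap (QuotientGroup.mk' N), ?_, Subgroup.map_le_iff_le_comap.mp hle, ?_⟩
    · apply hTb.comap_of_ker_isPGroup
      rw [QuotientGroup.ker_mk']
      exact hN
    · exact Subgroup.le_normalizer_comap _ (Subgroup.mem_comap.mpr hg)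

theorem card_inSub_of_pgroup_normal {p : ℕ} [Fact p.Prime] (hN : IsPGroup p N) (H : Subgroup G) :
    Nat.card {g : G // InSub p H g} =
      Nat.card N * Nat.card {b : G ⧸ N // InSub p (H.map (QuotientGroup.mk' N)) b} := by
  have h1 := card_preimage_mk' N {b : G ⧸ N | InSub p (H.map (QuotientGroup.mk' N)) b}
  have h2 : Nat.card {g : G // InSub p H g} =
      Nat.card {g : G // QuotientGroup.mk' N g ∈
        {b : G ⧸ N | InSub p (H.map (QuotientGroup.mk' N)) b}} := by
    apply Nat.card_congr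
    apply Equiv.subtypeEquivRight
    intro g
    exact inSub_iff_of_pgroup_normal N hN H g
  rw [h2, h1]
  rfl

/-! ### Schur–Zassenhaus-type conjugacy -/

theorem exists_conj_of_map_eq {p : ℕ} [Fact p.Prime] (hN : (Nat.card N).Coprime p)
    {T T' : Subgroup G} (hT : IsPGroup p T) (hT' : IsPGroup p T')
    (h : T.map (QuotientGroup.mk' N) = T'.map (QuotientGroup.mk' N)) :
    ∃ n ∈ N, T' = MulAut.conj n • T := by
  have hsup : T ⊔ N = T' ⊔ N := by
    have := congrArg (Subgroup.comap (QuotientGroup.mk' N)) h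
    rwa [Subgroup.comap_map_eq, Subgroup.comap_map_eq, QuotientGroup.ker_mk'] at this
  have hTW : T ≤ T ⊔ N := le_sup_left
  have hT'W : T' ≤ T ⊔ N := hsup ▸ le_sup_left
  have hidx : ∀ S : Subgroup G, IsPGroup p S → S ≤ T ⊔ N →
      S.map (QuotientGroup.mk' N) = T.map (QuotientGroup.mk' N) →
      ¬ p ∣ (S.subgroupOf (T ⊔ N)).index := by
    intro S hS hSW hmap
    have h1 := (S.subgroupOf (T ⊔ N)).index_mul_card
    rw [Nat.card_congr (Subgroup.subgroupOfEquivOfLe hSW).toEquiv] at h1
    have h2 : Nat.card (T ⊔ N : Subgroup G) = Nat.card N * Nat.card S := by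
      rw [card_of_le N (le_sup_right : N ≤ T ⊔ N), Subgroup.map_sup, QuotientGroup.map_mk'_self,
        sup_bot_eq, ← hmap, card_map_of_inf_eq_bot N (inf_eq_bot_of_pgroup N hN hS)]
    rw [h2] at h1
    have hpos : 0 < Nat.card S := Nat.card_pos
    have h3 : (S.subgroupOf (T ⊔ N)).index = Nat.card N := Nat.eq_of_mul_eq_mul_right hpos h1
    rw [h3]
    intro hdvd
    have := Nat.Coprime.eq_one_of_dvd hN.symm hdvd
    exact (Fact.out : p.Prime).one_lt.ne' this
  let P : Sylow p ↥(T ⊔ N) := (hT.comap_subtype (H := T) (K := T ⊔ N)).toSylow (hidx T hT hTW rfl)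
  let P' : Sylow p ↥(T ⊔ N) := (hT'.comap_subtype (H := T') (K := T ⊔ N)).toSylow
    (hidx T' hT' hT'W h.symm)
  obtain ⟨w, hw⟩ := MulAction.exists_smul_eq ↥(T ⊔ N) P P'
  have hw1 : MulAut.conj w • (T.subgroupOf (T ⊔ N)) = T'.subgroupOf (T ⊔ N) := by
    have := congrArg (fun Q : Sylow p ↥(T ⊔ N) => (Q : Subgroup ↥(T ⊔ N))) hw
    exact this
  rw [Subgroup.conj_smul_subgroupOf hTW w] at hw1
  have hw2 : MulAut.conj (w : G) • T = T' := by
    have h1 := congrArg (Subgroup.map (T ⊔ N).subtype) hw1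
    rwa [Subgroup.map_subgroupOf_eq_of_le (Subgroup.conj_smul_le_of_le hTW w),
      Subgroup.map_subgroupOf_eq_of_le hT'W] at h1
  have hwmem : (w : G) ∈ ((N ⊔ T : Subgroup G) : Set G) := by
    rw [sup_comm]; exact w.2
  rw [Subgroup.normal_mul] at hwmem
  obtain ⟨n, hn, t, ht, hnt⟩ := hwmem
  refine ⟨n, hn, ?_⟩
  have hnt' : n * t = (w : G) := hnt
  rw [← hw2, ← hnt', map_mul, mul_smul, Subgroup.conj_smul_eq_self_of_mem ht]


/-! ### Q2: quotient by a normal `p'`-subgroup -/

theorem inf_normalizer_eq_inf_centralizer {p : ℕ} [Fact p.Prime] (hN : (Nat.card N).Coprime p)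
    {T : Subgroup G} (hT : IsPGroup p T) :
    N ⊓ Subgroup.normalizer (T : Set G) = N ⊓ Subgroup.centralizer (T : Set G) := by
  apply le_antisymm
  · intro n hn
    have hnN : n ∈ N := hn.1
    have hnT : n ∈ Subgroup.normalizer (T : Set G) := hn.2
    refine Subgroup.mem_inf.mpr ⟨hnN, ?_⟩
    rw [Subgroup.mem_centralizer_iff]
    intro t ht
    have ht : t ∈ T := ht
    have h1 : n * t * n⁻¹ * t⁻¹ ∈ T ⊓ N := by
      constructor
      · exact T.mul_mem ((Subgroup.mem_normalizer_iff.mp hnT t).mp ht) (T.inv_mem ht)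
      · have h2 : t * n⁻¹ * t⁻¹ ∈ N := Subgroup.Normal.conj_mem inferInstance _ (N.inv_mem hnN) t
        have h3 : n * t * n⁻¹ * t⁻¹ = n * (t * n⁻¹ * t⁻¹) := by group
        rw [h3]; exact N.mul_mem hnN h2
    rw [inf_eq_bot_of_pgroup N hN hT, Subgroup.mem_bot] at h1
    have h4 : n * t = (n * t * n⁻¹ * t⁻¹) * (t * n) := by group
    rw [h4, h1, one_mul]
  · exact inf_le_inf_left N (Subgroup.centralizer_le_normalizer _)

theorem card_fiber_inSub {p : ℕ} [Fact p.Prime] (hN : (Nat.card N).Coprime p) (H : Subgroup G)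
    (hH : IsPGroup p H) (b : G ⧸ N) (hb : InSub p (H.map (QuotientGroup.mk' N)) b) :
    Nat.card {x : G // QuotientGroup.mk' N x = b ∧ InSub p H x} =
      Nat.card (N ⊓ Subgroup.centralizer (H : Set G) : Subgroup G) := by
  have hp : p.Prime := Fact.out
  set Wb : Subgroup (G ⧸ N) := cl (H.map (QuotientGroup.mk' N)) b with hWbdef
  have hWb : IsPGroup p Wb := (inSub_iff_cl _ _).mp hb
  have hbN : b ∈ Subgroup.normalizer (Wb : Set (G ⧸ N)) := mem_normalizer_cl _ _
  let 𝒯 : Set (Subgroup G) := {T | IsPGroup p T ∧ H ≤ T ∧ T.map (QuotientGroup.mk' N) = Wb}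
  have hcardT : ∀ T : Subgroup G, IsPGroup p T →
      Nat.card (T.map (QuotientGroup.mk' N)) = Nat.card T := fun T hT =>
    card_map_of_inf_eq_bot N (inf_eq_bot_of_pgroup N hN hT)
  -- uniqueness
  have huniq : ∀ T ∈ 𝒯, ∀ x : G, QuotientGroup.mk' N x = b →
      x ∈ Subgroup.normalizer (T : Set G) → cl H x = T := by
    rintro T ⟨hTp, hHT, hTm⟩ x hx hxT
    have hle : cl H x ≤ T := cl_le hHT hxT
    apply Subgroup.eq_of_le_of_card_ge hle
    have hclp : IsPGroup p (cl H x) := hTp.to_le hle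
    have h1 : (cl H x).map (QuotientGroup.mk' N) = Wb := by rw [map_cl, hx]
    rw [← hcardT T hTp, hTm, ← h1, hcardT _ hclp]
  have hcl : ∀ x : G, QuotientGroup.mk' N x = b → InSub p H x → cl H x ∈ 𝒯 := by
    intro x hx hS
    exact ⟨(inSub_iff_cl _ _).mp hS, le_cl _ _, by rw [map_cl, hx]⟩
  -- existence of a member of 𝒯
  obtain ⟨T0, hT0⟩ : ∃ T0, T0 ∈ 𝒯 := by
    have hHW : H ≤ Wb.comap (QuotientGroup.mk' N) := Subgroup.map_le_iff_le_comap.mp (le_cl _ _)
    obtain ⟨Q, hQ⟩ := (hH.comap_subtype (H := H) (K := Wb.comap (QuotientGroup.mk' N))).exists_le_sylow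
    have hT0p : IsPGroup p ((Q : Subgroup ↥(Wb.comap (QuotientGroup.mk' N))).map
        (Wb.comap (QuotientGroup.mk' N)).subtype) := Q.2.map _
    have hHT0 : H ≤ (Q : Subgroup ↥(Wb.comap (QuotientGroup.mk' N))).map
        (Wb.comap (QuotientGroup.mk' N)).subtype := by
      have hQ' : H.subgroupOf (Wb.comap (QuotientGroup.mk' N)) ≤
          (Q : Subgroup ↥(Wb.comap (QuotientGroup.mk' N))) := hQ
      have := Subgroup.map_mono (f := (Wb.comap (QuotientGroup.mk' N)).subtype) hQ'
      rwa [Subgroup.map_subgroupOf_eq_of_le hHW] at this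
    have hT0W : (Q : Subgroup ↥(Wb.comap (QuotientGroup.mk' N))).map
        (Wb.comap (QuotientGroup.mk' N)).subtype ≤ Wb.comap (QuotientGroup.mk' N) :=
      Subgroup.map_subtype_le _
    refine ⟨_, hT0p, hHT0, ?_⟩
    have hle : ((Q : Subgroup ↥(Wb.comap (QuotientGroup.mk' N))).map
        (Wb.comap (QuotientGroup.mk' N)).subtype).map (QuotientGroup.mk' N) ≤ Wb :=
      (Subgroup.map_mono hT0W).trans (Subgroup.map_comap_le _ _)
    apply Subgroup.eq_of_le_of_card_ge hle
    rw [hcardT _ hT0p]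
    have hcQ : Nat.card ((Q : Subgroup ↥(Wb.comap (QuotientGroup.mk' N))).map
        (Wb.comap (QuotientGroup.mk' N)).subtype) = Nat.card (Q : Subgroup ↥(Wb.comap (QuotientGroup.mk' N))) :=
      Subgroup.card_map_of_injective (Subgroup.subtype_injective _)
    rw [hcQ]
    obtain ⟨k, hk⟩ := IsPGroup.iff_card.mp hWb
    have h1 := (Q : Subgroup ↥(Wb.comap (QuotientGroup.mk' N))).card_mul_index
    rw [card_comap_mk' N Wb, hk] at h1
    have h2 : p ^ k ∣ Nat.card (Q : Subgroup ↥(Wb.comap (QuotientGroup.mk' N))) *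
        (Q : Subgroup ↥(Wb.comap (QuotientGroup.mk' N))).index := by
      rw [h1]; exact Dvd.intro_left _ rfl
    have h3 : Nat.Coprime (p ^ k) (Q : Subgroup ↥(Wb.comap (QuotientGroup.mk' N))).index :=
      Nat.Coprime.pow_left k ((Nat.Prime.coprime_iff_not_dvd hp).mpr Q.not_dvd_index)
    have h4 := h3.dvd_of_dvd_mul_right h2
    rw [hk]
    exact Nat.le_of_dvd Nat.card_pos h4
  obtain ⟨hT0p, hHT0, hT0m⟩ := id hT0
  -- existence of normalizing elements in the fibre
  have hx0 : ∀ T ∈ 𝒯, ∃ x0 : G, QuotientGroup.mk' N x0 = b ∧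
      x0 ∈ Subgroup.normalizer (T : Set G) := by
    rintro T ⟨hTp, hHT, hTm⟩
    obtain ⟨g, hg⟩ := QuotientGroup.mk'_surjective N b
    have hT'p : IsPGroup p (MulAut.conj g • T : Subgroup G) :=
      hTp.of_equiv (Subgroup.equivSMul (MulAut.conj g) T)
    have hmap : T.map (QuotientGroup.mk' N) = (MulAut.conj g • T).map (QuotientGroup.mk' N) := by
      rw [map_conj_smul, hg, hTm, conj_smul_eq_of_mem_normalizer hbN]
    obtain ⟨n, hn, hnT⟩ := exists_conj_of_map_eq N hN hTp hT'p hmap
    refine ⟨n⁻¹ * g, ?_, ?_⟩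
    · have hn1 : QuotientGroup.mk' N n = 1 := (QuotientGroup.eq_one_iff n).mpr hn
      rw [map_mul, hg, map_inv, hn1, inv_one, one_mul]
    · apply mem_normalizer_of_conj_smul_le
      rw [map_mul, mul_smul, hnT, ← mul_smul, map_inv, inv_mul_cancel, one_smul]
  -- transitivity
  have htrans : ∀ T ∈ 𝒯, ∀ T' ∈ 𝒯, ∃ c ∈ N ⊓ Subgroup.centralizer (H : Set G),
      T' = MulAut.conj c • T := by
    rintro T ⟨hTp, hHT, hTm⟩ T' ⟨hT'p, hHT', hT'm⟩
    obtain ⟨n, hn, hnT⟩ := exists_conj_of_map_eq N hN hTp hT'p (hTm.trans hT'm.symm)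
    refine ⟨n, Subgroup.mem_inf.mpr ⟨hn, ?_⟩, hnT⟩
    rw [Subgroup.mem_centralizer_iff]
    intro h hh
    have hh : h ∈ H := hh
    have h1 : n⁻¹ * h * n ∈ T := by
      have := hHT' hh
      rw [hnT, mem_conj_smul] at this
      exact this
    have h2 : (n⁻¹ * h * n)⁻¹ * h ∈ T ⊓ N := by
      constructor
      · exact T.mul_mem (T.inv_mem h1) (hHT hh)
      · have h3 : h⁻¹ * n * h ∈ N := by
          have := Subgroup.Normal.conj_mem (inferInstance : N.Normal) n hn h⁻¹
          simpa using this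
        have h4 : (n⁻¹ * h * n)⁻¹ * h = n⁻¹ * (h⁻¹ * n * h) := by group
        rw [h4]; exact N.mul_mem (N.inv_mem hn) h3
    rw [inf_eq_bot_of_pgroup N hN hTp, Subgroup.mem_bot] at h2
    have h5 : h * n = n * (n⁻¹ * h * n) := by group
    have h6 : n⁻¹ * h * n = h := by
      have := mul_eq_one_iff_eq_inv.mp h2
      exact inv_injective this
    rw [h5, h6]
  -- counting normalizing elements in the fibre
  have hcount : ∀ T ∈ 𝒯, Nat.card {x : G // QuotientGroup.mk' N x = b ∧
      x ∈ Subgroup.normalizer (T : Set G)} =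
      Nat.card (N ⊓ Subgroup.centralizer (T : Set G) : Subgroup G) := by
    intro T hT
    obtain ⟨x0, hx0b, hx0T⟩ := hx0 T hT
    rw [← inf_normalizer_eq_inf_centralizer N hN hT.1]
    apply card_coset_like _ _ x0
    intro x
    rw [Subgroup.mem_inf]
    constructor
    · rintro ⟨h1, h2⟩
      refine ⟨?_, Subgroup.mul_mem _ (Subgroup.inv_mem _ hx0T) h2⟩
      apply (QuotientGroup.eq_one_iff _).mp
      have : ((x0⁻¹ * x : G) : G ⧸ N) = (QuotientGroup.mk' N x0)⁻¹ * QuotientGroup.mk' N x := rfl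
      rw [this, h1, hx0b, inv_mul_cancel]
    · rintro ⟨h1, h2⟩
      have hx : x = x0 * (x0⁻¹ * x) := by group
      constructor
      · have h3 : QuotientGroup.mk' N (x0⁻¹ * x) = 1 := (QuotientGroup.eq_one_iff _).mpr h1
        rw [hx, map_mul, h3, mul_one, hx0b]
      · rw [hx]
        exact Subgroup.mul_mem _ hx0T h2
  have hk : ∀ T ∈ 𝒯, Nat.card (N ⊓ Subgroup.centralizer (T : Set G) : Subgroup G) =
      Nat.card (N ⊓ Subgroup.centralizer (T0 : Set G) : Subgroup G) := by
    intro T hT
    obtain ⟨c, -, hc⟩ := htrans T0 hT0 T hT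
    have heq : (N ⊓ Subgroup.centralizer (T : Set G) : Subgroup G) =
        MulAut.conj c • (N ⊓ Subgroup.centralizer (T0 : Set G) : Subgroup G) := by
      ext x
      rw [mem_conj_smul, Subgroup.mem_inf, Subgroup.mem_inf, Subgroup.mem_centralizer_iff,
        Subgroup.mem_centralizer_iff]
      constructor
      · rintro ⟨h1, h2⟩
        constructor
        · have := Subgroup.Normal.conj_mem (inferInstance : N.Normal) x h1 c⁻¹
          simpa using this
        · intro t ht
          have ht' : c * t * c⁻¹ ∈ T := by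
            rw [hc, mem_conj_smul]
            have : c⁻¹ * (c * t * c⁻¹) * c = t := by group
            rw [this]; exact ht
          have h3 := h2 _ ht'
          have h4 : t * (c⁻¹ * x * c) = c⁻¹ * (c * t * c⁻¹ * x) * c := by group
          have h5 : c⁻¹ * x * c * t = c⁻¹ * (x * (c * t * c⁻¹)) * c := by group
          rw [h4, h5, h3]
      · rintro ⟨h1, h2⟩
        constructor
        · have := Subgroup.Normal.conj_mem (inferInstance : N.Normal) _ h1 c
          have h3 : c * (c⁻¹ * x * c) * c⁻¹ = x := by group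
          rwa [h3] at this
        · intro t ht
          have ht' : c⁻¹ * t * c ∈ T0 := by
            have : t ∈ T := ht
            rw [hc, mem_conj_smul] at this
            exact this
          have h3 := h2 _ ht'
          have h4 : t * x = c * (c⁻¹ * t * c * (c⁻¹ * x * c)) * c⁻¹ := by group
          have h5 : x * t = c * (c⁻¹ * x * c * (c⁻¹ * t * c)) * c⁻¹ := by group
          rw [h4, h5, h3]
    rw [heq]
    exact (Nat.card_congr (Subgroup.equivSMul (MulAut.conj c) _).toEquiv).symm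
  -- first count: the fibre
  have hZ1 : Nat.card {x : G // QuotientGroup.mk' N x = b ∧ InSub p H x} =
      Nat.card (N ⊓ Subgroup.centralizer (T0 : Set G) : Subgroup G) * Nat.card 𝒯 := by
    apply card_of_fibers (fun x : G => cl H x) (fun x => QuotientGroup.mk' N x = b ∧ InSub p H x) 𝒯
    · rintro x ⟨hx, hS⟩
      exact hcl x hx hS
    · intro T hT
      rw [← hk T hT, ← hcount T hT]
      apply Nat.card_congr
      apply Equiv.subtypeEquivRight
      intro x
      constructor
      · rintro ⟨h1, h2, -⟩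
        refine ⟨h2, ?_⟩
        have := mem_normalizer_cl H x
        rwa [h1] at this
      · rintro ⟨h1, h2⟩
        exact ⟨huniq T hT x h1 h2, h1, ⟨T, hT.1, hT.2.1, h2⟩⟩
  -- second count: `C_N(H)`
  have hZ2 : Nat.card (N ⊓ Subgroup.centralizer (H : Set G) : Subgroup G) =
      Nat.card (N ⊓ Subgroup.centralizer (T0 : Set G) : Subgroup G) * Nat.card 𝒯 := by
    have h0 : Nat.card (N ⊓ Subgroup.centralizer (H : Set G) : Subgroup G) =
        Nat.card {c : G // c ∈ (N ⊓ Subgroup.centralizer (H : Set G) : Subgroup G)} := rfl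
    rw [h0]
    apply card_of_fibers (fun c : G => MulAut.conj c • T0)
      (fun c => c ∈ (N ⊓ Subgroup.centralizer (H : Set G) : Subgroup G)) 𝒯
    · intro c hc
      rw [Subgroup.mem_inf, Subgroup.mem_centralizer_iff] at hc
      obtain ⟨hcN, hcH⟩ := hc
      refine ⟨hT0p.of_equiv (Subgroup.equivSMul (MulAut.conj c) T0), ?_, ?_⟩
      · intro h hh
        rw [mem_conj_smul]
        have h1 := hcH h hh
        have h2 : c⁻¹ * h * c = c⁻¹ * (h * c) := by group
        rw [h2, h1]
        have h3 : c⁻¹ * (c * h) = h := by group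
        rw [h3]
        exact hHT0 hh
      · have hc1 : QuotientGroup.mk' N c = 1 := (QuotientGroup.eq_one_iff c).mpr hcN
        show (MulAut.conj c • T0).map (QuotientGroup.mk' N) = Wb
        rw [map_conj_smul, hc1, map_one, one_smul, hT0m]
    · intro T hT
      obtain ⟨c1, hc1, hc1T⟩ := htrans T0 hT0 T hT
      apply card_coset_like _ _ c1
      intro c
      have hcent : Subgroup.centralizer (T0 : Set G) ≤ Subgroup.centralizer (H : Set G) :=
        Subgroup.centralizer_le hHT0
      constructor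
      · rintro ⟨h1, h2⟩
        have h3 : c1⁻¹ * c ∈ (N ⊓ Subgroup.centralizer (H : Set G) : Subgroup G) :=
          Subgroup.mul_mem _ (Subgroup.inv_mem _ hc1) h2
        have h4 : c1⁻¹ * c ∈ Subgroup.normalizer (T0 : Set G) := by
          apply mem_normalizer_of_conj_smul_le
          have h1' : MulAut.conj c • T0 = T := h1
          rw [map_mul, mul_smul, h1', hc1T, ← mul_smul, map_inv, inv_mul_cancel, one_smul]
        have h5 : c1⁻¹ * c ∈ N ⊓ Subgroup.normalizer (T0 : Set G) :=
          Subgroup.mem_inf.mpr ⟨(Subgroup.mem_inf.mp h3).1, h4⟩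
        rwa [inf_normalizer_eq_inf_centralizer N hN hT0p] at h5
      · intro h
        have hN' : c1⁻¹ * c ∈ N := (Subgroup.mem_inf.mp h).1
        have hC' : c1⁻¹ * c ∈ Subgroup.centralizer (T0 : Set G) := (Subgroup.mem_inf.mp h).2
        have hc : c = c1 * (c1⁻¹ * c) := by group
        constructor
        · show MulAut.conj c • T0 = T
          rw [hc, map_mul, mul_smul,
            conj_smul_eq_of_mem_normalizer (Subgroup.centralizer_le_normalizer _ hC'), hc1T]
        · rw [hc]
          exact Subgroup.mul_mem _ hc1 (Subgroup.mem_inf.mpr ⟨hN', hcent hC'⟩)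
  rw [hZ1, hZ2]

theorem card_inSub_of_coprime_normal {p : ℕ} [Fact p.Prime] (hN : (Nat.card N).Coprime p)
    (H : Subgroup G) (hH : IsPGroup p H) :
    Nat.card {g : G // InSub p H g} =
      Nat.card (N ⊓ Subgroup.centralizer (H : Set G) : Subgroup G) *
        Nat.card {b : G ⧸ N // InSub p (H.map (QuotientGroup.mk' N)) b} := by
  have := card_of_fibers (QuotientGroup.mk' N) (fun g => InSub p H g)
    {b : G ⧸ N | InSub p (H.map (QuotientGroup.mk' N)) b}
    (Nat.card (N ⊓ Subgroup.centralizer (H : Set G) : Subgroup G))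
    (fun x hx => hx.map _) (fun b hb => card_fiber_inSub N hN H hH b hb)
  exact this


end quot

end Cfsg.Agent.Lib.Helper68.Subn
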