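import Mathlib
import Cfsg.Agent.S1403
import Cfsg.Agent.S1410
import Cfsg.Agent.S1411
import Cfsg.Agent.S1412
import Cfsg.Agent.Lib.Helper68.BG108
import Cfsg.Agent.Lib.Helper68.BGElevenFinal

/-!
# Bender–Glauberman §11, unconditional (for a minimal simple group of odd order)

`exc_normal_result` (Theorem 11.5) and `sec11_result : Helper21.Sec11 G`, with the hypotheses of
`BGElevenFinal` discharged by the landed statements S1403, S1410, S1411, S1412.
-/

set_option autoImplicit false

namespace Cfsg.Agent.Lib.Helper68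

open Cfsg
open Cfsg.Agent.Lib.Helper54 (IsExceptional)
open Cfsg.Agent.Lib.Helper34 (UniquenessThm)

variable {G : Type*} [Group G] [Finite G]

theorem uniquenessThm_result (hG : IsMinSimpleOddOrder G) : UniquenessThm G :=
  fun K hK h1 h3 => Cfsg.Agent.S1403.result hG K hK h1 h3

theorem pLength_result (hG : IsMinSimpleOddOrder G) :
    ∀ (r : ℕ) [Fact r.Prime] (H : Subgroup G), H ≠ ⊤ → PLengthLE r 1 H :=
  fun r _ H hH => Cfsg.Agent.S1410.result hG r H hH

theorem sylow_le_commutator_result (hG : IsMinSimpleOddOrder G) :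
    ∀ (r : ℕ) [Fact r.Prime] (P : Sylow r G), (P : Subgroup G) ≤
      ⁅Subgroup.normalizer ((P : Subgroup G) : Set G),
        Subgroup.normalizer ((P : Subgroup G) : Set G)⁆ := by
  intro r _ P
  obtain ⟨V, hV⟩ := exists_isComplIn_sylow_normalizer P
  exact (Cfsg.Agent.S1411.result hG r P V hV).2

theorem s1412Stmt_result (hG : IsMinSimpleOddOrder G) :
    ∀ (r : ℕ) [Fact r.Prime], Cfsg.Agent.Lib.Helper55.BGEleven.S1412Stmt G r :=
  fun r _ S hr => Cfsg.Agent.S1412.result hG r S hr

/-- **Bender–Glauberman Theorem 11.5.** -/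
theorem exc_normal_result (hG : IsMinSimpleOddOrder G) (M : Subgroup G) (p : ℕ) [Fact p.Prime]
    (A₀ A : Subgroup G) (hexc : IsExceptional M p A₀ A) :
    M ≤ Subgroup.normalizer ((sigmaCore M ⊔ A : Subgroup G) : Set G) :=
  exc_normal hG (uniquenessThm_result hG) (pLength_result hG) (sylow_le_commutator_result hG)
    (s1412Stmt_result hG) M p A₀ A hexc

/-- helper21's §11 package, unconditional. -/
theorem sec11_result (hG : IsMinSimpleOddOrder G) : Cfsg.Agent.Lib.Helper21.Sec11 G :=
  sec11 hG (uniquenessThm_result hG) (pLength_result hG) (sylow_le_commutator_result hG)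
    (s1412Stmt_result hG)

end Cfsg.Agent.Lib.Helper68
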