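import Mathlib
import Cfsg.Prelude.Def_Amalgam
import Cfsg.Agent.Lib.Helper68.AmalBDefs
import Cfsg.Agent.Lib.Helper68.AmalBTools
import Cfsg.Agent.Lib.Helper19.AmalBP2a
import Cfsg.Agent.Lib.Helper19.AmalBP2b
import Cfsg.Agent.Lib.Helper19.AmalBP2c
import Cfsg.Agent.Lib.Helper7.AmalBP3
import Cfsg.Agent.Lib.Helper98.AmalBCrit
import Cfsg.Agent.Lib.Helper43.AmalBFix
import Cfsg.Agent.Lib.Helper30.AmalBAllCrit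
import Cfsg.Agent.Lib.Helper98.AmalBB2V
import Cfsg.Agent.Lib.Helper39.AmalBB2Exact
import Cfsg.Agent.Lib.Helper30.AmalBB2F8
import Cfsg.Agent.Lib.Helper98.AmalBFbQa
import Cfsg.Agent.Lib.Helper25.AmalBB2I
import Cfsg.Agent.Lib.Helper95.AmalBB2D
import Cfsg.Agent.Lib.Helper47.AmalBCntOf
import Cfsg.Agent.Lib.Helper19.AmalBEvenI
import Cfsg.Agent.Lib.Helper19.AmalBEvenII
import Cfsg.Agent.Lib.Helper92.AmalBEvenIII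
import Cfsg.Agent.Lib.Helper52.AmalBArc1
import Cfsg.Agent.Lib.Helper7.AmalBArc2
import Cfsg.Agent.Lib.Helper43.AmalBZero
import Cfsg.Agent.Lib.Helper11.AmalBCC

/-!
# S2751 (helper68): the landed GSB modules, collected; the exact-name wrappers still missing

One import chain only (helper19's P2a/b/c, helper7's P3).  The wrappers below carry the
suffix `68`, so that they cannot collide with a copy of the sheet name landed elsewhere.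
-/

set_option autoImplicit false

namespace Cfsg.Agent.Lib.Helper68.AmalB

open Cfsg Cfsg.Agent.Lib.Helper12.Amal Cfsg.Agent.Lib.Helper68.AmalD Cfsg.Agent.Lib.Helper68.AmalW

variable {G : Type*} [Group G] {P₁ P₂ : Subgroup G}

/-- **[B2-I]** `F_{y₁} ∩ F_{y₂} ∩ F_{y₃} = 1` -/
theorem b2_F_inf_eq_bot68 (hB : BaseB P₁ P₂) (hall : AllCrit2 P₁ P₂)
    {x y₁ y₂ y₃ : CosetVertex P₁ P₂} (hx : ¬ IsB x)
    (h₁ : (cosetGraph P₁ P₂).Adj x y₁) (h₂ : (cosetGraph P₁ P₂).Adj x y₂)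
    (h₃ : (cosetGraph P₁ P₂).Adj x y₃) (h₁₂ : y₁ ≠ y₂) (h₁₃ : y₁ ≠ y₃) (h₂₃ : y₂ ≠ y₃) :
    Fb y₁ ⊓ Fb y₂ ⊓ Fb y₃ = ⊥ :=
  H25.b2_F_inf_eq_bot_of hB (Fb_le_Qa hB) (H7.Za_le_Qb hB) (eq_bot_of_centralized hB) hall hx
    h₁ h₂ h₃ h₁₂ h₁₃ h₂₃

/-- **[B2-D]** -/
theorem b2_exists_d68 (hB : BaseB P₁ P₂) (hall : AllCrit2 P₁ P₂)
    {x y₁ y₂ y₃ : CosetVertex P₁ P₂} (hx : ¬ IsB x)
    (h₁ : (cosetGraph P₁ P₂).Adj x y₁) (h₂ : (cosetGraph P₁ P₂).Adj x y₂)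
    (h₃ : (cosetGraph P₁ P₂).Adj x y₃) (h₁₂ : y₁ ≠ y₂) (h₁₃ : y₁ ≠ y₃) (h₂₃ : y₂ ≠ y₃) :
    ∃ d ∈ Gv x, d • y₁ = y₂ ∧ d • y₂ = y₃ ∧ d • y₃ = y₁ ∧
      ∀ f ∈ F2 x, d * f * d⁻¹ * f⁻¹ ∈ Zv x :=
  H95.b2_exists_d_of hB (fun _ _ h hy => H7.Za_le_Qb hB h hy) hall hx h₁ h₂ h₃ h₁₂ h₁₃ h₂₃

/-- **[B2-CNT]** `|F_y| ≤ 8` -/
theorem b2_card_F_le68 (hB : BaseB P₁ P₂) (hall : AllCrit2 P₁ P₂)
    (hk : ∀ y : CosetVertex P₁ P₂, IsB y → Nat.card ↥(Zv y) = 2)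
    {x y : CosetVertex P₁ P₂} (hx : ¬ IsB x) (hxy : (cosetGraph P₁ P₂).Adj x y) :
    Nat.card ↥(Fb y) ≤ 8 :=
  H47Cnt.b2_card_F_le_of hB hall hk (Zb_le hB) (Za_card hB) (Za_fix_le hB) (H7.Za_le_Qb hB)
    (Fb_le_Qa hB) (b2_F_inf_eq_bot68 hB hall) (H39.b2_A1 hB hall) (b2_exists_d68 hB hall) hx hxy

end Cfsg.Agent.Lib.Helper68.AmalB
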