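import Mathlib
import Cfsg.Prelude.Def_Amalgam
import Cfsg.Agent.Lib.Helper68.AmalBDefs
import Cfsg.Agent.Lib.Helper68.AmalBTools
import Cfsg.Agent.Lib.Helper68.AmalBMods

/-!
# S2751, case (B) (helper68): even critical distance `b ≥ 4` is impossible (assembly)

Modules used: [BE-I] `even_comm`, [BE-II] `even_shift`, [BE-III] `even_exists_s`,
[BE-ARC1] `arcTrans_one`, [BE-ARC2] `arcTrans_succ`.
-/

set_option autoImplicit false

namespace Cfsg.Agent.Lib.Helper68.AmalB

open Cfsg Cfsg.Agent.Lib.Helper12.Amal Cfsg.Agent.Lib.Helper68.AmalD Cfsg.Agent.Lib.Helper68.AmalW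

variable {G : Type*} [Group G] {P₁ P₂ : Subgroup G}

/-- `ArcTrans` only depends on the truth value of `ty` -/
theorem ArcTrans.congr {n : ℕ} {ty ty' : Prop} (h : ty ↔ ty') (hT : ArcTrans P₁ P₂ n ty) :
    ArcTrans P₁ P₂ n ty' := by
  intro p q hp hq h1 h2
  exact hT p q hp hq (h1.trans h.symm) (h2.trans h.symm)

/-- the tail of a walk -/
theorem IsWalk.tail {n : ℕ} {p : ℕ → CosetVertex P₁ P₂} (hp : IsWalk n p) {k : ℕ} (hk : k ≤ n) :
    IsWalk (n - k) (fun i => p (k + i)) := by
  intro i hi
  have := hp (k + i) (by omega)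
  rwa [add_assoc] at this

/-- the tail of an arc -/
theorem IsArc.tail {n : ℕ} {p : ℕ → CosetVertex P₁ P₂} (hp : IsArc n p) {k : ℕ} (hk : k ≤ n) :
    IsArc (n - k) (fun i => p (k + i)) := by
  refine ⟨hp.1.tail hk, ?_⟩
  intro i hi
  have := hp.2 (k + i) (by omega)
  rwa [add_assoc] at this

/-- the tail of an extendable arc -/
theorem IsExt.tail {n : ℕ} {p : ℕ → CosetVertex P₁ P₂} (hp : IsExt n p) {k : ℕ} (hk : k ≤ n) :
    IsExt (n - k) (fun i => p (k + i)) := by
  obtain ⟨ha, g, hg, y, hy, hgy⟩ := hp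
  refine ⟨ha.tail hk, g, ?_, y, ?_, hgy⟩
  · intro i hi
    exact hg (k + i) (by omega)
  · have e : k + (n - k) = n := by omega
    show (cosetGraph P₁ P₂).Adj (p (k + (n - k))) y
    rw [e]
    exact hy

/-- an initial piece of a walk -/
theorem IsWalk.init {n : ℕ} {p : ℕ → CosetVertex P₁ P₂} (hp : IsWalk n p) {m : ℕ} (hm : m ≤ n) :
    IsWalk m p := fun i hi => hp i (by omega)

/-- an initial piece of an arc -/
theorem IsArc.init {n : ℕ} {p : ℕ → CosetVertex P₁ P₂} (hp : IsArc n p) {m : ℕ} (hm : m ≤ n) :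
    IsArc m p := ⟨hp.1.init hm, fun i hi => hp.2 i (by omega)⟩

/-- an element of `Z_{p 0}` outside `Q_{p n}`, where `Z_{p 0} ≤ Q_{p i}` for `i < n`, makes the
arc `p` extendable -/
theorem isExt_of_not_le (hW : BaseW P₁ P₂) {n : ℕ} (hn : 1 ≤ n) {p : ℕ → CosetVertex P₁ P₂}
    (hp : IsArc n p) (hle : ∀ i < n, Zv (p 0) ≤ Qv (p i)) (hc : ¬ Zv (p 0) ≤ Qv (p n)) :
    IsExt n p := by
  obtain ⟨t, ht, htQ⟩ := SetLike.not_le_iff_exists.1 hc
  have hfix : FixesUpTo n p t := by
    intro i hi
    rcases Nat.eq_zero_or_pos i with rfl | hpos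
    · exact MulAction.mem_stabilizer_iff.1 (Q_le_G hW _ (hle 0 (by omega) ht))
    · have h1 : t ∈ Qv (p (i - 1)) := hle (i - 1) (by omega) ht
      have h2 := ((hW.Q_iff _ _).1 h1).2 (p i) (by
        have := hp.1 (i - 1) (by omega)
        have e : i - 1 + 1 = i := by omega
        rwa [e] at this)
      exact h2
  refine ⟨hp, t, hfix, ?_⟩
  by_contra hcon
  push Not at hcon
  apply htQ
  rw [hW.Q_iff]
  exact ⟨MulAction.mem_stabilizer_iff.2 (hfix n le_rfl), hcon⟩

/-- **even `b ≥ 4` is impossible** -/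
theorem even_ge4_false (hB : BaseB P₁ P₂) {b : ℕ} (hb : 4 ≤ b) (hmin : MinB P₁ P₂ b)
    {p : ℕ → CosetVertex P₁ P₂} (hp : IsWalk b p) (h0 : ¬ IsB (p 0)) (hb' : ¬ IsB (p b))
    (hc : ¬ Zv (p 0) ≤ Qv (p b)) : False := by
  have hW := hB.W
  -- `p` is a geodesic, in particular an arc
  have hdist : b ≤ (cosetGraph P₁ P₂).dist (p 0) (p b) := hmin _ _ hc
  have hparc : IsArc b p := by
    refine ⟨hp, ?_⟩
    intro i hi heq
    have h1 := dist_walk_le hW hp (Nat.zero_le i) (by omega)
    have h2 := dist_walk_le hW hp (show i + 2 ≤ b from hi) le_rfl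
    have h3 := hW.conn.dist_triangle (u := p 0) (v := p i) (w := p b)
    rw [← heq] at h2
    omega
  -- types
  have hb1 : IsB (p (b - 1)) := by
    have := hB.adj_type _ _ (hp (b - 1) (by omega))
    have e : b - 1 + 1 = b := by omega
    rw [e] at this
    by_contra hcon
    exact hb' (by tauto)
  have hb2 : ¬ IsB (p (b - 2)) := by
    have := hB.adj_type _ _ (hp (b - 2) (by omega))
    have e : b - 2 + 1 = b - 1 := by omega
    rw [e] at this
    tauto
  -- the vertices `μ`, `s`
  obtain ⟨μ, s, hμ, hμ1, hs, hs0, hsc⟩ := even_exists_s hB hb hmin hp h0 hb' hc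
  have hshift : Zv s ≤ Qv (p (b - 2)) := even_shift hB hb hmin hp h0 hb' hc hμ hμ1 hs
  -- the arc `a = (s, μ, p 0, …, p (b-1))`
  set a : ℕ → CosetVertex P₁ P₂ := fun i => if i = 0 then s else if i = 1 then μ else p (i - 2)
    with ha
  have a0 : a 0 = s := by simp [ha]
  have a1 : a 1 = μ := by simp [ha]
  have a2 : ∀ i, 2 ≤ i → a i = p (i - 2) := by
    intro i hi
    have h1 : i ≠ 0 := by omega
    have h2 : i ≠ 1 := by omega
    simp [ha, h1, h2]
  have hawalk : IsWalk (b + 1) a := by
    intro i hi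
    rcases Nat.lt_or_ge i 2 with h | h
    · interval_cases i
      · rw [a0, a1]; exact hs.symm
      · rw [a1, a2 2 le_rfl]; exact hμ.symm
    · rw [a2 i h, a2 (i + 1) (by omega)]
      have := hp (i - 2) (by omega)
      have e : i - 2 + 1 = i + 1 - 2 := by omega
      rwa [e] at this
  have haarc : IsArc (b + 1) a := by
    refine ⟨hawalk, ?_⟩
    intro i hi
    rcases Nat.lt_or_ge i 2 with h | h
    · interval_cases i
      · rw [a0, a2 2 le_rfl]; exact hs0
      · rw [a1, a2 3 (by omega)]; exact hμ1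
    · rw [a2 i h, a2 (i + 2) (by omega)]
      have := hparc.2 (i - 2) (by omega)
      have e : i - 2 + 2 = i + 2 - 2 := by omega
      rwa [e] at this
  -- `a` is extendable
  have haext : IsExt (b + 1) a := by
    apply isExt_of_not_le hW (by omega) haarc
    · intro i hi
      rw [a0]
      rcases Nat.lt_or_ge i b with h | h
      · have h1 := dist_walk_le hW hawalk (Nat.zero_le i) (by omega)
        rw [a0] at h1
        exact hmin.le (by omega)
      · have e : i = b := by omega
        subst e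
        rw [a2 i (by omega)]
        exact hshift
    · rw [a0, a2 (b + 1) (by omega)]
      have e : b + 1 - 2 = b - 1 := by omega
      rw [e]
      exact hsc
  -- `p` is extendable
  have hpext : IsExt b p := by
    apply isExt_of_not_le hW (by omega) hparc
    · intro i hi
      have h1 := dist_walk_le hW hp (Nat.zero_le i) (by omega)
      exact hmin.le (by omega)
    · exact hc
  -- transitivity on `j`-arcs for `j ≤ b`
  have key : ∀ j, 1 ≤ j → j ≤ b → ArcTrans P₁ P₂ j True ∧ ArcTrans P₁ P₂ j False := by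
    intro j hj1
    induction j, hj1 using Nat.le_induction with
    | base => intro _; exact ⟨arcTrans_one_h52 hB True, arcTrans_one_h52 hB False⟩
    | succ j hj1 ih =>
      intro hjb
      obtain ⟨hT, hF⟩ := ih (by omega)
      constructor
      · -- from the tails of `p`
        have hext := hpext.tail (show b - j ≤ b by omega)
        have e : b - (b - j) = j := by omega
        rw [e] at hext
        have h1 := H7.arcTrans_succ hB hj1 hF ⟨_, hext, by
          show IsB (p (b - j + j)) ↔ False
          have e2 : b - j + j = b := by omega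
          rw [e2]
          exact iff_false_intro hb'⟩
        exact h1.congr (by tauto)
      · -- from the tails of `a`
        have hext := haext.tail (show b + 1 - j ≤ b + 1 by omega)
        have e : b + 1 - (b + 1 - j) = j := by omega
        rw [e] at hext
        have h1 := H7.arcTrans_succ hB hj1 hT ⟨_, hext, by
          show IsB (a (b + 1 - j + j)) ↔ True
          have e2 : b + 1 - j + j = b + 1 := by omega
          rw [e2, a2 (b + 1) (by omega)]
          have e3 : b + 1 - 2 = b - 1 := by omega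
          rw [e3]
          exact iff_true_intro hb1⟩
        exact h1.congr (by tauto)
  obtain ⟨-, hF⟩ := key b (by omega) le_rfl
  -- the two `b`-arcs
  have hab : a b = p (b - 2) := a2 b (by omega)
  obtain ⟨g, hg⟩ := hF p a hparc (haarc.init (by omega)) (iff_false_intro hb')
    (by rw [hab]; exact iff_false_intro hb2)
  have h0' := hg 0 (by omega)
  have hb0 := hg b le_rfl
  rw [a0] at h0'
  rw [hab] at hb0
  apply hc
  have h1 : (Zv (p 0)).map (MulAut.conj g).toMonoidHom ≤ (Qv (p b)).map (MulAut.conj g).toMonoidHom := by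
    rw [← hW.smul_Z, ← hW.smul_Q, h0', hb0]
    exact hshift
  intro z hz
  obtain ⟨q, hq, hqz⟩ := h1 (conj_mem_map g hz)
  have : q = z := (MulAut.conj g).injective hqz
  rwa [← this]

end Cfsg.Agent.Lib.Helper68.AmalB
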