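import Mathlib
import Cfsg.Prelude.Def_Amalgam
import Cfsg.Agent.Lib.Helper46.CosetGraph
import Cfsg.Agent.Lib.Helper68.AmalBDefs
import Cfsg.Agent.Lib.Helper68.AmalBTools
import Cfsg.Agent.Lib.Helper68.AmalBMods
import Cfsg.Agent.Lib.Helper68.AmalBEven

/-!
# S2751, case (B) (helper68): assembly of case (B) from the even part and the odd part
-/

set_option autoImplicit false

namespace Cfsg.Agent.Lib.Helper68.AmalB

open Cfsg Cfsg.Agent.Lib.Helper12.Amal Cfsg.Agent.Lib.Helper68.AmalD Cfsg.Agent.Lib.Helper68.AmalW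
open Cfsg.Agent.Lib.Helper46

variable {G : Type*} [Group G] {P₁ P₂ : Subgroup G}

/-- a walk of length `dist x y` from `x` to `y` -/
theorem exists_walk (hW : BaseW P₁ P₂) (x y : CosetVertex P₁ P₂) :
    ∃ p : ℕ → CosetVertex P₁ P₂, IsWalk ((cosetGraph P₁ P₂).dist x y) p ∧ p 0 = x ∧
      p ((cosetGraph P₁ P₂).dist x y) = y := by
  obtain ⟨w, hw⟩ := (hW.conn.preconnected x y).exists_walk_length_eq_dist
  refine ⟨fun i => w.getVert i, ?_, ?_, ?_⟩
  · intro i hi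
    exact w.adj_getVert_succ (by omega)
  · simp
  · show w.getVert _ = y
    rw [← hw]
    exact w.getVert_length

/-- every vertex has a neighbour -/
theorem exists_nbr (hW : BaseW P₁ P₂) (x : CosetVertex P₁ P₂) :
    ∃ y, (cosetGraph P₁ P₂).Adj x y := by
  have h3 := hW.card_nbr x
  have hne : ((cosetGraph P₁ P₂).neighborSet x).Nonempty := by
    rw [← Set.ncard_pos (Set.finite_of_ncard_ne_zero (by omega))]
    omega
  obtain ⟨y, hy⟩ := hne
  exact ⟨y, hy⟩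

/-- `b = 2`: `|Q_y| ≤ 64` for every β-type vertex -/
theorem b2_card_Q (hB : BaseB P₁ P₂) {x₁ x₂ : CosetVertex P₁ P₂}
    (hc : CritPair P₁ P₂ 2 x₁ x₂) (h₁ : ¬ IsB x₁) (h₂ : ¬ IsB x₂) {y : CosetVertex P₁ P₂}
    (hy : IsB y) : Nat.card ↥(Qv y) ≤ 64 := by
  have hall := b2_allCrit hB hc h₁ h₂
  have hk : ∀ y : CosetVertex P₁ P₂, IsB y → Nat.card ↥(Zv y) = 2 :=
    fun y hy => H39.b2_card_Zb hB hall hy
  obtain ⟨x, hyx⟩ := exists_nbr hB.W y
  have hx : ¬ IsB x := ((hB.adj_type _ _ hyx).1 hy)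
  have h1 := b2_card_F_le68 hB hall hk hx hyx.symm
  have h2 := b2_card_Q_le hB hy
  omega

/-- the even part of case (B): both ends of the critical pair of α-type -/
theorem caseB_even (hB : BaseB P₁ P₂) {n : ℕ} (hn : 2 ≤ n) {x y : CosetVertex P₁ P₂}
    (hc : CritPair P₁ P₂ n x y) (hx : ¬ IsB x) (hy : ¬ IsB y) :
    ∃ v : CosetVertex P₁ P₂, Nat.card ↥(Qv v) ≤ 64 := by
  have hW := hB.W
  obtain ⟨p, hp, hp0, hpn⟩ := exists_walk hW x y
  rw [hc.dist] at hp hpn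
  have hmin : MinB P₁ P₂ n := minB_of_below hc.below
  rcases Nat.lt_or_ge n 4 with hlt | hge
  · have h23 : n = 2 ∨ n = 3 := by omega
    rcases h23 with rfl | rfl
    · obtain ⟨v, hv⟩ := exists_nbr hW x
      have hvB : IsB v := by
        have := hB.adj_type _ _ hv
        tauto
      exact ⟨v, b2_card_Q hB hc hx hy hvB⟩
    · exfalso
      have h3 := isB_walk hB hp (i := 3) le_rfl
      rw [hp0, hpn] at h3
      have : ¬ Even 3 := by decide
      tauto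
  · exfalso
    apply even_ge4_false hB hge hmin hp
    · rw [hp0]; exact hx
    · rw [hpn]; exact hy
    · rw [hp0, hpn]; exact hc.crit

/-- what helper12's odd part delivers -/
def OddStmt (P₁ P₂ : Subgroup G) : Prop :=
  ∀ (n : ℕ) (x y : CosetVertex P₁ P₂), 2 ≤ n → CritPair P₁ P₂ n x y → ¬ IsB x → IsB y →
    ∃ v : CosetVertex P₁ P₂, Nat.card ↥(Qv v) ≤ 64

/-- all `T_xy` have the order of `P₁ ⊓ P₂` -/
theorem card_edge (hW : BaseW P₁ P₂) {x y : CosetVertex P₁ P₂}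
    (hxy : (cosetGraph P₁ P₂).Adj x y) : Nat.card ↥(Gv x ⊓ Gv y) = Nat.card ↥(P₁ ⊓ P₂) := by
  have key : ∀ (g : G) (u v : CosetVertex P₁ P₂),
      Nat.card ↥(Gv (g • u) ⊓ Gv (g • v)) = Nat.card ↥(Gv u ⊓ Gv v) := by
    intro g u v
    rw [hW.smul_G, hW.smul_G, ← Subgroup.map_inf _ _ _ (MulAut.conj g).injective]
    exact (Nat.card_congr (Subgroup.equivMapOfInjective _ _ (MulAut.conj g).injective).toEquiv).symm
  have h0 : (cosetGraph P₁ P₂).Adj (Sum.inl ((1 : G) : G ⧸ P₁)) (Sum.inr ((1 : G) : G ⧸ P₂)) :=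
    cg_adj_inl_inr 1
  have e0 : Gv (Sum.inl ((1 : G) : G ⧸ P₁) : CosetVertex P₁ P₂) ⊓
      Gv (Sum.inr ((1 : G) : G ⧸ P₂) : CosetVertex P₁ P₂) = P₁ ⊓ P₂ := by
    show MulAction.stabilizer G _ ⊓ MulAction.stabilizer G _ = _
    rw [cg_stab_inl_one, cg_stab_inr_one]
  obtain ⟨g, hg | hg⟩ := hW.edge_trans _ _ _ _ h0 hxy
  · rw [← hg.1, ← hg.2, key, e0]
  · rw [← hg.1, ← hg.2, key, inf_comm, e0]

/-- `|T| = 2 |Q_v|` for every vertex -/
theorem card_T_eq (hW : BaseW P₁ P₂) (v : CosetVertex P₁ P₂) :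
    Nat.card ↥(P₁ ⊓ P₂) = 2 * Nat.card ↥(Qv v) := by
  obtain ⟨w, hw⟩ := exists_nbr hW v
  rw [← card_edge hW hw, hW.card_T v w hw]

/-- **case (B)** -/
theorem caseB (hB : BaseB P₁ P₂) (hodd : OddStmt P₁ P₂) : Nat.card ↥(P₁ ⊓ P₂) ≤ 128 := by
  obtain ⟨n, x, y, hn, hc, hx⟩ := exists_crit hB
  have h64 : ∃ v : CosetVertex P₁ P₂, Nat.card ↥(Qv v) ≤ 64 := by
    by_cases hy : IsB y
    · exact hodd n x y hn hc hx hy
    · exact caseB_even hB hn hc hx hy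
  obtain ⟨v, hv⟩ := h64
  rw [card_T_eq hB.W v]
  omega

end Cfsg.Agent.Lib.Helper68.AmalB
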