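import Mathlib
import Cfsg.Prelude.Def_Amalgam
import Cfsg.Agent.Lib.Helper12.AmalAsm
import Cfsg.Agent.Lib.Helper46.CosetGraph
import Cfsg.Agent.Lib.Helper46.Amalgam3
import Cfsg.Agent.Lib.Helper68.AmalBDefs
import Cfsg.Agent.Lib.Helper68.AmalBTools

/-!
# S2751, case (B) (helper68), module GSB-[BASE]: `BaseB` from `PairW` and the hypothesis that
`Ω₁Z(T)` is central in exactly one of `P₁`, `P₂`
-/

set_option autoImplicit false

namespace Cfsg.Agent.Lib.Helper68.AmalB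

open Cfsg Cfsg.Agent.Lib.Helper12.Amal Cfsg.Agent.Lib.Helper68.AmalD Cfsg.Agent.Lib.Helper68.AmalW
open Cfsg.Agent.Lib.Helper46

variable {G : Type*} [Group G] {P₁ P₂ : Subgroup G}

/-- `ω(φ T) ≤ φ ω(T)` -/
theorem omegaZ_map_ge (T : Subgroup G) (φ : G ≃* G) :
    omegaZ 2 (T.map φ.toMonoidHom) ≤ (omegaZ 2 T).map φ.toMonoidHom := by
  have h1 := omegaZ_map_le (p := 2) (T.map φ.toMonoidHom) φ.symm
  rw [map_symm_map] at h1
  have h2 := Subgroup.map_mono (f := φ.toMonoidHom) h1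
  rwa [map_map_symm] at h2

/-- `Z_P ≤ Z(P)` iff `P` centralizes `Ω₁Z(T)` -/
theorem central_iff {P T : Subgroup G} (l : LocW P T) :
    Zof P ≤ Subgroup.centralizer (P : Set G) ↔ P ≤ Subgroup.centralizer (ZT T : Set G) := by
  constructor
  · intro h g hg
    rw [Subgroup.mem_centralizer_iff]
    intro z hz
    have h1 := h (l.ZT_le_Z hz)
    rw [Subgroup.mem_centralizer_iff] at h1
    exact (h1 g hg).symm
  · intro h
    have := l.fin
    have : Fact (Nat.Prime 2) := ⟨Nat.prime_two⟩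
    have hle : Zof P ≤ ZT T := by
      show sylowCenterClosure 2 P ≤ _
      rw [sylowCenterClosure_le_iff]
      intro T' hT'
      obtain ⟨k, hk, rfl⟩ := isSylIn_conj l.isSylIn hT'
      refine (omegaZ_map_ge T (MulAut.conj k)).trans ?_
      rintro _ ⟨z, hz, rfl⟩
      have h1 := h hk
      rw [Subgroup.mem_centralizer_iff] at h1
      have h2 : z * k = k * z := h1 z hz
      have : (MulAut.conj k).toMonoidHom z = z := by
        show k * z * k⁻¹ = z
        rw [← h2]; group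
      rw [this]
      exact hz
    intro z hz
    rw [Subgroup.mem_centralizer_iff]
    intro g hg
    have h1 := h hg
    rw [Subgroup.mem_centralizer_iff] at h1
    exact (h1 z (hle hz)).symm

section

variable (h : PairW P₁ P₂ (P₁ ⊓ P₂))
include h

/-- `IsB x` in terms of an edge at `x` -/
theorem isB_iff_edge {x y : CosetVertex P₁ P₂} (hadj : (cosetGraph P₁ P₂).Adj x y) :
    IsB x ↔ Gv x ≤ Subgroup.centralizer (ZT (Gv x ⊓ Gv y) : Set G) :=
  central_iff (h.edge hadj).l₁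

/-- the type of the vertices `g P₁` -/
theorem isB_inl (g : G) :
    IsB (Sum.inl (g : G ⧸ P₁) : CosetVertex P₁ P₂) ↔
      P₁ ≤ Subgroup.centralizer (ZT (P₁ ⊓ P₂) : Set G) := by
  have hW := baseW_of_pairW h
  have e : (Sum.inl (g : G ⧸ P₁) : CosetVertex P₁ P₂) = g • Sum.inl ((1 : G) : G ⧸ P₁) := by
    rw [cg_smul_inl, mul_one]
  rw [e, IsB_smul hW]
  have h1 := isB_iff_edge h (cg_adj_inl_inr (M₁ := P₁) (M₂ := P₂) 1)
  rw [h1]
  show MulAction.stabilizer G _ ≤
    Subgroup.centralizer (ZT (MulAction.stabilizer G _ ⊓ MulAction.stabilizer G _) : Set G) ↔ _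
  rw [cg_stab_inl_one, cg_stab_inr_one]

/-- the type of the vertices `g P₂` -/
theorem isB_inr (g : G) :
    IsB (Sum.inr (g : G ⧸ P₂) : CosetVertex P₁ P₂) ↔
      P₂ ≤ Subgroup.centralizer (ZT (P₁ ⊓ P₂) : Set G) := by
  have hW := baseW_of_pairW h
  have e : (Sum.inr (g : G ⧸ P₂) : CosetVertex P₁ P₂) = g • Sum.inr ((1 : G) : G ⧸ P₂) := by
    rw [cg_smul_inr, mul_one]
  rw [e, IsB_smul hW]
  have h1 := isB_iff_edge h (cg_adj_inr_inl (M₁ := P₁) (M₂ := P₂) 1)
  rw [h1]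
  show MulAction.stabilizer G _ ≤
    Subgroup.centralizer (ZT (MulAction.stabilizer G _ ⊓ MulAction.stabilizer G _) : Set G) ↔ _
  rw [cg_stab_inl_one, cg_stab_inr_one, inf_comm]

/-- **GSB-[BASE]** the basic facts of case (B) -/
theorem baseB_of_pairW
    (hx : (P₁ ≤ Subgroup.centralizer (ZT (P₁ ⊓ P₂) : Set G) ∧
        ¬ P₂ ≤ Subgroup.centralizer (ZT (P₁ ⊓ P₂) : Set G)) ∨
      (¬ P₁ ≤ Subgroup.centralizer (ZT (P₁ ⊓ P₂) : Set G) ∧
        P₂ ≤ Subgroup.centralizer (ZT (P₁ ⊓ P₂) : Set G))) : BaseB P₁ P₂ := by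
  have hW := baseW_of_pairW h
  have hadjt : ∀ x y : CosetVertex P₁ P₂, (cosetGraph P₁ P₂).Adj x y → (IsB x ↔ ¬ IsB y) := by
    intro x y hadj
    rw [cg_adj_iff] at hadj
    rcases hadj with ⟨g, rfl, rfl⟩ | ⟨g, rfl, rfl⟩
    · rw [isB_inl h, isB_inr h]
      tauto
    · rw [isB_inl h, isB_inr h]
      tauto
  refine ⟨hW, hadjt, ?_, ?_⟩
  · intro x hxB
    obtain ⟨y, hadj⟩ := exists_adj x
    have l := (h.edge hadj).l₁
    have hact : ¬ Gv x ≤ Subgroup.centralizer (ZT (Gv x ⊓ Gv y) : Set G) := by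
      rw [← isB_iff_edge h hadj]
      exact hxB
    have L : Loc (Gv x) (Gv x ⊓ Gv y) := ⟨l.fin, l.le, l.syl, l.cent, l.quot, hact⟩
    exact L.facts.cent_Z_le_Q
  · intro x hbot
    obtain ⟨y, hadj⟩ := exists_adj x
    -- both `x` and `y` would be of β-type
    have hZ : ZT (Gv x ⊓ Gv y) = ⊥ := by
      rw [← hW.Z_inf x y hadj, hbot, bot_inf_eq]
    have hx1 : IsB x := by
      rw [isB_iff_edge h hadj, hZ]
      intro g _
      rw [Subgroup.mem_centralizer_iff]
      intro z hz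
      rw [SetLike.mem_coe, Subgroup.mem_bot] at hz
      rw [hz, one_mul, mul_one]
    have hy1 : IsB y := by
      rw [isB_iff_edge h hadj.symm, inf_comm, hZ]
      intro g _
      rw [Subgroup.mem_centralizer_iff]
      intro z hz
      rw [SetLike.mem_coe, Subgroup.mem_bot] at hz
      rw [hz, one_mul, mul_one]
    exact ((hadjt x y hadj).1 hx1) hy1

end

end Cfsg.Agent.Lib.Helper68.AmalB
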