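import Mathlib
import Cfsg.Agent.Lib.Helper68.SubnQuot

/-!
# Fixed points of commuting automorphisms of order `p` on a `q`-group (Wielandt's formula, as an
inequality)

`fixOf φ S` : the subgroup of `X` fixed by the operators `φ s`, `s ∈ S`.
Main result `wielandt_qgroup`.
-/

set_option autoImplicit false
open scoped BigOperators

namespace Cfsg.Agent.Lib.Helper68.AutFix

open Cfsg.Agent.Lib.Helper68.Subn

universe u v

section defs

variable {E : Type v} [Group E] {X : Type u} [Group X]

/-- Fixed points of a set of operators. -/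
def fixOf (φ : E →* MulAut X) (S : Set E) : Subgroup X where
  carrier := {x | ∀ s ∈ S, φ s x = x}
  mul_mem' := by
    intro a b ha hb s hs
    rw [map_mul, ha s hs, hb s hs]
  one_mem' := by intro s _; exact map_one _
  inv_mem' := by
    intro a ha s hs
    rw [map_inv, ha s hs]

theorem mem_fixOf {φ : E →* MulAut X} {S : Set E} {x : X} :
    x ∈ fixOf φ S ↔ ∀ s ∈ S, φ s x = x := Iff.rfl

/-- The stabilizer of a point. -/
def stabOf (φ : E →* MulAut X) (x : X) : Subgroup E where
  carrier := {s | φ s x = x}
  mul_mem' := by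
    intro a b ha hb
    show φ (a * b) x = x
    rw [map_mul, MulAut.mul_apply, hb, ha]
  one_mem' := by
    show φ 1 x = x
    rw [map_one]; rfl
  inv_mem' := by
    intro a ha
    show φ a⁻¹ x = x
    rw [map_inv]
    have h1 : (φ a)⁻¹ (φ a x) = x := by
      rw [← MulAut.mul_apply, inv_mul_cancel]; rfl
    rw [ha] at h1
    exact h1

theorem mem_stabOf {φ : E →* MulAut X} {x : X} {s : E} : s ∈ stabOf φ x ↔ φ s x = x := Iff.rfl

theorem fixOf_closure (φ : E →* MulAut X) (S : Set E) :
    fixOf φ (Subgroup.closure S : Set E) = fixOf φ S := by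
  apply le_antisymm
  · intro x hx s hs
    exact hx s (Subgroup.subset_closure hs)
  · intro x hx s hs
    have h1 : Subgroup.closure S ≤ stabOf φ x := by
      rw [Subgroup.closure_le]
      intro t ht
      exact hx t ht
    exact h1 hs

theorem map_mem_of_char (M : Subgroup X) [hM : M.Characteristic] (g : MulAut X) {m : X}
    (hm : m ∈ M) : g m ∈ M := by
  have h := Subgroup.characteristic_iff_le_comap.mp hM g
  exact h hm

/-- Restriction of automorphisms to a characteristic subgroup. -/
def resAut (M : Subgroup X) [M.Characteristic] : MulAut X →* MulAut M where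
  toFun g :=
    { toFun := fun m => ⟨g m.1, map_mem_of_char M g m.2⟩
      invFun := fun m => ⟨g⁻¹ m.1, map_mem_of_char M g⁻¹ m.2⟩
      left_inv := fun m => Subtype.ext (by simp)
      right_inv := fun m => Subtype.ext (by simp)
      map_mul' := fun a b => Subtype.ext (by simp) }
  map_one' := by ext; rfl
  map_mul' := by intro a b; ext; rfl

@[simp] theorem resAut_apply (M : Subgroup X) [M.Characteristic] (g : MulAut X) (m : M) :
    ((resAut M g) m : X) = g m.1 := rfl

theorem map_eq_of_char (M : Subgroup X) [hM : M.Characteristic] (g : MulAut X) :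
    M.map (g : X ≃* X).toMonoidHom = M :=
  Subgroup.characteristic_iff_map_eq.mp hM g

/-- Induced automorphisms on the quotient by a characteristic subgroup. -/
def quotAut (M : Subgroup X) [M.Characteristic] : MulAut X →* MulAut (X ⧸ M) where
  toFun g := QuotientGroup.congr M M g (map_eq_of_char M g)
  map_one' := by
    ext y
    obtain ⟨x, rfl⟩ := QuotientGroup.mk_surjective y
    rfl
  map_mul' := by
    intro a b
    ext y
    obtain ⟨x, rfl⟩ := QuotientGroup.mk_surjective y
    rfl

@[simp] theorem quotAut_mk (M : Subgroup X) [M.Characteristic] (g : MulAut X) (x : X) :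
    (quotAut M g) (QuotientGroup.mk x : X ⧸ M) = QuotientGroup.mk (g x) := rfl

end defs

section lift

variable {E : Type v} [Group E] {X : Type u} [Group X]

/-- The action of a subgroup of `E` on a coset of a characteristic subgroup fixed by it. -/
@[instance_reducible] def cosetAction (φ : E →* MulAut X) (M : Subgroup X) [M.Characteristic] (y : X ⧸ M)
    (B : Subgroup E) (hB : B ≤ stabOf ((quotAut M).comp φ) y) :
    MulAction B {x : X // (QuotientGroup.mk x : X ⧸ M) = y} where
  smul b x := ⟨φ b.1 x.1, by
    have h1 := hB b.2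
    rw [mem_stabOf] at h1
    calc (QuotientGroup.mk (φ b.1 x.1) : X ⧸ M) = quotAut M (φ b.1) (QuotientGroup.mk x.1) := rfl
      _ = quotAut M (φ b.1) y := by rw [x.2]
      _ = y := h1⟩
  one_smul x := Subtype.ext (by
    show φ ((1 : B) : E) x.1 = x.1
    rw [Subgroup.coe_one, map_one]; rfl)
  mul_smul a b x := Subtype.ext (by
    show φ ((a * b : B) : E) x.1 = φ a.1 (φ b.1 x.1)
    rw [Subgroup.coe_mul, map_mul]; rfl)

theorem card_fixOf_eq (p : ℕ) [Fact p.Prime] [Finite X] (hE : IsPGroup p E)
    (φ : E →* MulAut X) (M : Subgroup X) [M.Characteristic] (hM : (Nat.card M).Coprime p)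
    (S : Set E) :
    Nat.card (fixOf φ S) = Nat.card (fixOf ((resAut M).comp φ) S) *
      Nat.card (fixOf ((quotAut M).comp φ) S) := by
  have hp : p.Prime := Fact.out
  have hK : Nat.card (fixOf ((resAut M).comp φ) S) = Nat.card (fixOf φ S ⊓ M : Subgroup X) := by
    rw [← Subgroup.card_map_of_injective (f := M.subtype) M.subtype_injective]
    have : (fixOf ((resAut M).comp φ) S).map M.subtype = fixOf φ S ⊓ M := ?_
    · rw [this]
    ext x
    constructor
    · rintro ⟨m, hm, rfl⟩
      refine Subgroup.mem_inf.mpr ⟨?_, m.2⟩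
      intro s hs
      have := hm s hs
      exact congrArg Subtype.val this
    · intro hx
      obtain ⟨hx1, hx2⟩ := Subgroup.mem_inf.mp hx
      refine ⟨⟨x, hx2⟩, ?_, rfl⟩
      intro s hs
      exact Subtype.ext (hx1 s hs)
  have key := card_of_fibers (fun x : X => (QuotientGroup.mk x : X ⧸ M)) (fun x => x ∈ fixOf φ S)
    (fixOf ((quotAut M).comp φ) S : Set (X ⧸ M)) (Nat.card (fixOf φ S ⊓ M : Subgroup X)) ?_ ?_
  · rw [hK]
    exact key
  · intro x hx s hs
    show (quotAut M (φ s)) (QuotientGroup.mk x) = QuotientGroup.mk x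
    rw [quotAut_mk, hx s hs]
  · intro y hy
    -- a fixed point in the coset
    have hB : Subgroup.closure S ≤ stabOf ((quotAut M).comp φ) y := by
      rw [Subgroup.closure_le]
      intro s hs
      exact hy s hs
    let _ := cosetAction φ M y (Subgroup.closure S) hB
    have hcard : Nat.card {x : X // (QuotientGroup.mk x : X ⧸ M) = y} = Nat.card M := by
      obtain ⟨x1, rfl⟩ := QuotientGroup.mk_surjective y
      apply card_coset_like M _ x1
      intro x
      rw [eq_comm, QuotientGroup.eq]
    have hnd : ¬ p ∣ Nat.card {x : X // (QuotientGroup.mk x : X ⧸ M) = y} := by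
      rw [hcard]
      intro hd
      exact hp.one_lt.ne' (Nat.Coprime.eq_one_of_dvd hM.symm hd)
    obtain ⟨x0, hx0⟩ := (hE.to_subgroup (Subgroup.closure S)).nonempty_fixed_point_of_prime_not_dvd_card
      {x : X // (QuotientGroup.mk x : X ⧸ M) = y} hnd
    have hx0fix : x0.1 ∈ fixOf φ S := by
      intro s hs
      have := hx0 ⟨s, Subgroup.subset_closure hs⟩
      exact congrArg Subtype.val this
    apply card_coset_like (fixOf φ S ⊓ M) _ x0.1
    intro x
    rw [Subgroup.mem_inf]
    constructor
    · rintro ⟨h1, h2⟩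
      refine ⟨Subgroup.mul_mem _ (Subgroup.inv_mem _ hx0fix) h2, ?_⟩
      rw [← QuotientGroup.eq, x0.2, h1]
    · rintro ⟨h1, h2⟩
      constructor
      · rw [← x0.2, eq_comm, QuotientGroup.eq]
        exact h2
      · have := Subgroup.mul_mem _ hx0fix h1
        rwa [mul_inv_cancel_left] at this

end lift

section abelian

variable {E : Type v} [Group E] {X : Type u} [Group X]

theorem pow_fix {φ : E →* MulAut X} {s : E} {x : X} (h : φ s x = x) (t : ℕ) :
    φ (s ^ t) x = x := by
  have : s ^ t ∈ stabOf φ x := Subgroup.pow_mem _ h t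
  exact this

theorem prod_fix_le_comm (p : ℕ) [Fact p.Prime] (hEc : ∀ a b : E, a * b = b * a)
    (hEp : ∀ a : E, a ^ p = 1) {κ : Type} [Fintype κ] (e : Option κ → E)
    (he : ∀ j k, j ≠ k → Subgroup.closure {e j, e k} = ⊤)
    [Finite X] (hXc : ∀ a b : X, a * b = b * a) (hX : (Nat.card X).Coprime p)
    (φ : E →* MulAut X) :
    ∏ j, Nat.card (fixOf φ {e j}) ≤ Nat.card X * Nat.card (fixOf φ Set.univ) ^ Fintype.card κ := by
  classical
  let _ : CommGroup X := { ‹Group X› with mul_comm := hXc }
  -- the norm maps
  set Nm : Option κ → X → X := fun k x => ∏ t ∈ Finset.range p, φ (e k ^ t) x with hNm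
  have hNm_mul : ∀ k (s : Finset (Option κ)) (w : Option κ → X),
      Nm k (∏ j ∈ s, w j) = ∏ j ∈ s, Nm k (w j) := by
    intro k s w
    simp only [hNm]
    rw [Finset.prod_comm]
    apply Finset.prod_congr rfl
    intro t _
    rw [map_prod]
  have hNm_fix : ∀ k x, φ (e k) (Nm k x) = Nm k x := by
    intro k x
    simp only [hNm]
    rw [map_prod]
    have h1 : ∀ t, φ (e k) (φ (e k ^ t) x) = φ (e k ^ (t + 1)) x := by
      intro t
      rw [pow_succ', map_mul]; rfl
    simp only [h1]
    have h2 := Finset.prod_range_succ (fun t => φ (e k ^ t) x) p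
    have h3 := Finset.prod_range_succ' (fun t => φ (e k ^ t) x) p
    rw [h2] at h3
    simp only [hEp, pow_zero] at h3
    exact (mul_right_cancel h3).symm
  have hNm_comm : ∀ k (s : E) x, φ s x = x → φ s (Nm k x) = Nm k x := by
    intro k s x hx
    simp only [hNm]
    rw [map_prod]
    apply Finset.prod_congr rfl
    intro t _
    rw [← MulAut.mul_apply, ← map_mul, hEc, map_mul, MulAut.mul_apply, hx]
  have hNm_self : ∀ k x, φ (e k) x = x → Nm k x = x ^ p := by
    intro k x hx
    simp only [hNm]
    rw [Finset.prod_congr rfl (fun t _ => pow_fix hx t), Finset.prod_const, Finset.card_range]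
  have hD : ∀ j k, j ≠ k → ∀ y, φ (e j) y = y → φ (e k) y = y → y ∈ fixOf φ Set.univ := by
    intro j k hjk y h1 h2 s _
    have h3 : Subgroup.closure {e j, e k} ≤ stabOf φ y := by
      rw [Subgroup.closure_le]
      intro t ht
      rcases ht with rfl | rfl
      · exact h1
      · exact h2
    rw [he j k hjk] at h3
    exact h3 (Subgroup.mem_top s)
  -- the product map
  let Ψ : (∀ j, fixOf φ {e j}) →* X :=
    { toFun := fun v => ∏ j, (v j : X)
      map_one' := by simp
      map_mul' := by
        intro v w
        simp only [Pi.mul_apply, Subgroup.coe_mul]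
        exact Finset.prod_mul_distrib }
  have hker : ∀ v ∈ Ψ.ker, ∀ k, (v k : X) ∈ fixOf φ Set.univ := by
    intro v hv k
    have h1 : ∏ j, (v j : X) = 1 := hv
    have h2 : Nm k (∏ j ∈ Finset.univ, (v j : X)) = 1 := by
      rw [h1]
      simp only [hNm, map_one, Finset.prod_const_one]
    rw [hNm_mul, ← Finset.mul_prod_erase Finset.univ _ (Finset.mem_univ k)] at h2
    have h3 : ∏ j ∈ Finset.univ.erase k, Nm k (v j : X) ∈ fixOf φ Set.univ := by
      apply Subgroup.prod_mem
      intro j hj
      have hjk : j ≠ k := Finset.ne_of_mem_erase hj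
      have hvj : φ (e j) (v j : X) = (v j : X) := (v j).2 (e j) rfl
      exact hD j k hjk _ (hNm_comm k (e j) _ hvj) (hNm_fix k _)
    have hvk : φ (e k) (v k : X) = (v k : X) := (v k).2 (e k) rfl
    rw [hNm_self k _ hvk] at h2
    have h4 : (v k : X) ^ p ∈ fixOf φ Set.univ := by
      have : (v k : X) ^ p = (∏ j ∈ Finset.univ.erase k, Nm k (v j : X))⁻¹ :=
        eq_inv_of_mul_eq_one_left h2
      rw [this]
      exact Subgroup.inv_mem _ h3
    have h5 : p.Coprime (orderOf (v k : X)) :=
      Nat.Coprime.coprime_dvd_right (orderOf_dvd_natCard _) hX.symm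
    obtain ⟨m, hm⟩ := exists_pow_eq_self_of_coprime h5
    rw [← hm]
    exact Subgroup.pow_mem _ h4 m
  have h1 : Nat.card (∀ j, fixOf φ {e j}) = ∏ j, Nat.card (fixOf φ {e j}) := Nat.card_pi
  have h2 : Nat.card (∀ j, fixOf φ {e j}) = Nat.card Ψ.ker * Nat.card Ψ.range := by
    rw [← Subgroup.index_ker, Subgroup.card_mul_index]
  have h3 : Nat.card Ψ.range ≤ Nat.card X := Subgroup.card_le_card_group _
  have h4 : Nat.card Ψ.ker ≤ Nat.card (fixOf φ Set.univ) ^ Fintype.card κ := by
    rw [← Nat.card_eq_fintype_card, ← Nat.card_fun]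
    apply Nat.card_le_card_of_injective
      (fun v : Ψ.ker => fun i : κ => (⟨(v.1 (some i) : X), hker v.1 v.2 (some i)⟩ : fixOf φ Set.univ))
    intro v w hvw
    have h5 : ∀ i : κ, (v.1 (some i) : X) = (w.1 (some i) : X) := by
      intro i
      have := congrFun hvw i
      have h7 := congrArg (fun z : fixOf φ Set.univ => (z : X)) this
      exact h7
    have hv : ∏ j, (v.1 j : X) = 1 := v.2
    have hw : ∏ j, (w.1 j : X) = 1 := w.2
    rw [Fintype.prod_option] at hv hw
    have h6 : (v.1 none : X) = (w.1 none : X) := by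
      have e1 := eq_inv_of_mul_eq_one_left hv
      have e2 := eq_inv_of_mul_eq_one_left hw
      rw [e1, e2]
      congr 1
      exact Finset.prod_congr rfl (fun i _ => h5 i)
    apply Subtype.ext
    funext j
    apply Subtype.ext
    cases j with
    | none => exact h6
    | some i => exact h5 i
  rw [← h1, h2, mul_comm (Nat.card X)]
  exact Nat.mul_le_mul h4 h3

end abelian

section general

variable {E : Type v} [Group E]

theorem prod_fix_le (p : ℕ) [Fact p.Prime] (hEc : ∀ a b : E, a * b = b * a)
    (hEp : ∀ a : E, a ^ p = 1) {κ : Type} [Fintype κ] (e : Option κ → E)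
    (he : ∀ j k, j ≠ k → Subgroup.closure {e j, e k} = ⊤) (q : ℕ) [Fact q.Prime] :
    ∀ (n : ℕ) (X : Type u) [Group X] [Finite X], Nat.card X ≤ n → IsPGroup q X →
      (Nat.card X).Coprime p → ∀ φ : E →* MulAut X,
      ∏ j, Nat.card (fixOf φ {e j}) ≤
        Nat.card X * Nat.card (fixOf φ Set.univ) ^ Fintype.card κ := by
  have hEpg : IsPGroup p E := fun a => ⟨1, by rw [pow_one]; exact hEp a⟩
  intro n
  induction n with
  | zero =>
    intro X _ _ hn
    exact absurd hn (by have : 0 < Nat.card X := Nat.card_pos; omega)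
  | succ n ih =>
    intro X _ _ hn hq hX φ
    by_cases hnt : Nontrivial X
    · haveI := hnt
      set M : Subgroup X := Subgroup.center X with hMdef
      have hMnt : Nontrivial M := hq.center_nontrivial
      have hMcard : 1 < Nat.card M := Finite.one_lt_card
      have hcard : Nat.card X = Nat.card (X ⧸ M) * Nat.card M :=
        Subgroup.card_eq_card_quotient_mul_card_subgroup M
      have hQpos : 0 < Nat.card (X ⧸ M) := Nat.card_pos
      have hQlt : Nat.card (X ⧸ M) ≤ n := by
        have : Nat.card (X ⧸ M) * 2 ≤ Nat.card X := by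
          rw [hcard]; exact Nat.mul_le_mul_left _ hMcard
        omega
      have hMcop : (Nat.card M).Coprime p :=
        Nat.Coprime.coprime_dvd_left (Dvd.intro_left _ hcard.symm) hX
      have hQcop : (Nat.card (X ⧸ M)).Coprime p :=
        Nat.Coprime.coprime_dvd_left (Dvd.intro _ hcard.symm) hX
      have hMc : ∀ a b : M, a * b = b * a := by
        intro a b
        apply Subtype.ext
        have := (Subgroup.mem_center_iff.mp b.2) a.1
        simp only [Subgroup.coe_mul]
        exact this
      have hA := prod_fix_le_comm p hEc hEp e he hMc hMcop ((resAut M).comp φ)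
      have hB := ih (X ⧸ M) hQlt (hq.to_quotient M) hQcop ((quotAut M).comp φ)
      have hlift : ∀ S : Set E, Nat.card (fixOf φ S) =
          Nat.card (fixOf ((resAut M).comp φ) S) * Nat.card (fixOf ((quotAut M).comp φ) S) :=
        fun S => card_fixOf_eq p hEpg φ M hMcop S
      simp only [hlift, Finset.prod_mul_distrib, mul_pow]
      rw [hcard]
      calc _ ≤ (Nat.card M * Nat.card (fixOf ((resAut M).comp φ) Set.univ) ^ Fintype.card κ) *
            (Nat.card (X ⧸ M) * Nat.card (fixOf ((quotAut M).comp φ) Set.univ) ^ Fintype.card κ) :=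
            Nat.mul_le_mul hA hB
        _ = _ := by ring
    · rw [not_nontrivial_iff_subsingleton] at hnt
      haveI := hnt
      have h1 : ∀ H : Subgroup X, Nat.card H = 1 := fun H => Nat.card_of_subsingleton 1
      simp only [h1, Finset.prod_const_one, one_pow, mul_one]
      exact Nat.card_pos

end general

section application

variable {X : Type u} [Group X]

/-- The subgroup of points fixed by one automorphism. -/
def fixAut (g : MulAut X) : Subgroup X where
  carrier := {x | g x = x}
  mul_mem' := by
    intro a b ha hb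
    show g (a * b) = a * b
    rw [map_mul, ha, hb]
  one_mem' := map_one _
  inv_mem' := by
    intro a ha
    show g a⁻¹ = a⁻¹
    rw [map_inv, ha]

theorem mem_fixAut {g : MulAut X} {x : X} : x ∈ fixAut g ↔ g x = x := Iff.rfl

theorem wielandt_qgroup (p q : ℕ) [Fact p.Prime] [Fact q.Prime] [Finite X] (hXq : IsPGroup q X)
    (hX : (Nat.card X).Coprime p) (a b : MulAut X) (ha : a ^ p = 1) (hb : b ^ p = 1)
    (hab : a * b = b * a) :
    (∏ i ∈ Finset.range p, Nat.card (fixAut (a * b ^ i))) * Nat.card (fixAut b) ≤
      Nat.card X * Nat.card (fixAut a ⊓ fixAut b : Subgroup X) ^ p := by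
  have hp : p.Prime := Fact.out
  set E : Subgroup (MulAut X) := Subgroup.closure {a, b} with hE
  have haE : a ∈ E := Subgroup.subset_closure (by simp)
  have hbE : b ∈ E := Subgroup.subset_closure (by simp)
  have hcomm : ∀ x ∈ ({a, b} : Set (MulAut X)), ∀ y ∈ ({a, b} : Set (MulAut X)), x * y = y * x := by
    intro x hx y hy
    rcases hx with rfl | rfl <;> rcases hy with rfl | rfl
    · rfl
    · exact hab
    · exact hab.symm
    · rfl
  have hEc : ∀ x y : E, x * y = y * x := by
    intro x y
    have := Subgroup.isMulCommutative_closure hcomm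
    exact mul_comm' x y
  have hEp : ∀ x : E, x ^ p = 1 := by
    intro x
    apply Subtype.ext
    rw [Subgroup.coe_pow, Subgroup.coe_one]
    obtain ⟨x, hx⟩ := x
    show x ^ p = 1
    induction hx using Subgroup.closure_induction with
    | mem y hy =>
      rcases hy with rfl | rfl
      · exact ha
      · exact hb
    | one => exact one_pow p
    | mul y z hy hz ihy ihz =>
      have hc : y * z = z * y := congrArg Subtype.val (hEc ⟨y, hy⟩ ⟨z, hz⟩)
      rw [(show Commute y z from hc).mul_pow, ihy, ihz, one_mul]
    | inv y hy ihy => rw [inv_pow, ihy, inv_one]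
  let a' : E := ⟨a, haE⟩
  let b' : E := ⟨b, hbE⟩
  let e : Option (Fin p) → E := fun j => match j with
    | none => b'
    | some i => a' * b' ^ (i : ℕ)
  have htop : ∀ C : Subgroup E, a' ∈ C → b' ∈ C → C = ⊤ := by
    intro C h1 h2
    rw [eq_top_iff, ← Subgroup.closure_closure_coe_preimage (k := ({a, b} : Set (MulAut X))),
      Subgroup.closure_le]
    rintro ⟨y, hy⟩ hy2
    have hy3 : y ∈ ({a, b} : Set (MulAut X)) := hy2
    rcases hy3 with rfl | rfl
    · exact h1
    · exact h2
  have hb'p : b' ^ p = 1 := hEp b'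
  have hsome : ∀ i j : Fin p, (i : ℕ) < j → Subgroup.closure {e (some i), e (some j)} = ⊤ := by
    intro i j hij
    set C := Subgroup.closure {e (some i), e (some j)} with hC
    have h1 : a' * b' ^ (i : ℕ) ∈ C := Subgroup.subset_closure (by simp [e])
    have h2 : a' * b' ^ (j : ℕ) ∈ C := Subgroup.subset_closure (by simp [e])
    have h3 : b' ^ ((j : ℕ) - i) ∈ C := by
      have : b' ^ ((j : ℕ) - i) = (a' * b' ^ (i : ℕ))⁻¹ * (a' * b' ^ (j : ℕ)) := by
        have hj : (j : ℕ) = i + (j - i) := by omega
        conv_rhs => rw [hj, pow_add]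
        group
      rw [this]
      exact Subgroup.mul_mem _ (Subgroup.inv_mem _ h1) h2
    have h4 : ((j : ℕ) - i).Coprime (orderOf b') := by
      have h5 : ((j : ℕ) - i).Coprime p := by
        rw [Nat.coprime_comm, hp.coprime_iff_not_dvd]
        apply Nat.not_dvd_of_pos_of_lt
        · omega
        · have := j.2; omega
      exact Nat.Coprime.coprime_dvd_right (orderOf_dvd_of_pow_eq_one hb'p) h5
    obtain ⟨m, hm⟩ := exists_pow_eq_self_of_coprime h4
    have h6 : b' ∈ C := by
      rw [← hm]; exact Subgroup.pow_mem _ h3 m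
    have h7 : a' ∈ C := by
      have : a' = (a' * b' ^ (i : ℕ)) * (b' ^ (i : ℕ))⁻¹ := by group
      rw [this]
      exact Subgroup.mul_mem _ h1 (Subgroup.inv_mem _ (Subgroup.pow_mem _ h6 _))
    exact htop C h7 h6
  have hnone : ∀ i : Fin p, Subgroup.closure {e none, e (some i)} = ⊤ := by
    intro i
    set C := Subgroup.closure {e none, e (some i)} with hC
    have h1 : b' ∈ C := Subgroup.subset_closure (by simp [e])
    have h2 : a' * b' ^ (i : ℕ) ∈ C := Subgroup.subset_closure (by simp [e])
    have h7 : a' ∈ C := by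
      have : a' = (a' * b' ^ (i : ℕ)) * (b' ^ (i : ℕ))⁻¹ := by group
      rw [this]
      exact Subgroup.mul_mem _ h2 (Subgroup.inv_mem _ (Subgroup.pow_mem _ h1 _))
    exact htop C h7 h1
  have he : ∀ j k, j ≠ k → Subgroup.closure {e j, e k} = ⊤ := by
    intro j k hjk
    cases j with
    | none =>
      cases k with
      | none => exact absurd rfl hjk
      | some i => exact hnone i
    | some i =>
      cases k with
      | none => rw [Set.pair_comm]; exact hnone i
      | some j =>
        have hij : (i : ℕ) ≠ j := fun h => hjk (by rw [Fin.ext h])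
        rcases Nat.lt_or_gt_of_ne hij with h | h
        · exact hsome i j h
        · rw [Set.pair_comm]; exact hsome j i h
  have key := prod_fix_le p hEc hEp e he q (Nat.card X) X le_rfl hXq hX E.subtype
  have hfix1 : ∀ j, fixOf E.subtype {e j} = fixAut (e j).1 := by
    intro j
    ext x
    rw [mem_fixOf, mem_fixAut]
    constructor
    · intro h; exact h _ rfl
    · rintro h s rfl; exact h
  have hfix2 : fixOf E.subtype Set.univ = fixAut a ⊓ fixAut b := by
    ext x
    rw [mem_fixOf, Subgroup.mem_inf, mem_fixAut, mem_fixAut]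
    constructor
    · intro h
      exact ⟨h a' (Set.mem_univ _), h b' (Set.mem_univ _)⟩
    · rintro ⟨h1, h2⟩ s _
      have h3 : Subgroup.closure {a', b'} ≤ stabOf E.subtype x := by
        rw [Subgroup.closure_le]
        intro t ht
        rcases ht with rfl | rfl
        · exact h1
        · exact h2
      have h4 : Subgroup.closure {a', b'} = ⊤ :=
        htop _ (Subgroup.subset_closure (by simp)) (Subgroup.subset_closure (by simp))
      rw [h4] at h3
      exact h3 (Subgroup.mem_top s)
  simp only [hfix1, hfix2, Fintype.prod_option, Fintype.card_fin] at key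
  rw [mul_comm, ← Fin.prod_univ_eq_prod_range (fun i => Nat.card (fixAut (a * b ^ i))) p]
  exact key

end application

end Cfsg.Agent.Lib.Helper68.AutFix
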