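import Mathlib

/-!
# Counting automorphism orbits (helper68, for S4081)
-/

set_option autoImplicit false

namespace Cfsg.Agent.Lib.Helper68

variable {G : Type*} [Group G]

/-- `a` and `b` lie in the same `Aut(G)`-orbit. -/
def AutRel (a b : G) : Prop := ∃ α : MulAut G, α a = b

theorem AutRel.refl (a : G) : AutRel a a := ⟨1, rfl⟩

theorem AutRel.symm {a b : G} (h : AutRel a b) : AutRel b a := by
  obtain ⟨α, rfl⟩ := h
  exact ⟨α⁻¹, by simp⟩

theorem AutRel.trans {a b c : G} (h : AutRel a b) (h' : AutRel b c) : AutRel a c := by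
  obtain ⟨α, rfl⟩ := h
  obtain ⟨β, rfl⟩ := h'
  exact ⟨β * α, rfl⟩

theorem AutRel.orderOf_eq {a b : G} (h : AutRel a b) : orderOf a = orderOf b := by
  obtain ⟨α, rfl⟩ := h
  exact (MulEquiv.orderOf_eq α a).symm

theorem quot_eq_iff {a b : G} :
    (Quotient.mk'' a : MulAction.orbitRel.Quotient (MulAut G) G) = Quotient.mk'' b ↔ AutRel a b := by
  rw [Quotient.eq'']
  change a ∈ MulAction.orbit (MulAut G) b ↔ _
  rw [MulAction.mem_orbit_iff]
  constructor
  · rintro ⟨α, hα⟩
    exact AutRel.symm ⟨α, hα⟩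
  · intro h
    obtain ⟨α, hα⟩ := h.symm
    exact ⟨α, hα⟩

/-- If there are exactly three orbits and `x₀, x₁, x₂` lie in different orbits, every element is
in the orbit of one of them. -/
theorem autRel_cover [Finite G]
    (h3 : Nat.card (MulAction.orbitRel.Quotient (MulAut G) G) = 3) {x₀ x₁ x₂ : G}
    (h01 : ¬ AutRel x₀ x₁) (h02 : ¬ AutRel x₀ x₂) (h12 : ¬ AutRel x₁ x₂) (g : G) :
    AutRel x₀ g ∨ AutRel x₁ g ∨ AutRel x₂ g := by
  let f : Fin 3 → MulAction.orbitRel.Quotient (MulAut G) G :=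
    ![Quotient.mk'' x₀, Quotient.mk'' x₁, Quotient.mk'' x₂]
  have hinj : Function.Injective f := by
    intro i j hij
    fin_cases i <;> fin_cases j <;> simp [f] at hij ⊢
    · exact absurd (quot_eq_iff.mp hij) h01
    · exact absurd (quot_eq_iff.mp hij) h02
    · exact absurd (quot_eq_iff.mp hij).symm h01
    · exact absurd (quot_eq_iff.mp hij) h12
    · exact absurd (quot_eq_iff.mp hij).symm h02
    · exact absurd (quot_eq_iff.mp hij).symm h12
  have hbij : Function.Bijective f :=
    hinj.bijective_of_nat_card_le (by rw [h3]; simp)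
  obtain ⟨i, hi⟩ := hbij.2 (Quotient.mk'' g)
  fin_cases i
  · left; exact quot_eq_iff.mp hi
  · right; left; exact quot_eq_iff.mp hi
  · right; right; exact quot_eq_iff.mp hi

/-- If `x₀, x₁, x₂` lie in different orbits and every element is in the orbit of one of them, there
are exactly three orbits. -/
theorem card_orbits_eq_three {x₀ x₁ x₂ : G}
    (h01 : ¬ AutRel x₀ x₁) (h02 : ¬ AutRel x₀ x₂) (h12 : ¬ AutRel x₁ x₂)
    (hcover : ∀ g : G, AutRel x₀ g ∨ AutRel x₁ g ∨ AutRel x₂ g) :
    Nat.card (MulAction.orbitRel.Quotient (MulAut G) G) = 3 := by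
  let f : Fin 3 → MulAction.orbitRel.Quotient (MulAut G) G :=
    ![Quotient.mk'' x₀, Quotient.mk'' x₁, Quotient.mk'' x₂]
  have hinj : Function.Injective f := by
    intro i j hij
    fin_cases i <;> fin_cases j <;> simp [f] at hij ⊢
    · exact absurd (quot_eq_iff.mp hij) h01
    · exact absurd (quot_eq_iff.mp hij) h02
    · exact absurd (quot_eq_iff.mp hij).symm h01
    · exact absurd (quot_eq_iff.mp hij) h12
    · exact absurd (quot_eq_iff.mp hij).symm h02
    · exact absurd (quot_eq_iff.mp hij).symm h12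
  have hsurj : Function.Surjective f := by
    intro c
    obtain ⟨g, rfl⟩ := Quotient.exists_rep c
    rcases hcover g with h | h | h
    · exact ⟨0, quot_eq_iff.mpr h⟩
    · exact ⟨1, quot_eq_iff.mpr h⟩
    · exact ⟨2, quot_eq_iff.mpr h⟩
  rw [← Nat.card_congr (Equiv.ofBijective f ⟨hinj, hsurj⟩)]
  simp

end Cfsg.Agent.Lib.Helper68
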