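import Mathlib

/-!
# A Möbius-type function on finite families in a finite poset (helper68)

`mobF 𝒳 x` is `μ(x, 1̂)` computed in the poset `𝒳 ∪ {1̂}` (a top element adjoined), defined by
the recursion `mobF 𝒳 x = -1 - ∑ y ∈ 𝒳, x < y, mobF 𝒳 y`.  We prove the (dual) closure lemma of
Crapo for interior operators.
-/

set_option autoImplicit false

namespace Cfsg.Agent.Lib.Helper68.Mob

open Classical

variable {α : Type*} [PartialOrder α] [Finite α]

/-- `μ(x, 1̂)` in `𝒳 ∪ {1̂}`. -/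
noncomputable def mobF (𝒳 : Finset α) : α → ℤ :=
  WellFounded.fix (wellFounded_gt (α := α))
    (fun x ih => -1 - ∑ y ∈ (𝒳.filter (fun y => x < y)).attach,
      ih y.1 (Finset.mem_filter.mp y.2).2)

theorem mobF_eq (𝒳 : Finset α) (x : α) :
    mobF 𝒳 x = -1 - ∑ y ∈ 𝒳.filter (fun y => x < y), mobF 𝒳 y := by
  unfold mobF
  rw [WellFounded.fix_eq]
  congr 1
  exact Finset.sum_attach _ (fun y => WellFounded.fix (wellFounded_gt (α := α))
    (fun x ih => -1 - ∑ y ∈ (𝒳.filter (fun y => x < y)).attach,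
      ih y.1 (Finset.mem_filter.mp y.2).2) y)

theorem mobF_of_no_gt (𝒳 : Finset α) (x : α) (h : ∀ y ∈ 𝒳, ¬ x < y) : mobF 𝒳 x = -1 := by
  rw [mobF_eq, Finset.filter_false_of_mem h, Finset.sum_empty, sub_zero]

theorem mobF_sum_ge (𝒳 : Finset α) {x : α} (hx : x ∈ 𝒳) :
    ∑ y ∈ 𝒳.filter (fun y => x ≤ y), mobF 𝒳 y = -1 := by
  have h1 : 𝒳.filter (fun y => x ≤ y) = insert x (𝒳.filter (fun y => x < y)) := by
    ext y
    simp only [Finset.mem_filter, Finset.mem_insert]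
    constructor
    · rintro ⟨h1, h2⟩
      rcases eq_or_lt_of_le h2 with h3 | h3
      · exact Or.inl h3.symm
      · exact Or.inr ⟨h1, h3⟩
    · rintro (h | ⟨h1, h2⟩)
      · exact ⟨h ▸ hx, h ▸ le_rfl⟩
      · exact ⟨h1, h2.le⟩
  have h2 : x ∉ 𝒳.filter (fun y => x < y) := by
    simp
  rw [h1, Finset.sum_insert h2, mobF_eq 𝒳 x]
  ring

/-- Dual form of Crapo's closure lemma. -/
theorem crapo (𝒳 : Finset α) (r : α → α) (h1 : ∀ x ∈ 𝒳, r x ∈ 𝒳) (h2 : ∀ x ∈ 𝒳, r x ≤ x)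
    (h3 : ∀ x ∈ 𝒳, ∀ y ∈ 𝒳, x ≤ y → r x ≤ r y) (h4 : ∀ x ∈ 𝒳, r (r x) = r x) :
    ∀ y ∈ 𝒳.filter (fun x => r x = x),
      ∑ x ∈ 𝒳.filter (fun x => r x = y), mobF 𝒳 x = mobF (𝒳.filter (fun x => r x = x)) y := by
  intro y
  induction y using WellFoundedGT.induction with
  | ind y ih =>
    intro hy
    obtain ⟨hy𝒳, hry⟩ := Finset.mem_filter.mp hy
    rw [mobF_eq (𝒳.filter (fun x => r x = x)) y]
    have e1 : ∑ y' ∈ (𝒳.filter (fun x => r x = x)).filter (fun y' => y < y'),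
        mobF (𝒳.filter (fun x => r x = x)) y' =
        ∑ y' ∈ (𝒳.filter (fun x => r x = x)).filter (fun y' => y < y'),
          ∑ x ∈ 𝒳.filter (fun x => r x = y'), mobF 𝒳 x := by
      apply Finset.sum_congr rfl
      intro y' hy'
      obtain ⟨hy'1, hy'2⟩ := Finset.mem_filter.mp hy'
      exact (ih y' hy'2 hy'1).symm
    have e2 : ∑ y' ∈ (𝒳.filter (fun x => r x = x)).filter (fun y' => y < y'),
          ∑ x ∈ 𝒳.filter (fun x => r x = y'), mobF 𝒳 x =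
        ∑ x ∈ 𝒳.filter (fun x => y < r x), mobF 𝒳 x := by
      have hmaps : ∀ x ∈ 𝒳.filter (fun x => y < r x),
          r x ∈ (𝒳.filter (fun x => r x = x)).filter (fun y' => y < y') := by
        intro x hx
        obtain ⟨hx1, hx2⟩ := Finset.mem_filter.mp hx
        exact Finset.mem_filter.mpr ⟨Finset.mem_filter.mpr ⟨h1 x hx1, h4 x hx1⟩, hx2⟩
      rw [← Finset.sum_fiberwise_of_maps_to hmaps (mobF 𝒳)]
      apply Finset.sum_congr rfl
      intro y' hy'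
      obtain ⟨_, hy'2⟩ := Finset.mem_filter.mp hy'
      apply Finset.sum_congr _ (fun _ _ => rfl)
      ext x
      simp only [Finset.mem_filter]
      constructor
      · rintro ⟨hx1, hx2⟩
        exact ⟨⟨hx1, hx2 ▸ hy'2⟩, hx2⟩
      · rintro ⟨⟨hx1, _⟩, hx2⟩
        exact ⟨hx1, hx2⟩
    have e3 : ∑ x ∈ 𝒳.filter (fun x => y ≤ r x), mobF 𝒳 x = -1 := by
      have : 𝒳.filter (fun x => y ≤ r x) = 𝒳.filter (fun x => y ≤ x) := by
        ext x
        simp only [Finset.mem_filter]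
        constructor
        · rintro ⟨hx1, hx2⟩
          exact ⟨hx1, hx2.trans (h2 x hx1)⟩
        · rintro ⟨hx1, hx2⟩
          refine ⟨hx1, ?_⟩
          have := h3 y hy𝒳 x hx1 hx2
          rwa [hry] at this
      rw [this, mobF_sum_ge 𝒳 hy𝒳]
    have e4 : ∑ x ∈ 𝒳.filter (fun x => y ≤ r x), mobF 𝒳 x =
        ∑ x ∈ 𝒳.filter (fun x => r x = y), mobF 𝒳 x +
          ∑ x ∈ 𝒳.filter (fun x => y < r x), mobF 𝒳 x := by
      rw [← Finset.sum_union]
      · apply Finset.sum_congr _ (fun _ _ => rfl)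
        ext x
        simp only [Finset.mem_filter, Finset.mem_union]
        constructor
        · rintro ⟨hx1, hx2⟩
          rcases eq_or_lt_of_le hx2 with h | h
          · exact Or.inl ⟨hx1, h.symm⟩
          · exact Or.inr ⟨hx1, h⟩
        · rintro (⟨hx1, hx2⟩ | ⟨hx1, hx2⟩)
          · exact ⟨hx1, hx2 ▸ le_rfl⟩
          · exact ⟨hx1, hx2.le⟩
      · rw [Finset.disjoint_left]
        intro x hx hx'
        have h5 := (Finset.mem_filter.mp hx).2
        have h6 := (Finset.mem_filter.mp hx').2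
        rw [h5] at h6
        exact lt_irrefl _ h6
    rw [e1, e2]
    rw [e4] at e3
    linarith

/-- The value at an interior-closed point can be computed in the sub-family of closed points. -/
theorem crapo_at (𝒳 : Finset α) (r : α → α) (h1 : ∀ x ∈ 𝒳, r x ∈ 𝒳) (h2 : ∀ x ∈ 𝒳, r x ≤ x)
    (h3 : ∀ x ∈ 𝒳, ∀ y ∈ 𝒳, x ≤ y → r x ≤ r y) (h4 : ∀ x ∈ 𝒳, r (r x) = r x)
    (D : α) (h5 : ∀ x ∈ 𝒳, D < x → D < r x) :
    mobF 𝒳 D = mobF (𝒳.filter (fun x => r x = x)) D := by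
  rw [mobF_eq 𝒳 D, mobF_eq (𝒳.filter (fun x => r x = x)) D]
  congr 1
  have hmaps : ∀ x ∈ 𝒳.filter (fun x => D < x),
      r x ∈ (𝒳.filter (fun x => r x = x)).filter (fun y' => D < y') := by
    intro x hx
    obtain ⟨hx1, hx2⟩ := Finset.mem_filter.mp hx
    exact Finset.mem_filter.mpr ⟨Finset.mem_filter.mpr ⟨h1 x hx1, h4 x hx1⟩, h5 x hx1 hx2⟩
  rw [← Finset.sum_fiberwise_of_maps_to hmaps (mobF 𝒳)]
  apply Finset.sum_congr rfl
  intro y hy
  obtain ⟨hy1, hy2⟩ := Finset.mem_filter.mp hy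
  rw [← crapo 𝒳 r h1 h2 h3 h4 y hy1]
  apply Finset.sum_congr _ (fun _ _ => rfl)
  ext x
  simp only [Finset.mem_filter]
  constructor
  · rintro ⟨⟨hx1, _⟩, hx2⟩
    exact ⟨hx1, hx2⟩
  · rintro ⟨hx1, hx2⟩
    refine ⟨⟨hx1, ?_⟩, hx2⟩
    exact lt_of_lt_of_le (hx2 ▸ hy2) (h2 x hx1)

end Cfsg.Agent.Lib.Helper68.Mob
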