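import Mathlib
import Cfsg.Agent.Lib.Helper68.Mobius
import Cfsg.Agent.Lib.Helper68.SubnQuot

/-!
# Casolo's formula for the subnormalizer of a `p`-subgroup (helper68)

`|S_G(H)| = λ_G(H) |N_G(P)|`, proved through a Möbius-function count over the `g`-invariant
`p`-subgroups and Crapo's closure lemma (an elementary form of Webb's theorem on the orbit
complex of the Brown poset).
-/

set_option autoImplicit false
open scoped Pointwise

namespace Cfsg.Agent.Lib.Helper68.Casolo

open Classical
open Cfsg.Agent.Lib.Helper68.Subn Cfsg.Agent.Lib.Helper68.Mob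

variable {G : Type*} [Group G]

/-! ### Transport of Sylow theory to a subgroup `A ≤ G` -/

theorem card_subgroupOf_eq [Finite G] (B A : Subgroup G) :
    Nat.card (B.subgroupOf A) = Nat.card (A ⊓ B : Subgroup G) := by
  rw [← Subgroup.inf_subgroupOf_right B A, inf_comm]
  exact Nat.card_congr (Subgroup.subgroupOfEquivOfLe inf_le_left).toEquiv

/-- (S1) a `p`-subgroup of `A` that is not Sylow in `A` is not Sylow in its normalizer in `A`. -/
theorem dvd_card_inf_normalizer [Finite G] (p : ℕ) [Fact p.Prime] {A T : Subgroup G} (hTA : T ≤ A)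
    (hT : IsPGroup p T) (hdvd : p * Nat.card T ∣ Nat.card A) :
    p * Nat.card T ∣ Nat.card (A ⊓ Subgroup.normalizer (T : Set G) : Subgroup G) := by
  obtain ⟨k, hk⟩ := IsPGroup.iff_card.mp hT
  have h1 : Nat.card (T.subgroupOf A) = p ^ k := by
    rw [← hk]
    exact Nat.card_congr (Subgroup.subgroupOfEquivOfLe hTA).toEquiv
  have h2 : p ^ (k + 1) ∣ Nat.card A := by
    rw [pow_succ', ← hk]; exact hdvd
  have h3 := Sylow.prime_pow_dvd_card_normalizer h2 h1
  rw [← Subgroup.subgroupOf_normalizer_eq hTA, card_subgroupOf_eq] at h3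
  rw [hk, ← pow_succ']
  exact h3

/-- (S3) nothing lies above a Sylow-type subgroup of `A`. -/
theorem not_lt_of_not_dvd [Finite G] (p : ℕ) [Fact p.Prime] {A T T' : Subgroup G}
    (hT : IsPGroup p T) (hT'A : T' ≤ A) (hT' : IsPGroup p T')
    (hndvd : ¬ p * Nat.card T ∣ Nat.card A) : ¬ T < T' := by
  intro hlt
  apply hndvd
  obtain ⟨k, hk⟩ := IsPGroup.iff_card.mp hT
  obtain ⟨k', hk'⟩ := IsPGroup.iff_card.mp hT'
  have hp : p.Prime := Fact.out
  have h1 : Nat.card T < Nat.card T' := by
    have hle : Nat.card T ≤ Nat.card T' := Subgroup.card_le_of_le hlt.le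
    rcases hle.lt_or_eq with h | h
    · exact h
    · exact absurd (Subgroup.eq_of_le_of_card_ge hlt.le h.ge) hlt.ne
  rw [hk, hk'] at h1
  have h2 : k < k' := (Nat.pow_lt_pow_iff_right hp.one_lt).mp h1
  have h3 : p * Nat.card T ∣ Nat.card T' := by
    rw [hk, hk', ← pow_succ']
    exact pow_dvd_pow p h2
  exact h3.trans (Subgroup.card_dvd_of_le hT'A)

/-- Sylow subgroups of `A`, as subgroups of `G`. -/
noncomputable def sylMap (p : ℕ) (A : Subgroup G) (P : Sylow p A) : Subgroup G :=
  (P : Subgroup A).map A.subtype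

theorem sylMap_injective (p : ℕ) (A : Subgroup G) : Function.Injective (sylMap p A) := by
  intro P Q h
  apply Sylow.ext
  exact Subgroup.map_injective (Subgroup.subtype_injective A) h

theorem sylMap_le (p : ℕ) (A : Subgroup G) (P : Sylow p A) : sylMap p A P ≤ A :=
  Subgroup.map_subtype_le _

theorem sylMap_subgroupOf (p : ℕ) (A : Subgroup G) (P : Sylow p A) :
    (sylMap p A P).subgroupOf A = (P : Subgroup A) :=
  Subgroup.comap_map_eq_self_of_injective (Subgroup.subtype_injective A) _

theorem mem_range_sylMap_iff [Finite G] (p : ℕ) [Fact p.Prime] (A T : Subgroup G) :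
    (∃ P : Sylow p A, sylMap p A P = T) ↔
      (T ≤ A ∧ IsPGroup p T ∧ ¬ p * Nat.card T ∣ Nat.card A) := by
  have hp : p.Prime := Fact.out
  constructor
  · rintro ⟨P, rfl⟩
    refine ⟨sylMap_le p A P, P.2.map _, ?_⟩
    have h1 : Nat.card (sylMap p A P) = Nat.card (P : Subgroup A) :=
      Subgroup.card_map_of_injective (Subgroup.subtype_injective A)
    rw [h1, ← (P : Subgroup A).card_mul_index, mul_comm]
    intro h
    exact P.not_dvd_index (Nat.dvd_of_mul_dvd_mul_left Nat.card_pos h)
  · rintro ⟨hTA, hT, hnd⟩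
    have h1 : Nat.card (T.subgroupOf A) = Nat.card T :=
      Nat.card_congr (Subgroup.subgroupOfEquivOfLe hTA).toEquiv
    have h2 : ¬ p ∣ (T.subgroupOf A).index := by
      intro h
      apply hnd
      rw [← (T.subgroupOf A).card_mul_index, h1, mul_comm]
      exact Nat.mul_dvd_mul_left _ h
    refine ⟨(hT.comap_subtype (K := A)).toSylow h2, ?_⟩
    show ((T.subgroupOf A)).map A.subtype = T
    exact Subgroup.map_subgroupOf_eq_of_le hTA

theorem card_inf_normalizer_sylMap [Finite G] (p : ℕ) (A : Subgroup G) (P : Sylow p A) :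
    Nat.card (A ⊓ Subgroup.normalizer (sylMap p A P : Set G) : Subgroup G) =
      Nat.card (Subgroup.normalizer ((P : Subgroup A) : Set A)) := by
  rw [← card_subgroupOf_eq, Subgroup.subgroupOf_normalizer_eq (sylMap_le p A P),
    sylMap_subgroupOf]

theorem sum_card_normalizer_sylow [Finite G] (p : ℕ) [Fact p.Prime] [Fintype (Sylow p G)] :
    ∑ P : Sylow p G, Nat.card (Subgroup.normalizer ((P : Subgroup G) : Set G)) = Nat.card G := by
  have h1 : ∀ P : Sylow p G, Nat.card (Subgroup.normalizer ((P : Subgroup G) : Set G)) *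
      Nat.card (Sylow p G) = Nat.card G := by
    intro P
    rw [P.card_eq_index_normalizer]
    exact Subgroup.card_mul_index _
  have hpos : 0 < Nat.card (Sylow p G) := Nat.card_pos
  apply Nat.eq_of_mul_eq_mul_right hpos
  rw [Finset.sum_mul, Finset.sum_congr rfl (fun P _ => h1 P), Finset.sum_const, Finset.card_univ,
    smul_eq_mul, Nat.card_eq_fintype_card (α := Sylow p G), mul_comm]

section fin

variable [Fintype G] [Fintype (Subgroup G)] (p : ℕ) [Fact p.Prime]

/-- (S2) Sylow's theorem in `A`, as a count. -/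
theorem sum_card_inf_normalizer (A : Subgroup G) :
    ∑ T ∈ Finset.univ.filter (fun T : Subgroup G => T ≤ A ∧ IsPGroup p T ∧
        ¬ p * Nat.card T ∣ Nat.card A),
      Nat.card (A ⊓ Subgroup.normalizer (T : Set G) : Subgroup G) = Nat.card A := by
  haveI : Fintype (Sylow p A) := Fintype.ofFinite _
  have h1 : Finset.univ.filter (fun T : Subgroup G => T ≤ A ∧ IsPGroup p T ∧
        ¬ p * Nat.card T ∣ Nat.card A) = Finset.univ.image (sylMap p A) := by
    ext T
    simp only [Finset.mem_filter, Finset.mem_univ, true_and, Finset.mem_image]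
    exact (mem_range_sylMap_iff p A T).symm
  rw [h1, Finset.sum_image (fun P _ Q _ h => sylMap_injective p A h)]
  rw [Finset.sum_congr rfl (fun P _ => card_inf_normalizer_sylMap p A P)]
  exact sum_card_normalizer_sylow p

omit [Fintype (Subgroup G)] in
/-- Normalizers grow in `p`-groups. -/
theorem lt_inf_normalizer {T x : Subgroup G} (hx : IsPGroup p x) (h : T < x) :
    T < x ⊓ Subgroup.normalizer (T : Set G) := by
  have hnil : Group.IsNilpotent x := hx.isNilpotent
  have hnc := Group.normalizerCondition_of_isNilpotent (G := x)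
  have h1 : T.subgroupOf x < ⊤ := by
    rw [lt_top_iff_ne_top, Ne, Subgroup.subgroupOf_eq_top]
    exact not_le_of_gt h
  have h2 := hnc _ h1
  rw [← Subgroup.subgroupOf_normalizer_eq h.le] at h2
  obtain ⟨y, hy1, hy2⟩ := SetLike.exists_of_lt h2
  refine lt_of_le_of_ne (le_inf h.le Subgroup.le_normalizer) ?_
  intro heq
  apply hy2
  have h3 : (y : G) ∈ x ⊓ Subgroup.normalizer (T : Set G) := ⟨y.2, hy1⟩
  rw [← heq] at h3
  exact h3

/-- `g`-invariant `p`-subgroups of `A`. -/
noncomputable def fam (A : Subgroup G) (g : G) : Finset (Subgroup G) :=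
  Finset.univ.filter (fun T => T ≤ A ∧ IsPGroup p T ∧ g ∈ Subgroup.normalizer (T : Set G))

omit [Fintype G] [Fact p.Prime] in
theorem mem_fam {A : Subgroup G} {g : G} {T : Subgroup G} :
    T ∈ fam p A g ↔ T ≤ A ∧ IsPGroup p T ∧ g ∈ Subgroup.normalizer (T : Set G) := by
  simp [fam]

/-- The summed Möbius numbers. -/
noncomputable def Mm (A D : Subgroup G) : ℤ :=
  ∑ g ∈ Finset.univ.filter (fun g : G => g ∈ A ∧ g ∈ Subgroup.normalizer (D : Set G)),
    mobF (fam p A g) D

omit [Fact p.Prime] [Fintype G] in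
/-- Lemma (A): the invariant `p`-subgroups above `H` have a least element. -/
theorem sum_mobF_fam (A H : Subgroup G) (g : G) :
    ∑ T ∈ (fam p A g).filter (fun T => H ≤ T), mobF (fam p A g) T =
      if ∃ T ∈ fam p A g, H ≤ T then -1 else 0 := by
  split_ifs with h
  · obtain ⟨T, hT, hHT⟩ := h
    obtain ⟨hTA, hTp, hgT⟩ := (mem_fam p).mp hT
    have hcl : cl H g ∈ fam p A g :=
      (mem_fam p).mpr ⟨(cl_le hHT hgT).trans hTA, hTp.to_le (cl_le hHT hgT), mem_normalizer_cl H g⟩
    have : (fam p A g).filter (fun T => H ≤ T) = (fam p A g).filter (fun T => cl H g ≤ T) := by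
      ext T'
      simp only [Finset.mem_filter]
      constructor
      · rintro ⟨h1, h2⟩
        exact ⟨h1, cl_le h2 ((mem_fam p).mp h1).2.2⟩
      · rintro ⟨h1, h2⟩
        exact ⟨h1, (le_cl H g).trans h2⟩
    rw [this, mobF_sum_ge _ hcl]
  · apply Finset.sum_eq_zero
    intro T hT
    obtain ⟨h1, h2⟩ := Finset.mem_filter.mp hT
    exact absurd ⟨T, h1, h2⟩ h

omit [Fact p.Prime] in
theorem count_eq (A H : Subgroup G) :
    ((Finset.univ.filter (fun g : G => g ∈ A ∧ ∃ T ∈ fam p A g, H ≤ T)).card : ℤ) =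
      - ∑ T ∈ Finset.univ.filter (fun T : Subgroup G => H ≤ T ∧ T ≤ A ∧ IsPGroup p T),
          Mm p A T := by
  have h1 : ((Finset.univ.filter (fun g : G => g ∈ A ∧ ∃ T ∈ fam p A g, H ≤ T)).card : ℤ) =
      ∑ g ∈ Finset.univ.filter (fun g : G => g ∈ A),
        (if ∃ T ∈ fam p A g, H ≤ T then (1 : ℤ) else 0) := by
    rw [Finset.sum_boole, Finset.filter_filter]
  rw [h1]
  have h2 : ∀ g : G, (if ∃ T ∈ fam p A g, H ≤ T then (1 : ℤ) else 0) =
      - ∑ T ∈ (fam p A g).filter (fun T => H ≤ T), mobF (fam p A g) T := by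
    intro g
    rw [sum_mobF_fam]
    split_ifs <;> simp
  simp_rw [h2]
  rw [Finset.sum_neg_distrib, neg_inj]
  unfold Mm
  rw [Finset.sum_comm']
  intro g T
  simp only [Finset.mem_filter, Finset.mem_univ, true_and, mem_fam]
  tauto

/-- (B') restriction to the normalizer does not change the Möbius number. -/
theorem mobF_fam_inf_normalizer (A T : Subgroup G) (g : G)
    (hg : g ∈ Subgroup.normalizer (T : Set G)) :
    mobF (fam p A g) T = mobF (fam p (A ⊓ Subgroup.normalizer (T : Set G)) g) T := by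
  have hgN : g ∈ Subgroup.normalizer ((Subgroup.normalizer (T : Set G) : Subgroup G) : Set G) :=
    Subgroup.le_normalizer hg
  have key := crapo_at (fam p A g) (fun x => x ⊓ Subgroup.normalizer (T : Set G))
    (by
      intro x hx
      obtain ⟨hxA, hxp, hgx⟩ := (mem_fam p).mp hx
      refine (mem_fam p).mpr ⟨inf_le_left.trans hxA, hxp.to_le inf_le_left, ?_⟩
      rw [Subgroup.mem_normalizer_iff]
      intro y
      rw [Subgroup.mem_inf, Subgroup.mem_inf, ← Subgroup.mem_normalizer_iff.mp hgx y,
        ← Subgroup.mem_normalizer_iff.mp hgN y])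
    (fun x _ => inf_le_left)
    (fun x _ y _ hxy => inf_le_inf_right _ hxy)
    (fun x _ => by rw [inf_assoc, inf_idem])
    T
    (fun x hx hTx => lt_inf_normalizer p ((mem_fam p).mp hx).2.1 hTx)
  rw [key]
  congr 1
  ext x
  simp only [Finset.mem_filter, mem_fam, inf_eq_left, le_inf_iff]
  tauto

theorem Mm_inf_normalizer (A T : Subgroup G) :
    Mm p A T = Mm p (A ⊓ Subgroup.normalizer (T : Set G)) T := by
  unfold Mm
  apply Finset.sum_congr
  · ext g
    simp only [Finset.mem_filter, Finset.mem_univ, true_and, Subgroup.mem_inf]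
    tauto
  · intro g hg
    exact mobF_fam_inf_normalizer p A T g (Finset.mem_filter.mp hg).2.2

omit [Fintype (Subgroup G)] in
theorem card_filter_mem (A : Subgroup G) :
    (Finset.univ.filter (fun g : G => g ∈ A)).card = Nat.card A := by
  rw [Nat.card_eq_fintype_card, Fintype.card_subtype]

/-- Möbius number of a Sylow-type subgroup of `A`. -/
theorem Mm_of_not_dvd (A T : Subgroup G) (hT : IsPGroup p T)
    (hnd : ¬ p * Nat.card T ∣ Nat.card A) :
    Mm p A T = - (Nat.card (A ⊓ Subgroup.normalizer (T : Set G) : Subgroup G) : ℤ) := by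
  unfold Mm
  rw [Finset.sum_congr rfl (g := fun _ => (-1 : ℤ))]
  · rw [Finset.sum_const, ← card_filter_mem]
    simp only [Subgroup.mem_inf, mul_neg, mul_one, nsmul_eq_mul]
  · intro g _
    apply mobF_of_no_gt
    intro y hy
    obtain ⟨hyA, hyp, _⟩ := (mem_fam p).mp hy
    exact not_lt_of_not_dvd p hT hyA hyp hnd

/-- (C') the key vanishing. -/
theorem Mm_of_dvd : ∀ (n : ℕ) (A T : Subgroup G), Nat.card A - Nat.card T ≤ n → T ≤ A →
    IsPGroup p T → p * Nat.card T ∣ Nat.card A → Mm p A T = 0 := by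
  have hp : p.Prime := Fact.out
  intro n
  induction n with
  | zero =>
    intro A T hn hTA hT hdvd
    exfalso
    have h1 : Nat.card A ≤ Nat.card T := Nat.sub_eq_zero_iff_le.mp (Nat.le_zero.mp hn)
    have h2 : Nat.card T ≤ Nat.card A := Subgroup.card_le_of_le hTA
    have h3 : Nat.card A = Nat.card T := le_antisymm h1 h2
    rw [h3] at hdvd
    have h4 : 0 < Nat.card T := Nat.card_pos
    have h5 := Nat.le_of_dvd h4 hdvd
    have h6 : 2 ≤ p := hp.two_le
    nlinarith
  | succ n ih =>
    intro A T hn hTA hT hdvd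
    rw [Mm_inf_normalizer]
    set A' : Subgroup G := A ⊓ Subgroup.normalizer (T : Set G) with hA'
    have hTA' : T ≤ A' := le_inf hTA Subgroup.le_normalizer
    have hA'N : A' ≤ Subgroup.normalizer (T : Set G) := inf_le_right
    have hdvd' : p * Nat.card T ∣ Nat.card A' := dvd_card_inf_normalizer p hTA hT hdvd
    have hcA' : Nat.card A' ≤ Nat.card A := Subgroup.card_le_of_le inf_le_left
    have hcT : Nat.card T ≤ Nat.card A' := Subgroup.card_le_of_le hTA'
    -- the count with `H = T` inside `A'`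
    have hcount := count_eq p A' T
    have hfull : Finset.univ.filter (fun g : G => g ∈ A' ∧ ∃ T' ∈ fam p A' g, T ≤ T') =
        Finset.univ.filter (fun g : G => g ∈ A') := by
      ext g
      simp only [Finset.mem_filter, Finset.mem_univ, true_and, and_iff_left_iff_imp]
      intro hg
      exact ⟨T, (mem_fam p).mpr ⟨hTA', hT, hA'N hg⟩, le_rfl⟩
    rw [hfull, card_filter_mem] at hcount
    -- evaluate each term
    have hterm : ∀ T' ∈ Finset.univ.filter (fun T' : Subgroup G => T ≤ T' ∧ T' ≤ A' ∧ IsPGroup p T'),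
        Mm p A' T' = (if T' = T then Mm p A' T else 0) +
          (if ¬ p * Nat.card T' ∣ Nat.card A' then
            - (Nat.card (A' ⊓ Subgroup.normalizer (T' : Set G) : Subgroup G) : ℤ) else 0) := by
      intro T' hT'
      obtain ⟨-, hTT', hT'A', hT'p⟩ := Finset.mem_filter.mp hT'
      by_cases heq : T' = T
      · subst heq
        rw [if_pos rfl, if_neg (not_not.mpr hdvd'), add_zero]
      · rw [if_neg heq, zero_add]
        have hlt : T < T' := lt_of_le_of_ne hTT' (Ne.symm heq)
        by_cases hd : p * Nat.card T' ∣ Nat.card A'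
        · rw [if_neg (not_not.mpr hd)]
          apply ih A' T' _ hT'A' hT'p hd
          have hcTT' : Nat.card T < Nat.card T' := by
            have hle : Nat.card T ≤ Nat.card T' := Subgroup.card_le_of_le hTT'
            rcases hle.lt_or_eq with h | h
            · exact h
            · exact absurd (Subgroup.eq_of_le_of_card_ge hTT' h.ge) (Ne.symm heq)
          have hcT' : Nat.card T' ≤ Nat.card A' := Subgroup.card_le_of_le hT'A'
          omega
        · rw [if_pos hd]
          exact Mm_of_not_dvd p A' T' hT'p hd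
    rw [Finset.sum_congr rfl hterm, Finset.sum_add_distrib, Finset.sum_ite_eq'] at hcount
    have hmem : T ∈ Finset.univ.filter (fun T' : Subgroup G => T ≤ T' ∧ T' ≤ A' ∧ IsPGroup p T') :=
      Finset.mem_filter.mpr ⟨Finset.mem_univ _, le_rfl, hTA', hT⟩
    rw [if_pos hmem] at hcount
    -- the Sylow-type terms
    have hsyl : ∑ T' ∈ Finset.univ.filter (fun T' : Subgroup G => T ≤ T' ∧ T' ≤ A' ∧ IsPGroup p T'),
        (if ¬ p * Nat.card T' ∣ Nat.card A' then
          - (Nat.card (A' ⊓ Subgroup.normalizer (T' : Set G) : Subgroup G) : ℤ) else 0) =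
        - (Nat.card A' : ℤ) := by
      rw [← Finset.sum_filter, Finset.filter_filter, Finset.sum_neg_distrib, neg_inj]
      have hS2 := sum_card_inf_normalizer p A'
      have hS2' : ((∑ T ∈ Finset.univ.filter (fun T : Subgroup G => T ≤ A' ∧ IsPGroup p T ∧
        ¬ p * Nat.card T ∣ Nat.card A'),
          Nat.card (A' ⊓ Subgroup.normalizer (T : Set G) : Subgroup G) : ℕ) : ℤ) =
          (Nat.card A' : ℤ) := by rw [hS2]
      rw [← hS2', Nat.cast_sum]
      apply Finset.sum_congr _ (fun _ _ => rfl)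
      ext T'
      simp only [Finset.mem_filter, Finset.mem_univ, true_and]
      constructor
      · rintro ⟨⟨_, h2, h3⟩, h4⟩
        exact ⟨h2, h3, h4⟩
      · rintro ⟨h2, h3, h4⟩
        refine ⟨⟨?_, h2, h3⟩, h4⟩
        have hsup : IsPGroup p (T' ⊔ T : Subgroup G) :=
          IsPGroup.to_sup_of_normal_right' h3 hT (h2.trans hA'N)
        have hsupA : T' ⊔ T ≤ A' := sup_le h2 hTA'
        have hnlt := not_lt_of_not_dvd p h3 hsupA hsup h4
        have hle : T' ≤ T' ⊔ T := le_sup_left
        have heq : T' = T' ⊔ T := by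
          by_contra hne
          exact hnlt (lt_of_le_of_ne hle hne)
        rw [heq]
        exact le_sup_right
    rw [hsyl] at hcount
    linarith

theorem casolo_sum (H : Subgroup G) :
    ((Finset.univ.filter (fun g : G => InSub p H g)).card : ℤ) =
      ∑ T ∈ Finset.univ.filter (fun T : Subgroup G => H ≤ T ∧ IsPGroup p T ∧
        ¬ p * Nat.card T ∣ Nat.card G), (Nat.card (Subgroup.normalizer (T : Set G)) : ℤ) := by
  have hc := count_eq p (⊤ : Subgroup G) H
  have h1 : Finset.univ.filter (fun g : G => g ∈ (⊤ : Subgroup G) ∧ ∃ T ∈ fam p ⊤ g, H ≤ T) =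
      Finset.univ.filter (fun g : G => InSub p H g) := by
    ext g
    simp only [Finset.mem_filter, Finset.mem_univ, true_and, Subgroup.mem_top, mem_fam, le_top]
    constructor
    · rintro ⟨T, ⟨h1, h2⟩, h3⟩
      exact ⟨T, h1, h3, h2⟩
    · rintro ⟨T, h1, h3, h2⟩
      exact ⟨T, ⟨h1, h2⟩, h3⟩
  rw [h1] at hc
  rw [hc, ← Finset.sum_neg_distrib]
  have hterm : ∀ T ∈ Finset.univ.filter (fun T : Subgroup G => H ≤ T ∧ T ≤ (⊤ : Subgroup G) ∧
      IsPGroup p T), - Mm p ⊤ T = if ¬ p * Nat.card T ∣ Nat.card G then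
        (Nat.card (Subgroup.normalizer (T : Set G)) : ℤ) else 0 := by
    intro T hT
    obtain ⟨-, _, _, hTp⟩ := Finset.mem_filter.mp hT
    by_cases hd : p * Nat.card T ∣ Nat.card G
    · rw [if_neg (not_not.mpr hd), neg_eq_zero]
      apply Mm_of_dvd p _ ⊤ T le_rfl le_top hTp
      rw [Subgroup.card_top]; exact hd
    · rw [if_pos hd, Mm_of_not_dvd p ⊤ T hTp (by rw [Subgroup.card_top]; exact hd), neg_neg,
        top_inf_eq]
  rw [Finset.sum_congr rfl hterm, ← Finset.sum_filter, Finset.filter_filter]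
  apply Finset.sum_congr _ (fun _ _ => rfl)
  ext T
  simp only [Finset.mem_filter, Finset.mem_univ, true_and, le_top]
  tauto

omit [Fintype G] [Fintype (Subgroup G)] in
theorem exists_sylow_coe_iff [Finite G] (T : Subgroup G) :
    (∃ Q : Sylow p G, (Q : Subgroup G) = T) ↔
      (IsPGroup p T ∧ ¬ p * Nat.card T ∣ Nat.card G) := by
  constructor
  · rintro ⟨Q, rfl⟩
    refine ⟨Q.2, ?_⟩
    rw [← (Q : Subgroup G).card_mul_index, mul_comm]
    intro h
    exact Q.not_dvd_index (Nat.dvd_of_mul_dvd_mul_left Nat.card_pos h)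
  · rintro ⟨hT, hnd⟩
    have h2 : ¬ p ∣ T.index := by
      intro h
      apply hnd
      rw [← T.card_mul_index, mul_comm]
      exact Nat.mul_dvd_mul_left _ h
    exact ⟨hT.toSylow h2, rfl⟩

theorem casolo_fin [Fintype (Sylow p G)] (H : Subgroup G) (P : Sylow p G) :
    (Finset.univ.filter (fun g : G => InSub p H g)).card =
      (Finset.univ.filter (fun Q : Sylow p G => H ≤ (Q : Subgroup G))).card *
        Nat.card (Subgroup.normalizer ((P : Subgroup G) : Set G)) := by
  have h1 : ∀ Q : Sylow p G, Nat.card (Subgroup.normalizer ((Q : Subgroup G) : Set G)) =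
      Nat.card (Subgroup.normalizer ((P : Subgroup G) : Set G)) := by
    intro Q
    have hQ : Nat.card (Subgroup.normalizer ((Q : Subgroup G) : Set G)) *
        Nat.card (Sylow p G) = Nat.card G := by
      rw [Q.card_eq_index_normalizer]
      exact Subgroup.card_mul_index _
    have hP : Nat.card (Subgroup.normalizer ((P : Subgroup G) : Set G)) *
        Nat.card (Sylow p G) = Nat.card G := by
      rw [P.card_eq_index_normalizer]
      exact Subgroup.card_mul_index _
    have hpos : 0 < Nat.card (Sylow p G) := Nat.card_pos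
    exact Nat.eq_of_mul_eq_mul_right hpos (hQ.trans hP.symm)
  have h2 := casolo_sum p H
  have h3 : Finset.univ.filter (fun T : Subgroup G => H ≤ T ∧ IsPGroup p T ∧
        ¬ p * Nat.card T ∣ Nat.card G) =
      (Finset.univ.filter (fun Q : Sylow p G => H ≤ (Q : Subgroup G))).image
        (fun Q : Sylow p G => (Q : Subgroup G)) := by
    ext T
    simp only [Finset.mem_filter, Finset.mem_univ, true_and, Finset.mem_image]
    constructor
    · rintro ⟨h4, h5, h6⟩
      obtain ⟨Q, rfl⟩ := (exists_sylow_coe_iff p T).mpr ⟨h5, h6⟩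
      exact ⟨Q, h4, rfl⟩
    · rintro ⟨Q, h4, rfl⟩
      obtain ⟨h5, h6⟩ := (exists_sylow_coe_iff p (Q : Subgroup G)).mp ⟨Q, rfl⟩
      exact ⟨h4, h5, h6⟩
  rw [h3, Finset.sum_image (fun Q _ Q' _ h => Sylow.ext h)] at h2
  rw [Finset.sum_congr rfl (fun Q _ => by rw [h1 Q]), Finset.sum_const, nsmul_eq_mul] at h2
  exact_mod_cast h2

end fin

/-- **Casolo's formula**: the subnormalizer of a `p`-subgroup `H` has `λ_G(H) |N_G(P)|`
elements. -/
theorem casolo [Finite G] (p : ℕ) [Fact p.Prime] (H : Subgroup G) (P : Sylow p G) :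
    Nat.card {g : G // InSub p H g} =
      Nat.card {Q : Sylow p G // H ≤ (Q : Subgroup G)} *
        Nat.card (Subgroup.normalizer ((P : Subgroup G) : Set G)) := by
  haveI : Fintype G := Fintype.ofFinite G
  haveI : Fintype (Subgroup G) := Fintype.ofFinite _
  haveI : Fintype (Sylow p G) := Fintype.ofFinite _
  rw [Nat.card_eq_fintype_card, Nat.card_eq_fintype_card, Fintype.card_subtype,
    Fintype.card_subtype]
  exact casolo_fin p H P

end Cfsg.Agent.Lib.Helper68.Casolo
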