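import Mathlib
import Cfsg.Agent.Lib.Helper77.Linear
import Cfsg.Agent.Lib.Helper78.CharMore
import Cfsg.Agent.Lib.Helper79.Integrality

/-!
# A bound for the class number in terms of the smallest prime divisor

`p² k(G) + |G : G'| ≤ |G| + p² |G : G'|` where `p` is the smallest prime divisor of `|G|`
(every nonlinear irreducible character has degree at least `p`).  Consequently
`k(G) ≤ |G| / p` as soon as `|G'| > p`.
-/

set_option autoImplicit false

namespace Cfsg.Agent.Lib.Helper68

open Cfsg Cfsg.Agent.Lib.Helper78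

universe u

/-- `p² · k(G) + |G : G'| ≤ |G| + p² |G : G'|`, `p` the smallest prime divisor of `|G|`. -/
theorem minFac_sq_mul_card_conjClasses_le {G : Type u} [Group G] [Finite G] :
    (Nat.card G).minFac ^ 2 * Nat.card (ConjClasses G) + (commutator G).index
      ≤ Nat.card G + (Nat.card G).minFac ^ 2 * (commutator G).index := by
  classical
  let _ := Fintype.ofFinite G
  generalize hp : (Nat.card G).minFac = p
  have hk : Nat.card (ConjClasses G) = ∑ _χ : IrrCharacter G, 1 := by
    rw [← card_irrCharacter, Nat.card_eq_fintype_card, ← Finset.card_univ,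
      Finset.card_eq_sum_ones]
  have ha : (commutator G).index
      = ∑ χ : IrrCharacter G, if (χ : G → ℂ) 1 = 1 then 1 else 0 := by
    rw [← Cfsg.Agent.Lib.Helper77.card_linear_characters, Nat.card_eq_fintype_card,
      Fintype.card_subtype, Finset.card_filter]
  have hn : Nat.card G = ∑ χ : IrrCharacter G, (charDegree (χ : G → ℂ)) ^ 2 :=
    (sum_irr_charDegree_sq (G := G)).symm
  rw [hk, ha, Finset.mul_sum, Finset.mul_sum, ← Finset.sum_add_distrib]
  conv_rhs => rw [hn, ← Finset.sum_add_distrib]
  apply Finset.sum_le_sum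
  intro χ _
  have h1 := Cfsg.Agent.Lib.Helper79.irr_apply_one_eq_charDegree χ
  have hpos := IsIrrCharacter.charDegree_pos χ.2
  have hdvd := Cfsg.Agent.Lib.Helper79.irr_charDegree_dvd_card χ
  by_cases hlin : (χ : G → ℂ) 1 = 1
  · have hd : charDegree (χ : G → ℂ) = 1 := by
      rw [h1] at hlin
      exact_mod_cast hlin
    rw [if_pos hlin, hd]
    omega
  · have hd : charDegree (χ : G → ℂ) ≠ 1 := by
      intro h
      apply hlin
      rw [h1, h]
      simp
    rw [if_neg hlin]
    have hle : p ≤ charDegree (χ : G → ℂ) := by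
      rw [← hp]
      exact Nat.minFac_le_of_dvd (by omega) hdvd
    have : p ^ 2 ≤ charDegree (χ : G → ℂ) ^ 2 := Nat.pow_le_pow_left hle 2
    omega

theorem classNumber_arith (p n k a : ℕ) (hp0 : 0 < p)
    (h0 : p ^ 2 * k + a ≤ n + p ^ 2 * a) (h1 : (p + 1) * a ≤ n) : k * p ≤ n := by
  obtain ⟨q, rfl⟩ : ∃ q, p = q + 1 := ⟨p - 1, by omega⟩
  have e3 : q * ((q + 1 + 1) * a) ≤ q * n := Nat.mul_le_mul_left _ h1
  have h2 : (q + 1) * (k * (q + 1)) ≤ (q + 1) * n := by
    have e1 : (q + 1) * (k * (q + 1)) = (q + 1) ^ 2 * k := by ring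
    have e2 : (q + 1) ^ 2 * a = q * ((q + 1 + 1) * a) + a := by ring
    have e4 : (q + 1) * n = n + q * n := by ring
    rw [e1, e4]
    omega
  exact Nat.le_of_mul_le_mul_left h2 hp0

/-- If `|G'| > p` (`p` the smallest prime divisor of `|G|`) then `k(G) ≤ |G| / p`. -/
theorem card_conjClasses_le_div_minFac {G : Type u} [Group G] [Finite G]
    (h : (Nat.card G).minFac < Nat.card (commutator G)) :
    Nat.card (ConjClasses G) ≤ Nat.card G / (Nat.card G).minFac := by
  have hmain := minFac_sq_mul_card_conjClasses_le (G := G)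
  have hn0 : 0 < Nat.card G := Nat.card_pos
  have hp0 : 0 < (Nat.card G).minFac := Nat.minFac_pos _
  have hcard : Nat.card (commutator G) * (commutator G).index = Nat.card G :=
    (commutator G).card_mul_index
  have h1 : ((Nat.card G).minFac + 1) * (commutator G).index ≤ Nat.card G := by
    calc ((Nat.card G).minFac + 1) * (commutator G).index
        ≤ Nat.card (commutator G) * (commutator G).index := Nat.mul_le_mul_right _ h
      _ = Nat.card G := hcard
  rw [Nat.le_div_iff_mul_le hp0]
  exact classNumber_arith _ _ _ _ hp0 hmain h1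

end Cfsg.Agent.Lib.Helper68
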