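import Mathlib
import Cfsg.Agent.Lib.Helper68.AutFix
import Cfsg.Agent.Lib.Helper54.Coprime

/-!
# Wielandt's fixed point inequality for `C_p × C_p` acting coprimely, internal form

`sylow_inf_card` : an `A`-invariant Sylow `q`-subgroup of `K` meets an `A`-invariant subgroup
`C ⊇ C_K(A)` in a Sylow `q`-subgroup of `C`.
`wielandt_int` : the internal inequality.
-/

set_option autoImplicit false
open scoped BigOperators Pointwise

namespace Cfsg.Agent.Lib.Helper68.Wiel2

open Cfsg.Agent.Lib.Helper68.AutFix Cfsg.Agent.Lib.Helper54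

variable {G : Type*} [Group G]

/-- Conjugation action of the normalizer of `Q` on `Q`. -/
def conjHom (Q : Subgroup G) : ↥(Subgroup.normalizer (Q : Set G)) →* MulAut ↥Q where
  toFun g :=
    { toFun := fun y => ⟨g.1 * y.1 * g.1⁻¹, (Subgroup.mem_normalizer_iff.mp g.2 y.1).mp y.2⟩
      invFun := fun y => ⟨g.1⁻¹ * y.1 * g.1, by
        have h := (Subgroup.mem_normalizer_iff.mp (Subgroup.inv_mem _ g.2) y.1).mp y.2
        rwa [inv_inv] at h⟩
      left_inv := fun y => Subtype.ext (by simp [mul_assoc])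
      right_inv := fun y => Subtype.ext (by simp [mul_assoc])
      map_mul' := fun a b => Subtype.ext (by simp [mul_assoc]) }
  map_one' := by
    ext y
    simp
  map_mul' := by
    intro a b
    ext y
    simp [mul_assoc]

@[simp] theorem conjHom_apply (Q : Subgroup G) (g : ↥(Subgroup.normalizer (Q : Set G))) (y : Q) :
    ((conjHom Q g) y : G) = g.1 * y.1 * g.1⁻¹ := rfl

theorem conjHom_eq_one (Q : Subgroup G) (g : ↥(Subgroup.normalizer (Q : Set G)))
    (hg : g.1 ∈ Subgroup.centralizer (Q : Set G)) : conjHom Q g = 1 := by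
  ext y
  rw [conjHom_apply, MulAut.one_apply]
  have := Subgroup.mem_centralizer_iff.mp hg y.1 y.2
  rw [← this, mul_inv_cancel_right]

theorem conjHom_commute (Q : Subgroup G) (x z : ↥(Subgroup.normalizer (Q : Set G)))
    (h : (z.1 * x.1)⁻¹ * (x.1 * z.1) ∈ Subgroup.centralizer (Q : Set G)) :
    conjHom Q x * conjHom Q z = conjHom Q z * conjHom Q x := by
  have h1 : x * z = (z * x) * ((z * x)⁻¹ * (x * z)) := by group
  rw [← map_mul, ← map_mul, h1, map_mul, conjHom_eq_one Q ((z * x)⁻¹ * (x * z)) h, mul_one]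

theorem conjHom_pow_eq_one (Q : Subgroup G) (x : ↥(Subgroup.normalizer (Q : Set G))) (n : ℕ)
    (h : x.1 ^ n ∈ Subgroup.centralizer (Q : Set G)) : conjHom Q x ^ n = 1 := by
  rw [← map_pow]
  exact conjHom_eq_one Q _ (by simpa using h)

theorem map_fixAut_conjHom (Q : Subgroup G) (g : ↥(Subgroup.normalizer (Q : Set G))) :
    (fixAut (conjHom Q g)).map Q.subtype = Q ⊓ Subgroup.centralizer {g.1} := by
  ext y
  rw [Subgroup.mem_map, Subgroup.mem_inf, Subgroup.mem_centralizer_iff]
  constructor
  · rintro ⟨u, hu, rfl⟩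
    refine ⟨u.2, ?_⟩
    intro h hh
    rw [Set.mem_singleton_iff] at hh
    subst hh
    have h1 : ((conjHom Q g) u : G) = u.1 := congrArg Subtype.val hu
    rw [conjHom_apply] at h1
    simp only [Subgroup.subtype_apply]
    calc g.1 * u.1 = (g.1 * u.1 * g.1⁻¹) * g.1 := by group
      _ = u.1 * g.1 := by rw [h1]
  · rintro ⟨hy, hc⟩
    refine ⟨⟨y, hy⟩, ?_, rfl⟩
    have h1 := hc g.1 rfl
    apply Subtype.ext
    rw [conjHom_apply]
    show g.1 * y * g.1⁻¹ = y
    rw [h1, mul_inv_cancel_right]

theorem card_fixAut_conjHom (Q : Subgroup G) (g : ↥(Subgroup.normalizer (Q : Set G))) :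
    Nat.card (fixAut (conjHom Q g)) = Nat.card (Q ⊓ Subgroup.centralizer {g.1} : Subgroup G) := by
  rw [← map_fixAut_conjHom, Subgroup.card_map_of_injective Q.subtype_injective]

/-- An element of the normalizer of `U` normalizes the image of a subgroup of `U` stable under its
conjugation automorphism. -/
theorem mem_normalizer_map_of_stable [Finite G] (U : Subgroup G)
    (y : ↥(Subgroup.normalizer (U : Set G))) (F : Subgroup U)
    (hF : ∀ f ∈ F, conjHom U y f ∈ F) :
    y.1 ∈ Subgroup.normalizer ((F.map U.subtype : Subgroup G) : Set G) := by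
  apply Cfsg.Agent.Lib.Helper72.mem_normalizer_of_conj_smul_le
  intro w hw
  rw [mem_conj_smul_iff] at hw
  obtain ⟨f, hf, hfw⟩ := hw
  refine ⟨conjHom U y f, hF f hf, ?_⟩
  simp only [Subgroup.subtype_apply] at hfw ⊢
  rw [conjHom_apply, hfw]
  group

theorem fixAut_stable {X : Type*} [Group X] (γ δ : MulAut X) (h : γ * δ = δ * γ) :
    ∀ f ∈ fixAut γ, δ f ∈ fixAut γ := by
  intro f hf
  rw [mem_fixAut] at hf ⊢
  rw [← MulAut.mul_apply, h, MulAut.mul_apply, hf]

/-- An `A`-invariant Sylow `q`-subgroup of `K` meets every `A`-invariant subgroup `C` of `K`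
containing `C_K(A)` in a Sylow `q`-subgroup of `C` (coprime action, `A` solvable). -/
theorem sylow_inf_card [Finite G] (A K : Subgroup G)
    (hAK : A ≤ Subgroup.normalizer (K : Set G))
    (hcop : (Nat.card A).Coprime (Nat.card K)) (hA : Group.IsSolvable A)
    (q : ℕ) [Fact q.Prime] (Q0 : Sylow q K)
    (hQ : A ≤ Subgroup.normalizer (((Q0 : Subgroup K).map K.subtype : Subgroup G) : Set G))
    (C : Subgroup G) (hCK : C ≤ K) (hAC : A ≤ Subgroup.normalizer (C : Set G))
    (hcent : K ⊓ Subgroup.centralizer (A : Set G) ≤ C) :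
    Nat.card (((Q0 : Subgroup K).map K.subtype ⊓ C : Subgroup G)) =
      q ^ (Nat.card C).factorization q := by
  have hq : q.Prime := Fact.out
  have hcopC : (Nat.card A).Coprime (Nat.card C) :=
    Nat.Coprime.coprime_dvd_right (Subgroup.card_dvd_of_le hCK) hcop
  obtain ⟨R0, hR0⟩ := exists_invariant_sylow A C hAC hcopC (Or.inl hA) q
  set R : Subgroup G := (R0 : Subgroup C).map C.subtype with hR
  have hRC : R ≤ C := Subgroup.map_subtype_le _
  have hRq : IsPGroup q R := R0.2.map _
  obtain ⟨Q1, hRQ1, hQ1⟩ := exists_invariant_sylow_ge A K hAK hcop (Or.inl hA) q R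
    (hRC.trans hCK) hRq hR0
  obtain ⟨c, hc1, hc2⟩ := exists_centralizer_conj_sylow A K hAK hcop (Or.inl hA) q Q0 Q1 hQ hQ1
  have hcC : (c : G) ∈ C := hcent (Subgroup.mem_inf.mpr ⟨c.2, hc1⟩)
  set Q : Subgroup G := (Q0 : Subgroup K).map K.subtype with hQdef
  have hQ1eq : (Q1 : Subgroup K).map K.subtype = MulAut.conj (c : G) • Q := by
    rw [← hc2, map_sylow_conj_smul]
  rw [hQ1eq] at hRQ1
  have h1 : MulAut.conj (c : G)⁻¹ • R ≤ Q ⊓ C := by
    apply le_inf
    · have := Subgroup.subset_pointwise_smul_iff.mp hRQ1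
      rwa [← map_inv] at this
    · exact conj_smul_le_of_mem (Subgroup.inv_mem _ hcC) hRC
  have hRcard : Nat.card R = q ^ (Nat.card C).factorization q := card_map_sylow C R0
  have h2 : q ^ (Nat.card C).factorization q ≤ Nat.card (Q ⊓ C : Subgroup G) := by
    rw [← hRcard, ← card_conj_smul (c : G)⁻¹ R]
    exact Subgroup.card_le_of_le h1
  have hQCq : IsPGroup q (Q ⊓ C : Subgroup G) := (Q0.2.map K.subtype).to_le inf_le_left
  obtain ⟨k, hk⟩ := hQCq.exists_card_eq
  have h3 : q ^ k ∣ Nat.card C := by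
    rw [← hk]
    exact Subgroup.card_dvd_of_le inf_le_right
  have h4 : k ≤ (Nat.card C).factorization q :=
    (hq.pow_dvd_iff_le_factorization Nat.card_pos.ne').mp h3
  apply le_antisymm _ h2
  rw [hk]
  exact Nat.pow_le_pow_right hq.pos h4

theorem inf_cent_eq_of_le {Q U : Subgroup G} (hQU : Q ≤ U) (g : G) :
    Q ⊓ (U ⊓ Subgroup.centralizer {g}) = Q ⊓ Subgroup.centralizer {g} := by
  rw [← inf_assoc, inf_eq_left.mpr hQU]

/-- **Wielandt's inequality**, internal form, for two elements `x, z` of a `p`-group normalizing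
a `p'`-group `U` and acting on it as commuting automorphisms of order dividing `p`. -/
theorem wielandt_int [Finite G] (p : ℕ) [Fact p.Prime] (U P : Subgroup G) (hP : IsPGroup p P)
    (hU : (Nat.card U).Coprime p) (x z : G) (hxP : x ∈ P) (hzP : z ∈ P)
    (hx : x ∈ Subgroup.normalizer (U : Set G)) (hz : z ∈ Subgroup.normalizer (U : Set G))
    (hxp : x ^ p ∈ Subgroup.centralizer (U : Set G))
    (hzp : z ^ p ∈ Subgroup.centralizer (U : Set G))
    (hxz : (z * x)⁻¹ * (x * z) ∈ Subgroup.centralizer (U : Set G)) :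
    (∏ i ∈ Finset.range p, Nat.card (U ⊓ Subgroup.centralizer {x * z ^ i} : Subgroup G)) *
        Nat.card (U ⊓ Subgroup.centralizer {z} : Subgroup G) ≤
      Nat.card U *
        Nat.card (U ⊓ Subgroup.centralizer {x} ⊓ Subgroup.centralizer {z} : Subgroup G) ^ p := by
  have hp : p.Prime := Fact.out
  set A : Subgroup G := Subgroup.closure {x, z} with hAdef
  have hxA : x ∈ A := Subgroup.subset_closure (by simp)
  have hzA : z ∈ A := Subgroup.subset_closure (by simp)
  have hA_le : ∀ H : Subgroup G, x ∈ H → z ∈ H → A ≤ H := by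
    intro H h1 h2
    rw [hAdef, Subgroup.closure_le]
    intro t ht
    rcases ht with rfl | rfl
    · exact h1
    · exact h2
  have hAP : A ≤ P := hA_le P hxP hzP
  have hApg : IsPGroup p A := hP.to_le hAP
  have hAU : A ≤ Subgroup.normalizer (U : Set G) := hA_le _ hx hz
  have hcop : (Nat.card A).Coprime (Nat.card U) := by
    obtain ⟨k, hk⟩ := hApg.exists_card_eq
    rw [hk]
    exact Nat.Coprime.pow_left k hU.symm
  have hAsolv : Group.IsSolvable A := by
    haveI := hApg.isNilpotent
    infer_instance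
  -- the automorphisms of `U`
  set x' : ↥(Subgroup.normalizer (U : Set G)) := ⟨x, hx⟩ with hx'
  set z' : ↥(Subgroup.normalizer (U : Set G)) := ⟨z, hz⟩ with hz'
  have hαβ : conjHom U x' * conjHom U z' = conjHom U z' * conjHom U x' :=
    conjHom_commute U x' z' hxz
  have hcomm : Commute (conjHom U x') (conjHom U z') := hαβ
  -- invariance of centralizers
  have hinv : ∀ g' : ↥(Subgroup.normalizer (U : Set G)),
      Commute (conjHom U g') (conjHom U x') → Commute (conjHom U g') (conjHom U z') →
      A ≤ Subgroup.normalizer ((U ⊓ Subgroup.centralizer {g'.1} : Subgroup G) : Set G) := by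
    intro g' h1 h2
    rw [← map_fixAut_conjHom]
    apply hA_le
    · exact mem_normalizer_map_of_stable U x' _ (fixAut_stable _ _ h1)
    · exact mem_normalizer_map_of_stable U z' _ (fixAut_stable _ _ h2)
  have hinv_i : ∀ i : ℕ,
      A ≤ Subgroup.normalizer ((U ⊓ Subgroup.centralizer {x * z ^ i} : Subgroup G) : Set G) := by
    intro i
    have h0 : conjHom U (x' * z' ^ i) = conjHom U x' * conjHom U z' ^ i := by
      rw [map_mul, map_pow]
    have := hinv (x' * z' ^ i) ?_ ?_
    · exact this
    · rw [h0]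
      exact (Commute.refl _).mul_left (hcomm.symm.pow_left i)
    · rw [h0]
      exact hcomm.mul_left ((Commute.refl _).pow_left i)
  have hinv_z : A ≤ Subgroup.normalizer ((U ⊓ Subgroup.centralizer {z} : Subgroup G) : Set G) :=
    hinv z' hcomm.symm (Commute.refl _)
  have hD_eq : U ⊓ Subgroup.centralizer {x} ⊓ Subgroup.centralizer {z} =
      (U ⊓ Subgroup.centralizer {x * z ^ 0}) ⊓ (U ⊓ Subgroup.centralizer {z}) := by
    rw [pow_zero, mul_one]
    ext y
    simp only [Subgroup.mem_inf]
    tauto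
  have hinv_D : A ≤ Subgroup.normalizer
      ((U ⊓ Subgroup.centralizer {x} ⊓ Subgroup.centralizer {z} : Subgroup G) : Set G) := by
    rw [hD_eq]
    exact le_normalizer_inf (hinv_i 0) hinv_z
  have hcent : ∀ g ∈ A, U ⊓ Subgroup.centralizer (A : Set G) ≤ U ⊓ Subgroup.centralizer {g} := by
    intro g hg
    exact inf_le_inf_left _ (Subgroup.centralizer_le (Set.singleton_subset_iff.mpr hg))
  have hxziA : ∀ i : ℕ, x * z ^ i ∈ A := fun i => A.mul_mem hxA (A.pow_mem hzA i)
  have hcent_D : U ⊓ Subgroup.centralizer (A : Set G) ≤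
      U ⊓ Subgroup.centralizer {x} ⊓ Subgroup.centralizer {z} := by
    apply le_inf
    · exact hcent x hxA
    · exact inf_le_right.trans (Subgroup.centralizer_le (Set.singleton_subset_iff.mpr hzA))
  -- positivity
  have hpos : ∀ H : Subgroup G, Nat.card H ≠ 0 := fun H => Nat.card_pos.ne'
  set L : ℕ := (∏ i ∈ Finset.range p, Nat.card (U ⊓ Subgroup.centralizer {x * z ^ i} : Subgroup G)) *
        Nat.card (U ⊓ Subgroup.centralizer {z} : Subgroup G) with hL
  set Rr : ℕ := Nat.card U *
        Nat.card (U ⊓ Subgroup.centralizer {x} ⊓ Subgroup.centralizer {z} : Subgroup G) ^ p with hRr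
  have hL0 : L ≠ 0 := by
    rw [hL]
    apply mul_ne_zero _ (hpos _)
    rw [Finset.prod_ne_zero_iff]
    intro i _
    exact hpos _
  have hR0 : Rr ≠ 0 := mul_ne_zero (hpos _) (pow_ne_zero _ (hpos _))
  have hdvd : L ∣ Rr := by
    rw [← Nat.factorization_le_iff_dvd hL0 hR0, Finsupp.le_def]
    intro q
    by_cases hq : q.Prime
    · haveI : Fact q.Prime := ⟨hq⟩
      obtain ⟨Q0, hQ0⟩ := exists_invariant_sylow A U hAU hcop (Or.inl hAsolv) q
      set Q : Subgroup G := (Q0 : Subgroup U).map U.subtype with hQdef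
      have hQU : Q ≤ U := Subgroup.map_subtype_le _
      have hQq : IsPGroup q Q := Q0.2.map _
      have hQcard : Nat.card Q = q ^ (Nat.card U).factorization q := card_map_sylow U Q0
      have hQcop : (Nat.card Q).Coprime p :=
        Nat.Coprime.coprime_dvd_left (Subgroup.card_dvd_of_le hQU) hU
      have hcentQ : Subgroup.centralizer (U : Set G) ≤ Subgroup.centralizer (Q : Set G) :=
        Subgroup.centralizer_le hQU
      set x'' : ↥(Subgroup.normalizer (Q : Set G)) := ⟨x, hQ0 hxA⟩ with hx''
      set z'' : ↥(Subgroup.normalizer (Q : Set G)) := ⟨z, hQ0 hzA⟩ with hz''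
      have ha : conjHom Q x'' ^ p = 1 := conjHom_pow_eq_one Q x'' p (hcentQ hxp)
      have hb : conjHom Q z'' ^ p = 1 := conjHom_pow_eq_one Q z'' p (hcentQ hzp)
      have hab : conjHom Q x'' * conjHom Q z'' = conjHom Q z'' * conjHom Q x'' :=
        conjHom_commute Q x'' z'' (hcentQ hxz)
      have key := wielandt_qgroup p q hQq hQcop (conjHom Q x'') (conjHom Q z'') ha hb hab
      have e1 : ∀ i : ℕ, Nat.card (fixAut (conjHom Q x'' * conjHom Q z'' ^ i)) =
          q ^ (Nat.card (U ⊓ Subgroup.centralizer {x * z ^ i} : Subgroup G)).factorization q := by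
        intro i
        rw [← map_pow, ← map_mul, card_fixAut_conjHom]
        have h1 := sylow_inf_card A U hAU hcop hAsolv q Q0 hQ0 _ inf_le_left (hinv_i i)
          (hcent _ (hxziA i))
        rw [← hQdef, inf_cent_eq_of_le hQU] at h1
        exact h1
      have e2 : Nat.card (fixAut (conjHom Q z'')) =
          q ^ (Nat.card (U ⊓ Subgroup.centralizer {z} : Subgroup G)).factorization q := by
        rw [card_fixAut_conjHom]
        have h1 := sylow_inf_card A U hAU hcop hAsolv q Q0 hQ0 _ inf_le_left hinv_z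
          (hcent _ hzA)
        rw [← hQdef, inf_cent_eq_of_le hQU] at h1
        exact h1
      have e3 : Nat.card (fixAut (conjHom Q x'') ⊓ fixAut (conjHom Q z'') : Subgroup Q) =
          q ^ (Nat.card (U ⊓ Subgroup.centralizer {x} ⊓ Subgroup.centralizer {z} :
            Subgroup G)).factorization q := by
        rw [← Subgroup.card_map_of_injective Q.subtype_injective,
          Subgroup.map_inf _ _ _ Q.subtype_injective, map_fixAut_conjHom, map_fixAut_conjHom]
        have h1 := sylow_inf_card A U hAU hcop hAsolv q Q0 hQ0 _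
          (inf_le_left.trans inf_le_left) hinv_D hcent_D
        rw [← hQdef] at h1
        have hEq : (Q ⊓ Subgroup.centralizer {x''.1}) ⊓ (Q ⊓ Subgroup.centralizer {z''.1}) =
            Q ⊓ (U ⊓ Subgroup.centralizer {x} ⊓ Subgroup.centralizer {z}) := by
          ext y
          simp only [Subgroup.mem_inf]
          constructor
          · rintro ⟨⟨h2, h3⟩, ⟨_, h4⟩⟩
            exact ⟨h2, ⟨hQU h2, h3⟩, h4⟩
          · rintro ⟨h2, ⟨_, h3⟩, h4⟩
            exact ⟨⟨h2, h3⟩, ⟨h2, h4⟩⟩
        rw [hEq]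
        exact h1
      simp only [e1] at key
      rw [e2, e3, hQcard, Finset.prod_pow_eq_pow_sum, ← pow_add, ← pow_mul, ← pow_add] at key
      have key2 := (Nat.pow_le_pow_iff_right hq.one_lt).mp key
      rw [hL, hRr, Nat.factorization_mul _ (hpos _), Nat.factorization_mul (hpos _)
        (pow_ne_zero _ (hpos _)), Nat.factorization_pow, Nat.factorization_prod]
      · simp only [Finsupp.coe_add, Pi.add_apply, Finsupp.coe_smul, Pi.smul_apply,
          Finsupp.finsetSum_apply, smul_eq_mul]
        rw [mul_comm p]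
        exact key2
      · intro i _; exact hpos _
      · rw [Finset.prod_ne_zero_iff]
        intro i _
        exact hpos _
    · rw [Nat.factorization_eq_zero_of_not_prime _ hq, Nat.factorization_eq_zero_of_not_prime _ hq]
  exact Nat.le_of_dvd (Nat.pos_of_ne_zero hR0) hdvd

end Cfsg.Agent.Lib.Helper68.Wiel2
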