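import Mathlib
import Cfsg.Agent.Lib.Helper68.Wielandt2

/-!
# A product inequality for centralizers under coprime action of a `p`-group

`coprime_prod` : for a `p`-subgroup `P` normalizing a `p'`-subgroup `V`,
`∏_{x ∈ P} |C_V(x)|^p ≤ |V|^{|P|} |C_V(P)|^{(p-1)|P|}`.
-/

set_option autoImplicit false
open scoped BigOperators Pointwise

namespace Cfsg.Agent.Lib.Helper68.CopProd

open Cfsg.Agent.Lib.Helper68.AutFix Cfsg.Agent.Lib.Helper54 Cfsg.Agent.Lib.Helper68.Wiel2

variable {G : Type*} [Group G]

theorem mem_centralizer_of_conjHom_eq_one (Q : Subgroup G)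
    (g : ↥(Subgroup.normalizer (Q : Set G))) (h : conjHom Q g = 1) :
    g.1 ∈ Subgroup.centralizer (Q : Set G) := by
  rw [Subgroup.mem_centralizer_iff]
  intro y hy
  have h1 : ((conjHom Q g) ⟨y, hy⟩ : G) = y := by rw [h]; rfl
  rw [conjHom_apply] at h1
  calc y * g.1 = (g.1 * y * g.1⁻¹) * g.1 := by rw [h1]
    _ = g.1 * y := by group

theorem fixAut_le_fixAut_pow {X : Type*} [Group X] (γ : MulAut X) (n : ℕ) :
    fixAut γ ≤ fixAut (γ ^ n) := by
  intro f hf
  have h1 : γ ∈ MulAction.stabilizer (MulAut X) f := hf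
  have h2 := Subgroup.pow_mem _ h1 n
  exact h2

theorem card_mul_card_le [Finite G] {U W V : Subgroup G} (hU : U ≤ V) (hW : W ≤ V) :
    Nat.card U * Nat.card W ≤ Nat.card V * Nat.card (U ⊓ W : Subgroup G) := by
  have h1 := card_mul_relIndex (inf_le_right : U ⊓ W ≤ W)
  have h2 := card_mul_relIndex hU
  rw [Subgroup.inf_relIndex_right] at h1
  have h0 : U.relIndex V ≠ 0 := by
    intro h0
    rw [h0, mul_zero] at h2
    exact (Nat.card_pos (α := V)).ne' h2.symm
  have h3 : U.relIndex W ≤ U.relIndex V :=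
    Subgroup.relIndex_le_of_le_right hW h0
  calc Nat.card U * Nat.card W = Nat.card U * (Nat.card (U ⊓ W : Subgroup G) * U.relIndex W) := by
        rw [h1]
    _ ≤ Nat.card U * (Nat.card (U ⊓ W : Subgroup G) * U.relIndex V) :=
        Nat.mul_le_mul_left _ (Nat.mul_le_mul_left _ h3)
    _ = Nat.card V * Nat.card (U ⊓ W : Subgroup G) := by rw [← h2]; ring

/-- The local inequality. -/
theorem loc [Finite G] (p : ℕ) [Fact p.Prime] (V P : Subgroup G) (hP : IsPGroup p P)
    (hV : (Nat.card V).Coprime p) (hPV : P ≤ Subgroup.normalizer (V : Set G)) (x z : G)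
    (hx : x ∈ P) (hz : z ∈ P)
    (hβp : conjHom V ⟨z, hPV hz⟩ ^ p = 1)
    (hcomm : Commute (conjHom V ⟨x, hPV hx⟩) (conjHom V ⟨z, hPV hz⟩)) :
    (∏ i ∈ Finset.range p, Nat.card (V ⊓ Subgroup.centralizer {x * z ^ i} : Subgroup G)) *
        Nat.card (V ⊓ Subgroup.centralizer {z} : Subgroup G) ≤
      Nat.card V *
        Nat.card (V ⊓ Subgroup.centralizer {z} ⊓ Subgroup.centralizer {x} : Subgroup G) ^ p := by
  set x' : ↥(Subgroup.normalizer (V : Set G)) := ⟨x, hPV hx⟩ with hx'
  set z' : ↥(Subgroup.normalizer (V : Set G)) := ⟨z, hPV hz⟩ with hz'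
  set α := conjHom V x' with hα
  set β := conjHom V z' with hβ
  set U : Subgroup G := V ⊓ Subgroup.centralizer {x ^ p} with hUdef
  set W : Subgroup G := V ⊓ Subgroup.centralizer {z} with hWdef
  have hUmap : (fixAut (α ^ p)).map V.subtype = U := by
    rw [hα, ← map_pow, map_fixAut_conjHom]
    rfl
  have hUV : U ≤ V := inf_le_left
  have hWV : W ≤ V := inf_le_left
  have hUcop : (Nat.card U).Coprime p :=
    Nat.Coprime.coprime_dvd_left (Subgroup.card_dvd_of_le hUV) hV
  have hxU : x ∈ Subgroup.normalizer (U : Set G) := by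
    rw [← hUmap]
    exact mem_normalizer_map_of_stable V x' _
      (fixAut_stable _ _ ((Commute.refl α).pow_left p))
  have hzU : z ∈ Subgroup.normalizer (U : Set G) := by
    rw [← hUmap]
    exact mem_normalizer_map_of_stable V z' _ (fixAut_stable _ _ (hcomm.pow_left p))
  have hxpU : x ^ p ∈ Subgroup.centralizer (U : Set G) := by
    rw [Subgroup.mem_centralizer_iff]
    intro u hu
    have h1 := (Subgroup.mem_inf.mp hu).2
    exact (Subgroup.mem_centralizer_iff.mp h1 (x ^ p) rfl).symm
  have hzpV : z ^ p ∈ Subgroup.centralizer (V : Set G) := by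
    have := mem_centralizer_of_conjHom_eq_one V (z' ^ p) (by rw [map_pow]; exact hβp)
    exact this
  have hxzV : (z * x)⁻¹ * (x * z) ∈ Subgroup.centralizer (V : Set G) := by
    have := mem_centralizer_of_conjHom_eq_one V ((z' * x')⁻¹ * (x' * z')) (by
      rw [map_mul, map_inv, map_mul, map_mul, ← hα, ← hβ, hcomm.eq, inv_mul_cancel])
    exact this
  have hcentUV : Subgroup.centralizer (V : Set G) ≤ Subgroup.centralizer (U : Set G) :=
    Subgroup.centralizer_le hUV
  have key := wielandt_int p U P hP hUcop x z hx hz hxU hzU hxpU (hcentUV hzpV) (hcentUV hxzV)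
  have e1 : ∀ i : ℕ, U ⊓ Subgroup.centralizer {x * z ^ i} =
      V ⊓ Subgroup.centralizer {x * z ^ i} := by
    intro i
    apply le_antisymm
    · exact inf_le_inf_right _ hUV
    · apply le_inf _ inf_le_right
      have h1 := map_fixAut_conjHom V (x' * z' ^ i)
      have h2 : (x' * z' ^ i).1 = x * z ^ i := rfl
      rw [h2] at h1
      rw [← h1, ← hUmap]
      apply Subgroup.map_mono
      have h3 : (conjHom V (x' * z' ^ i)) ^ p = α ^ p := by
        rw [map_mul, map_pow, ← hα, ← hβ, (hcomm.pow_right i).mul_pow, ← pow_mul, mul_comm i p,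
          pow_mul, hβp, one_pow, mul_one]
      rw [← h3]
      exact fixAut_le_fixAut_pow _ p
  have e2 : U ⊓ Subgroup.centralizer {z} = U ⊓ W := by
    ext y
    simp only [hWdef, Subgroup.mem_inf]
    constructor
    · rintro ⟨h1, h2⟩
      exact ⟨h1, hUV h1, h2⟩
    · rintro ⟨h1, _, h2⟩
      exact ⟨h1, h2⟩
  have e3 : U ⊓ Subgroup.centralizer {x} ⊓ Subgroup.centralizer {z} =
      W ⊓ Subgroup.centralizer {x} := by
    ext y
    simp only [hWdef, hUdef, Subgroup.mem_inf]
    constructor
    · rintro ⟨⟨⟨h1, _⟩, h2⟩, h3⟩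
      exact ⟨⟨h1, h3⟩, h2⟩
    · rintro ⟨⟨h1, h3⟩, h2⟩
      refine ⟨⟨⟨h1, ?_⟩, h2⟩, h3⟩
      rw [Subgroup.mem_centralizer_iff] at h2 ⊢
      intro h hh
      rw [Set.mem_singleton_iff] at hh
      subst hh
      exact ((show Commute x y from h2 x rfl).pow_left p).eq
  simp only [e1] at key
  rw [e2, e3] at key
  have h4 := card_mul_card_le hUV hWV
  have hpos : 0 < Nat.card (U ⊓ W : Subgroup G) := Nat.card_pos
  apply Nat.le_of_mul_le_mul_right _ hpos
  calc (∏ i ∈ Finset.range p, Nat.card (V ⊓ Subgroup.centralizer {x * z ^ i} : Subgroup G)) *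
        Nat.card W * Nat.card (U ⊓ W : Subgroup G)
      = ((∏ i ∈ Finset.range p, Nat.card (V ⊓ Subgroup.centralizer {x * z ^ i} : Subgroup G)) *
        Nat.card (U ⊓ W : Subgroup G)) * Nat.card W := by ring
    _ ≤ (Nat.card U * Nat.card (W ⊓ Subgroup.centralizer {x} : Subgroup G) ^ p) * Nat.card W :=
        Nat.mul_le_mul_right _ key
    _ = (Nat.card U * Nat.card W) * Nat.card (W ⊓ Subgroup.centralizer {x} : Subgroup G) ^ p := by
        ring
    _ ≤ (Nat.card V * Nat.card (U ⊓ W : Subgroup G)) *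
          Nat.card (W ⊓ Subgroup.centralizer {x} : Subgroup G) ^ p := Nat.mul_le_mul_right _ h4
    _ = _ := by ring

/-- Existence of an element acting as a central automorphism of order `p`. -/
theorem exists_central_elt [Finite G] (p : ℕ) [Fact p.Prime] (V P : Subgroup G)
    (hP : IsPGroup p P) (hPV : P ≤ Subgroup.normalizer (V : Set G))
    (hc : ¬ P ≤ Subgroup.centralizer (V : Set G)) :
    ∃ (z : G) (hz : z ∈ P), conjHom V ⟨z, hPV hz⟩ ^ p = 1 ∧ conjHom V ⟨z, hPV hz⟩ ≠ 1 ∧
      ∀ (y : G) (hy : y ∈ P), Commute (conjHom V ⟨y, hPV hy⟩) (conjHom V ⟨z, hPV hz⟩) := by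
  have hp : p.Prime := Fact.out
  set ψ : P →* MulAut V := (conjHom V).comp (Subgroup.inclusion hPV) with hψ
  have hψ_apply : ∀ (y : G) (hy : y ∈ P), ψ ⟨y, hy⟩ = conjHom V ⟨y, hPV hy⟩ := fun y hy => rfl
  set R : Subgroup (MulAut V) := ψ.range with hR
  have hRp : IsPGroup p R := hP.of_surjective ψ.rangeRestrict ψ.rangeRestrict_surjective
  have hRnt : Nontrivial R := by
    by_contra hnt
    rw [not_nontrivial_iff_subsingleton] at hnt
    apply hc
    intro y hy
    have h1 : (⟨ψ ⟨y, hy⟩, ⟨⟨y, hy⟩, rfl⟩⟩ : R) = 1 := Subsingleton.elim _ _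
    have h2 : ψ ⟨y, hy⟩ = 1 := congrArg Subtype.val h1
    rw [hψ_apply] at h2
    exact mem_centralizer_of_conjHom_eq_one V _ h2
  have hZnt : Nontrivial (Subgroup.center R) := hRp.center_nontrivial
  have hZp : IsPGroup p (Subgroup.center R) := hRp.to_subgroup _
  obtain ⟨k, hk⟩ := hZp.exists_card_eq
  have hk0 : k ≠ 0 := by
    rintro rfl
    rw [pow_zero] at hk
    have : 1 < Nat.card (Subgroup.center R) := Finite.one_lt_card
    omega
  have hdvd : p ∣ Nat.card (Subgroup.center R) := by
    rw [hk]; exact dvd_pow_self p hk0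
  obtain ⟨ζ, hζ⟩ := exists_prime_orderOf_dvd_card' p hdvd
  obtain ⟨z', hz'⟩ := ζ.1.2
  refine ⟨z'.1, z'.2, ?_, ?_, ?_⟩
  · have h1 : ζ ^ p = 1 := by rw [← hζ]; exact pow_orderOf_eq_one ζ
    have h2 : (ζ.1.1) ^ p = 1 := by
      have := congrArg (fun t : Subgroup.center R => (t.1.1 : MulAut V)) h1
      simpa using this
    rw [← hz'] at h2
    exact h2
  · intro h1
    have h2 : ζ = 1 := by
      apply Subtype.ext
      apply Subtype.ext
      rw [← hz']
      exact h1
    rw [h2, orderOf_one] at hζ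
    exact hp.one_lt.ne hζ
  · intro y hy
    have h1 := Subgroup.mem_center_iff.mp ζ.2 ⟨ψ ⟨y, hy⟩, ⟨⟨y, hy⟩, rfl⟩⟩
    have h2 : ψ ⟨y, hy⟩ * ζ.1.1 = ζ.1.1 * ψ ⟨y, hy⟩ := congrArg Subtype.val h1
    rw [← hz'] at h2
    exact h2

theorem coprime_prod [Finite G] (p : ℕ) [Fact p.Prime] (P : Subgroup G) (hP : IsPGroup p P)
    [Fintype P] :
    ∀ (n : ℕ) (V : Subgroup G), Nat.card V ≤ n → (Nat.card V).Coprime p →
      P ≤ Subgroup.normalizer (V : Set G) →
      ∏ x : P, Nat.card (V ⊓ Subgroup.centralizer {x.1} : Subgroup G) ^ p ≤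
        Nat.card V ^ Nat.card P *
          Nat.card (V ⊓ Subgroup.centralizer (P : Set G) : Subgroup G) ^ ((p - 1) * Nat.card P) := by
  have hp : p.Prime := Fact.out
  intro n
  induction n with
  | zero =>
    intro V hn
    exact absurd hn (by have : 0 < Nat.card V := Nat.card_pos; omega)
  | succ n ih =>
    intro V hn hV hPV
    by_cases hc : P ≤ Subgroup.centralizer (V : Set G)
    · have h1 : ∀ x : P, V ⊓ Subgroup.centralizer {x.1} = V := by
        intro x
        rw [inf_eq_left]
        intro v hv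
        rw [Subgroup.mem_centralizer_iff]
        intro h hh
        rw [Set.mem_singleton_iff] at hh
        subst hh
        exact (Subgroup.mem_centralizer_iff.mp (hc x.2) v hv).symm
      have h2 : V ⊓ Subgroup.centralizer (P : Set G) = V := by
        rw [inf_eq_left]
        exact Subgroup.le_centralizer_iff.mp hc
      simp only [h1, h2, Finset.prod_const, Finset.card_univ]
      rw [← Nat.card_eq_fintype_card, ← pow_mul, ← pow_add]
      apply le_of_eq
      congr 1
      have : 1 ≤ p := hp.one_lt.le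
      obtain ⟨m, rfl⟩ : ∃ m, p = m + 1 := ⟨p - 1, by omega⟩
      simp only [Nat.add_sub_cancel]
      ring
    · obtain ⟨z, hz, hβp, hβ1, hcomm⟩ := exists_central_elt p V P hP hPV hc
      set W : Subgroup G := V ⊓ Subgroup.centralizer {z} with hWdef
      have hWV : W ≤ V := inf_le_left
      have hWmap : (fixAut (conjHom V ⟨z, hPV hz⟩)).map V.subtype = W :=
        map_fixAut_conjHom V ⟨z, hPV hz⟩
      have hWne : W ≠ V := by
        intro hWV'
        apply hβ1
        ext v
        have h1 : v.1 ∈ W := by rw [hWV']; exact v.2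
        rw [← hWmap] at h1
        obtain ⟨u, hu, huv⟩ := h1
        have h2 : u = v := Subtype.ext huv
        rw [h2] at hu
        have h3 : conjHom V ⟨z, hPV hz⟩ v = v := hu
        rw [h3]; rfl
      have hWcard : Nat.card W ≤ n := by
        have h1 : Nat.card W ≤ Nat.card V := Subgroup.card_le_of_le hWV
        have h2 : Nat.card W ≠ Nat.card V := by
          intro h
          exact hWne (Subgroup.eq_of_le_of_card_ge hWV h.ge)
        omega
      have hWcop : (Nat.card W).Coprime p :=
        Nat.Coprime.coprime_dvd_left (Subgroup.card_dvd_of_le hWV) hV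
      have hPW : P ≤ Subgroup.normalizer (W : Set G) := by
        intro y hy
        rw [← hWmap]
        exact mem_normalizer_map_of_stable V ⟨y, hPV hy⟩ _
          (fixAut_stable _ _ (hcomm y hy).symm.eq)
      have hIH := ih W hWcard hWcop hPW
      have hWP : W ⊓ Subgroup.centralizer (P : Set G) = V ⊓ Subgroup.centralizer (P : Set G) := by
        rw [hWdef, inf_assoc]
        congr 1
        rw [inf_eq_right]
        exact Subgroup.centralizer_le (Set.singleton_subset_iff.mpr hz)
      rw [hWP] at hIH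
      have hloc : ∀ x : P,
          (∏ i ∈ Finset.range p, Nat.card (V ⊓ Subgroup.centralizer {x.1 * z ^ i} : Subgroup G)) *
            Nat.card W ≤ Nat.card V * Nat.card (W ⊓ Subgroup.centralizer {x.1} : Subgroup G) ^ p :=
        fun x => loc p V P hP hV hPV x.1 z x.2 hz hβp (hcomm x.1 x.2)
      set F : ℕ := ∏ y : P, Nat.card (V ⊓ Subgroup.centralizer {y.1} : Subgroup G) with hF
      have hFp : ∏ x : P, ∏ i ∈ Finset.range p,
          Nat.card (V ⊓ Subgroup.centralizer {x.1 * z ^ i} : Subgroup G) = F ^ p := by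
        rw [Finset.prod_comm]
        have : ∀ i ∈ Finset.range p, ∏ x : P,
            Nat.card (V ⊓ Subgroup.centralizer {x.1 * z ^ i} : Subgroup G) = F := by
          intro i _
          exact Equiv.prod_comp (Equiv.mulRight ((⟨z, hz⟩ : P) ^ i))
            (fun y : P => Nat.card (V ⊓ Subgroup.centralizer {y.1} : Subgroup G))
        rw [Finset.prod_congr rfl this, Finset.prod_const, Finset.card_range]
      have hcardP : (Finset.univ : Finset P).card = Nat.card P := by
        rw [Finset.card_univ, Nat.card_eq_fintype_card]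
      have h1 : F ^ p * Nat.card W ^ Nat.card P ≤
          Nat.card V ^ Nat.card P *
            ∏ x : P, Nat.card (W ⊓ Subgroup.centralizer {x.1} : Subgroup G) ^ p := by
        calc F ^ p * Nat.card W ^ Nat.card P
            = ∏ x : P, ((∏ i ∈ Finset.range p,
                Nat.card (V ⊓ Subgroup.centralizer {x.1 * z ^ i} : Subgroup G)) * Nat.card W) := by
              rw [Finset.prod_mul_distrib, hFp, Finset.prod_const, hcardP]
          _ ≤ ∏ x : P, (Nat.card V *
                Nat.card (W ⊓ Subgroup.centralizer {x.1} : Subgroup G) ^ p) :=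
              Finset.prod_le_prod' (fun x _ => hloc x)
          _ = _ := by rw [Finset.prod_mul_distrib, Finset.prod_const, hcardP]
      have hWpos : 0 < Nat.card W ^ Nat.card P := pow_pos Nat.card_pos _
      rw [Finset.prod_pow]
      apply Nat.le_of_mul_le_mul_right _ hWpos
      calc F ^ p * Nat.card W ^ Nat.card P
          ≤ Nat.card V ^ Nat.card P *
            ∏ x : P, Nat.card (W ⊓ Subgroup.centralizer {x.1} : Subgroup G) ^ p := h1
        _ ≤ Nat.card V ^ Nat.card P * (Nat.card W ^ Nat.card P *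
            Nat.card (V ⊓ Subgroup.centralizer (P : Set G) : Subgroup G) ^ ((p - 1) * Nat.card P)) :=
            Nat.mul_le_mul_left _ hIH
        _ = _ := by ring

end Cfsg.Agent.Lib.Helper68.CopProd
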