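import Mathlib

/-!
# Linear models of elementary abelian normal subgroups (helper68, for S4081)

A *linear model* of a subgroup `P ≤ G` is an injective map `ι : V → G` from a `ZMod p`-module `V`
with `ι (v + w) = ι v * ι w` and range `P`.  Automorphisms of `G` preserving `P` induce linear
automorphisms of `V`, and conversely compatible pairs extend to automorphisms of `G = P ⋊ ⟨x⟩`.
-/

set_option autoImplicit false
set_option linter.unusedSectionVars false

namespace Cfsg.Agent.Lib.Helper68

section Model

variable {G : Type*} [Group G] {p : ℕ} [Fact p.Prime] {P : Subgroup G}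
  {V : Type*} [AddCommGroup V] [Module (ZMod p) V]
  (ι : V → G) (hinj : Function.Injective ι) (hadd : ∀ v w, ι (v + w) = ι v * ι w)
  (hrange : Set.range ι = (P : Set G))

include hrange in
theorem model_exists_preimage {g : G} (hg : g ∈ P) : ∃ v, ι v = g := by
  have : g ∈ Set.range ι := by rw [hrange]; exact hg
  exact this

include hrange in
theorem model_mem (v : V) : ι v ∈ P := by
  have : ι v ∈ Set.range ι := ⟨v, rfl⟩
  rwa [hrange] at this

include hadd in
theorem model_zero : ι 0 = 1 := by
  have h := hadd 0 0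
  rw [add_zero] at h
  exact (mul_eq_left.mp h.symm)

include hadd in
theorem model_neg (v : V) : ι (-v) = (ι v)⁻¹ := by
  have h := hadd (-v) v
  rw [neg_add_cancel, model_zero ι hadd] at h
  exact eq_inv_of_mul_eq_one_left h.symm

include hinj hadd in
theorem model_eq_one_iff {v : V} : ι v = 1 ↔ v = 0 := by
  constructor
  · intro h
    apply hinj
    rw [h, model_zero ι hadd]
  · rintro rfl
    exact model_zero ι hadd

include hadd in
theorem model_nsmul (n : ℕ) (v : V) : ι (n • v) = (ι v) ^ n := by
  induction n with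
  | zero => simp [model_zero ι hadd]
  | succ n ih => rw [succ_nsmul, hadd, ih, pow_succ]

include hinj hadd hrange in
/-- An automorphism of `G` preserving `P` induces an additive automorphism of the model. -/
theorem model_exists_addEquiv (α : G ≃* G) (hα : ∀ g, g ∈ P ↔ α g ∈ P) :
    ∃ τ : V ≃+ V, ∀ v, ι (τ v) = α (ι v) := by
  classical
  have h1 : ∀ v, ∃ w, ι w = α (ι v) := fun v =>
    model_exists_preimage ι hrange ((hα _).mp (model_mem ι hrange v))
  have h2 : ∀ v, ∃ w, ι w = α.symm (ι v) := fun v => by
    apply model_exists_preimage ι hrange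
    rw [hα]
    simpa using model_mem ι hrange v
  choose f hf using h1
  choose g hg using h2
  refine ⟨{ toFun := f, invFun := g, left_inv := ?_, right_inv := ?_, map_add' := ?_ }, hf⟩
  · intro v
    apply hinj
    rw [hg, hf]
    simp
  · intro v
    apply hinj
    rw [hf, hg]
    simp
  · intro v w
    apply hinj
    rw [hf, hadd, hadd, map_mul, hf, hf]

include hinj hadd hrange in
/-- An automorphism of `G` preserving `P` induces a linear automorphism of the model. -/
theorem model_exists_linearEquiv (α : G ≃* G) (hα : ∀ g, g ∈ P ↔ α g ∈ P) :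
    ∃ τ : V ≃ₗ[ZMod p] V, ∀ v, ι (τ v) = α (ι v) := by
  obtain ⟨τ, hτ⟩ := model_exists_addEquiv ι hinj hadd hrange α hα
  exact ⟨τ.toLinearEquiv (fun c x => ZMod.map_smul τ c x), hτ⟩

include hinj hadd hrange in
/-- Conjugation by `g` as a linear endomorphism of the model of a normal subgroup. -/
theorem model_exists_conj (hP : P.Normal) (g : G) :
    ∃ σ : V ≃ₗ[ZMod p] V, ∀ v, ι (σ v) = g * ι v * g⁻¹ := by
  obtain ⟨τ, hτ⟩ := model_exists_linearEquiv (p := p) ι hinj hadd hrange (MulAut.conj g) (by
    intro y
    simp only [MulAut.conj_apply]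
    constructor
    · intro hy
      exact hP.conj_mem y hy g
    · intro hy
      have := hP.conj_mem _ hy g⁻¹
      simpa [mul_assoc] using this)
  exact ⟨τ, fun v => by rw [hτ]; rfl⟩


include hadd in
theorem model_pow_conj (σ : Module.End (ZMod p) V) (x : G)
    (hσ : ∀ v, ι (σ v) = x * ι v * x⁻¹) (k : ℕ) (v : V) :
    ι ((σ ^ k) v) = x ^ k * ι v * (x ^ k)⁻¹ := by
  induction k generalizing v with
  | zero => simp
  | succ k ih =>
    rw [pow_succ, Module.End.mul_apply, ih, hσ, pow_succ]
    group

include hinj hadd hrange in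
/-- Extension of a compatible pair `(τ, x')` to an automorphism of `G = P ⋊ ⟨x⟩`. -/
theorem model_exists_extension [Finite G] (hP : P.Normal) (x x' : G)
    (hcompl : P.IsComplement' (Subgroup.zpowers x))
    (hord : orderOf x' ∣ orderOf x)
    (hx' : ∀ i : ℕ, x' ^ i ∈ P → x ^ i = 1)
    (τ : V ≃+ V)
    (hτ : ∀ v w, ι w = x * ι v * x⁻¹ → ι (τ w) = x' * ι (τ v) * x'⁻¹) :
    ∃ α : G ≃* G, (∀ v, α (ι v) = ι (τ v)) ∧ α x = x' := by
  classical
  have hpre : ∀ y : P, ∃ v, ι v = (y : G) := fun y => model_exists_preimage ι hrange y.2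
  choose g hg using hpre
  have hgmul : ∀ y y' : P, g (y * y') = g y + g y' := by
    intro y y'
    apply hinj
    rw [hg, hadd, hg, hg]
    rfl
  have hgι : ∀ v (hv : ι v ∈ P), g ⟨ι v, hv⟩ = v := by
    intro v hv
    apply hinj
    rw [hg]
  let f₁ : P →* G :=
    { toFun := fun y => ι (τ (g y))
      map_one' := by
        have : g 1 = 0 := by
          apply hinj
          rw [hg, model_zero ι hadd]
          rfl
        rw [this, map_zero, model_zero ι hadd]
      map_mul' := by
        intro y y'
        rw [hgmul, map_add, hadd] }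
  -- generator of the complement
  let C : Subgroup G := Subgroup.zpowers x
  let gx : C := ⟨x, Subgroup.mem_zpowers x⟩
  have hgen : ∀ c : C, c ∈ Subgroup.zpowers gx := by
    intro c
    obtain ⟨i, hi⟩ := Subgroup.mem_zpowers_iff.mp c.2
    refine Subgroup.mem_zpowers_iff.mpr ⟨i, ?_⟩
    apply Subtype.ext
    rw [Subgroup.coe_zpow]
    exact hi
  have hordgx : orderOf gx = orderOf x := Subgroup.orderOf_mk x _
  let f₂ : C →* G := monoidHomOfForallMemZpowers hgen (g' := x') (by rw [hordgx]; exact hord)
  have hf₂gx : f₂ gx = x' := monoidHomOfForallMemZpowers_apply_gen hgen _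
  -- compatibility for the generator, then for all of C
  have hcompat_pow : ∀ (i : ℕ) (y : P) (hy : x ^ i * (y : G) * (x ^ i)⁻¹ ∈ P),
      f₁ ⟨x ^ i * (y : G) * (x ^ i)⁻¹, hy⟩ = x' ^ i * f₁ y * (x' ^ i)⁻¹ := by
    intro i
    induction i with
    | zero =>
      intro y hy
      simp
    | succ i ih =>
      intro y hy
      have hy1 : x ^ i * (y : G) * (x ^ i)⁻¹ ∈ P := hP.conj_mem _ y.2 _
      have e : x ^ (i + 1) * (y : G) * (x ^ (i + 1))⁻¹
          = x * (x ^ i * (y : G) * (x ^ i)⁻¹) * x⁻¹ := by
        rw [pow_succ']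
        group
      have h1 := ih y hy1
      have h2 := hτ (g ⟨x ^ i * (y : G) * (x ^ i)⁻¹, hy1⟩) (g ⟨x ^ (i + 1) * (y : G) * (x ^ (i + 1))⁻¹, hy⟩)
        (by rw [hg, hg]; exact e)
      change ι (τ (g _)) = _
      rw [h2]
      change x' * f₁ ⟨x ^ i * (y : G) * (x ^ i)⁻¹, hy1⟩ * x'⁻¹ = _
      rw [h1, pow_succ']
      group
  have hnat : ∀ c : C, ∃ i : ℕ, c = gx ^ i := by
    intro c
    have hc : (c : G) ∈ Submonoid.powers x := mem_powers_iff_mem_zpowers.mpr c.2
    obtain ⟨i, hi⟩ := hc
    refine ⟨i, ?_⟩
    apply Subtype.ext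
    rw [Subgroup.coe_pow]
    exact hi.symm
  have : P.Normal := hP
  let e := SemidirectProduct.mulEquivSubgroup hcompl
  have hcompat : ∀ c : C,
      f₁.comp (((P.normalizerMonoidHom).comp
        (Subgroup.inclusion (P.normalizer_eq_top ▸ le_top)) c).toMonoidHom) =
      (MulAut.conj (f₂ c)).toMonoidHom.comp f₁ := by
    intro c
    obtain ⟨i, rfl⟩ := hnat c
    ext y
    have hy : x ^ i * (y : G) * (x ^ i)⁻¹ ∈ P := hP.conj_mem _ y.2 _
    have h1 := hcompat_pow i y hy
    have h2 : f₂ (gx ^ i) = x' ^ i := by rw [map_pow, hf₂gx]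
    simp only [MonoidHom.coe_comp, MulEquiv.coe_toMonoidHom, Function.comp_apply,
      MulAut.conj_apply, h2]
    rw [← h1]
    congr 1
  let β := SemidirectProduct.lift f₁ f₂ hcompat
  let α₀ : G →* G := β.comp e.symm.toMonoidHom
  have hα₀P : ∀ (y : G) (hy : y ∈ P), α₀ y = f₁ ⟨y, hy⟩ := by
    intro y hy
    have h1 : e (SemidirectProduct.inl ⟨y, hy⟩) = y := by
      simp [e]
    have h2 : e.symm y = SemidirectProduct.inl ⟨y, hy⟩ := by
      rw [MulEquiv.symm_apply_eq, h1]
    simp only [α₀, MonoidHom.coe_comp, MulEquiv.coe_toMonoidHom, Function.comp_apply, h2, β,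
      SemidirectProduct.lift_inl]
  have hα₀x : α₀ x = x' := by
    have h1 : e (SemidirectProduct.inr gx) = x := by
      simp [e, gx]
    have h2 : e.symm x = SemidirectProduct.inr gx := by
      rw [MulEquiv.symm_apply_eq, h1]
    simp only [α₀, MonoidHom.coe_comp, MulEquiv.coe_toMonoidHom, Function.comp_apply, h2, β,
      SemidirectProduct.lift_inr, hf₂gx]
  have hinjα : Function.Injective α₀ := by
    rw [injective_iff_map_eq_one]
    intro a ha
    obtain ⟨s, rfl⟩ := e.surjective a
    have hs : s = SemidirectProduct.inl s.left * SemidirectProduct.inr s.right :=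
      (SemidirectProduct.inl_left_mul_inr_right s).symm
    have h1 : α₀ (e s) = f₁ s.left * f₂ s.right := by
      simp only [α₀, MonoidHom.coe_comp, MulEquiv.coe_toMonoidHom, Function.comp_apply,
        MulEquiv.symm_apply_apply]
      conv_lhs => rw [hs]
      rw [map_mul]
      simp only [β, SemidirectProduct.lift_inl, SemidirectProduct.lift_inr]
    rw [h1] at ha
    obtain ⟨i, hi⟩ := hnat s.right
    have h2 : f₂ s.right = x' ^ i := by rw [hi, map_pow, hf₂gx]
    have h3 : f₁ s.left ∈ P := model_mem ι hrange _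
    have h4 : x' ^ i ∈ P := by
      have : x' ^ i = (f₁ s.left)⁻¹ := by
        rw [← h2]
        exact eq_inv_of_mul_eq_one_right ha
      rw [this]
      exact P.inv_mem h3
    have h5 : x ^ i = 1 := hx' i h4
    have h6 : s.right = 1 := by
      rw [hi]
      apply Subtype.ext
      rw [Subgroup.coe_pow]
      exact h5
    rw [h6, map_one, mul_one] at ha
    have h7 : τ (g s.left) = 0 := (model_eq_one_iff ι hinj hadd).mp ha
    have h8 : g s.left = 0 := by
      have := congrArg τ.symm h7
      simpa using this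
    have h9 : s.left = 1 := by
      apply Subtype.ext
      rw [← hg s.left, h8, model_zero ι hadd]
      rfl
    have hs1 : s = 1 := by
      rw [hs, h6, h9]
      simp
    rw [hs1, map_one]
  refine ⟨MulEquiv.ofBijective α₀ ⟨hinjα, Finite.injective_iff_surjective.mp hinjα⟩, ?_, ?_⟩
  · intro v
    have hv : ι v ∈ P := model_mem ι hrange v
    change α₀ (ι v) = _
    rw [hα₀P _ hv]
    change ι (τ (g ⟨ι v, hv⟩)) = _
    rw [hgι]
  · exact hα₀x

end Model

section Exists

universe u

open scoped IsMulCommutative in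
/-- Every finite elementary abelian `p`-subgroup has a linear model. -/
theorem exists_model {G : Type u} [Group G] [Finite G] {p : ℕ} [Fact p.Prime] (P : Subgroup G)
    (hc : IsMulCommutative P) (hexp : ∀ a ∈ P, a ^ p = 1) :
    ∃ (V : Type u) (_ : AddCommGroup V) (_ : Module (ZMod p) V) (_ : Finite V) (ι : V → G),
      Function.Injective ι ∧ (∀ v w, ι (v + w) = ι v * ι w) ∧ Set.range ι = (P : Set G) := by
  letI : Module (ZMod p) (Additive P) := AddCommGroup.zmodModule (n := p) (by
    intro v
    have h : (Additive.toMul v) ^ p = 1 := by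
      apply Subtype.ext
      rw [Subgroup.coe_pow]
      exact hexp _ (Additive.toMul v).2
    exact congrArg Additive.ofMul h)
  refine ⟨Additive P, inferInstance, inferInstance, inferInstance,
    fun v => ((Additive.toMul v : P) : G), ?_, ?_, ?_⟩
  · intro v w h
    exact Additive.toMul.injective (Subtype.ext h)
  · intro v w
    rfl
  · ext g
    constructor
    · rintro ⟨v, rfl⟩
      exact (Additive.toMul v).2
    · intro hg
      exact ⟨Additive.ofMul ⟨g, hg⟩, rfl⟩

end Exists

end Cfsg.Agent.Lib.Helper68
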