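import Mathlib
import Cfsg.Agent.S0012
import Cfsg.Agent.S0158
import Cfsg.Agent.S0159
import Cfsg.Agent.Lib.Helper77.Linear
import Cfsg.Agent.Lib.Helper78.CharMore
import Cfsg.Agent.Lib.Helper74.RealCount
import Cfsg.Agent.Lib.Helper79.Integrality
/-
Copy of helper82's Frobenius–Schur / real linear character API (originally the helper part of
their `Cfsg/Agent/S4477.lean`), kept here under a private namespace so that `S4058` does not
depend on the text of `S4477.lean`.
-/

set_option autoImplicit false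
open Cfsg

namespace Cfsg.Agent.Lib.Helper68.FSNu

open Cfsg.Agent.Lib.Helper78 Cfsg.Agent.Lib.Helper77 Cfsg.Agent.Lib.Helper74
open scoped ComplexConjugate commutatorElement

/-!
Proof (character-theoretic).  With `d = χ(1)`, `ν` the Frobenius–Schur indicator and `t` the
number of involutions: `t + 1 = ∑ ν d`, `|G| = ∑ d²`.  Modulo `8`, the nonlinear characters
contribute `0` to `∑ (d² - 2 ν d)` (pair `χ` with its conjugate; `d` is even), the linear ones
contribute `|G : G'| - 2 |G : Φ(G)|`.  If `|G : Φ(G)| ≤ 2` the group is cyclic; otherwise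
`|G| - 4 ≡ |G : G'| (mod 8)` forces `|G : G'| = 4`.
-/

section GroupPart

variable {G : Type*} [Group G] [Finite G]

/-- A finite group whose Frattini subgroup has index at most `2` is cyclic. -/
theorem isCyclic_of_frattini_index_le_two (h : (frattini G).index ≤ 2) : IsCyclic G := by
  have h0 : (frattini G).index ≠ 0 := Subgroup.index_ne_zero_of_finite
  by_cases h1 : (frattini G).index = 1
  · -- the Frattini subgroup is everything: the group is trivial
    have htop : frattini G = ⊤ := Subgroup.index_eq_one.mp h1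
    have h2 : (⊥ : Subgroup G) ⊔ frattini G = ⊤ := by rw [htop, bot_sup_eq]
    have h3 := frattini_nongenerating h2
    have : Subsingleton G := by
      constructor
      intro a b
      have ha : a ∈ (⊥ : Subgroup G) := by rw [h3]; trivial
      have hb : b ∈ (⊥ : Subgroup G) := by rw [h3]; trivial
      rw [Subgroup.mem_bot.mp ha, Subgroup.mem_bot.mp hb]
    exact isCyclic_of_subsingleton
  · have h2 : (frattini G).index = 2 := by omega
    obtain ⟨g, hg⟩ : ∃ g : G, g ∉ frattini G := by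
      by_contra hcon
      push Not at hcon
      apply h1
      exact Subgroup.index_eq_one.mpr (eq_top_iff.mpr fun x _ => hcon x)
    have h3 : Subgroup.zpowers g ⊔ frattini G = ⊤ := by
      set K := Subgroup.zpowers g ⊔ frattini G with hK
      have hle : frattini G ≤ K := le_sup_right
      have hmul := Subgroup.relIndex_mul_index hle
      rw [h2] at hmul
      have hdvd : K.index ∣ 2 := Dvd.intro_left _ hmul
      rcases (Nat.dvd_prime Nat.prime_two).mp hdvd with h | h
      · exact Subgroup.index_eq_one.mp h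
      · exfalso
        rw [h] at hmul
        have h4 : (frattini G).relIndex K = 1 := by omega
        have hgK : g ∈ K := (le_sup_left : Subgroup.zpowers g ≤ K) (Subgroup.mem_zpowers g)
        exact hg (Subgroup.relIndex_eq_one.mp h4 hgK)
    have h4 := frattini_nongenerating h3
    exact isCyclic_iff_exists_zpowers_eq_top.mpr ⟨g, h4⟩

/-- The kernel of a homomorphism to `ℂˣ` with square one contains the Frattini subgroup. -/
theorem frattini_le_ker (φ : G →* ℂˣ) (hφ : ∀ g, φ g ^ 2 = 1) : frattini G ≤ φ.ker := by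
  by_cases htop : φ.ker = ⊤
  · rw [htop]; exact le_top
  apply frattini_le_coatom
  refine ⟨htop, ?_⟩
  intro H hH
  obtain ⟨h, hhH, hhK⟩ := SetLike.exists_of_lt hH
  rw [eq_top_iff]
  intro g _
  have hval : ∀ x : G, x ∉ φ.ker → φ x = -1 := by
    intro x hx
    have h1 := hφ x
    have h2 : φ x ≠ 1 := fun h => hx (MonoidHom.mem_ker.mpr h)
    have h3 : (φ x - 1 : ℂ) * (φ x + 1) = 0 := by
      have := congrArg (fun u : ℂˣ => (u : ℂ)) h1
      simp only [Units.val_pow_eq_pow_val, Units.val_one] at this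
      linear_combination this
    rcases mul_eq_zero.mp h3 with h4 | h4
    · exfalso; apply h2; apply Units.ext; simp only [Units.val_one]; linear_combination h4
    · apply Units.ext; simp only [Units.val_neg, Units.val_one]; linear_combination h4
  by_cases hg : g ∈ φ.ker
  · exact hH.le hg
  · have h1 : g * h⁻¹ ∈ φ.ker := by
      rw [MonoidHom.mem_ker, map_mul, map_inv, hval g hg, hval h hhK]
      simp
    have h2 : g * h⁻¹ * h ∈ H := H.mul_mem (hH.le h1) hhH
    simpa using h2

end GroupPart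

section GroupPart2

variable {G : Type*} [Group G] [Finite G]

/-- For a `2`-group, homomorphisms to `ℂˣ` of square one correspond to homomorphisms of the
Frattini quotient. -/
noncomputable def realHomEquiv (hG : IsPGroup 2 G) :
    {φ : G →* ℂˣ // ∀ g, φ g ^ 2 = 1} ≃ (G ⧸ frattini G →* ℂˣ) where
  toFun φ := QuotientGroup.lift (frattini G) φ.1 (frattini_le_ker φ.1 φ.2)
  invFun ψ := ⟨ψ.comp (QuotientGroup.mk' (frattini G)), fun g => by
    haveI : Fact (Nat.Prime 2) := ⟨Nat.prime_two⟩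
    have h1 : g ^ 2 ∈ frattini G := (Cfsg.Agent.S0012.result 2 hG).2 g
    rw [MonoidHom.comp_apply, ← map_pow, QuotientGroup.mk'_apply, ← QuotientGroup.mk_pow,
      (QuotientGroup.eq_one_iff _).mpr h1, map_one]⟩
  left_inv φ := by
    apply Subtype.ext
    ext g
    simp
  right_inv ψ := by
    ext x
    simp

theorem quotient_frattini_comm (hG : IsPGroup 2 G) (a b : G ⧸ frattini G) : a * b = b * a := by
  haveI : Fact (Nat.Prime 2) := ⟨Nat.prime_two⟩
  obtain ⟨x, rfl⟩ := QuotientGroup.mk_surjective a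
  obtain ⟨y, rfl⟩ := QuotientGroup.mk_surjective b
  rw [← QuotientGroup.mk_mul, ← QuotientGroup.mk_mul, QuotientGroup.eq]
  apply (Cfsg.Agent.S0012.result 2 hG).1
  have : (x * y)⁻¹ * (y * x) = ⁅y⁻¹, x⁻¹⁆ := by
    rw [commutatorElement_def]; group
  rw [this]
  exact Subgroup.commutator_mem_commutator (Subgroup.mem_top _) (Subgroup.mem_top _)

theorem card_realHom (hG : IsPGroup 2 G) :
    Nat.card {φ : G →* ℂˣ // ∀ g, φ g ^ 2 = 1} = (frattini G).index := by
  haveI : Fact (Nat.Prime 2) := ⟨Nat.prime_two⟩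
  rw [Nat.card_congr (realHomEquiv hG)]
  letI : CommGroup (G ⧸ frattini G) :=
    { (inferInstance : Group (G ⧸ frattini G)) with
      mul_comm := quotient_frattini_comm hG }
  have hne : NeZero ((Monoid.exponent (G ⧸ frattini G) : ℕ) : ℂ) :=
    ⟨by exact_mod_cast Monoid.exponent_ne_zero_of_finite⟩
  rw [CommGroup.card_monoidHom_of_hasEnoughRootsOfUnity (G ⧸ frattini G) ℂ]
  rw [Subgroup.index_eq_card]

end GroupPart2

section CharPart

variable {G : Type*} [Group G] [Fintype G]

/-- The Frobenius–Schur indicator. -/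
noncomputable def fsν (χ : IrrCharacter G) : ℂ :=
  (Nat.card G : ℂ)⁻¹ * ∑ s : G, (χ : G → ℂ) (s * s)

theorem fsν_trichotomy (χ : IrrCharacter G) : fsν χ = 0 ∨ fsν χ = 1 ∨ fsν χ = -1 := by
  obtain ⟨n, ρ, hirr, hχ⟩ := χ.2
  haveI := hirr
  have h := (Cfsg.Agent.S0158.result ρ).1
  rw [hχ] at h
  exact h

theorem fsν_eq_zero_iff (χ : IrrCharacter G) : fsν χ = 0 ↔ ∃ s : G, ((χ : G → ℂ) s).im ≠ 0 := by
  obtain ⟨n, ρ, hirr, hχ⟩ := χ.2
  haveI := hirr
  have h := (Cfsg.Agent.S0158.result ρ).2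
  rw [hχ] at h
  exact h

/-- The integer-valued indicator. -/
noncomputable def νz (χ : IrrCharacter G) : ℤ := by
  classical exact if fsν χ = 1 then 1 else if fsν χ = -1 then -1 else 0

theorem νz_cast (χ : IrrCharacter G) : ((νz χ : ℤ) : ℂ) = fsν χ := by
  unfold νz
  rcases fsν_trichotomy χ with h | h | h
  · have h1 : fsν χ ≠ 1 := by rw [h]; norm_num
    have h2 : fsν χ ≠ -1 := by rw [h]; norm_num
    rw [if_neg h1, if_neg h2, h]; simp
  · rw [if_pos h, h]; simp
  · have h1 : fsν χ ≠ 1 := by rw [h]; norm_num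
    rw [if_neg h1, if_pos h, h]; simp

theorem νz_cases (χ : IrrCharacter G) : νz χ = 0 ∨ νz χ = 1 ∨ νz χ = -1 := by
  unfold νz
  split_ifs <;> simp

theorem νz_eq_zero_iff (χ : IrrCharacter G) : νz χ = 0 ↔ ∃ s : G, ((χ : G → ℂ) s).im ≠ 0 := by
  rw [← fsν_eq_zero_iff, ← νz_cast]
  simp

theorem fsν_conj (χ : IrrCharacter G) : fsν (conjIrrChar χ) = fsν χ := by
  have h1 : fsν (conjIrrChar χ) = conj (fsν χ) := by
    unfold fsν
    rw [map_mul, map_inv₀, Complex.conj_natCast, map_sum]
    rfl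
  rw [h1]
  rcases fsν_trichotomy χ with h | h | h <;> rw [h] <;> simp

theorem νz_conj (χ : IrrCharacter G) : νz (conjIrrChar χ) = νz χ := by
  have : ((νz (conjIrrChar χ) : ℤ) : ℂ) = ((νz χ : ℤ) : ℂ) := by
    rw [νz_cast, νz_cast, fsν_conj]
  exact_mod_cast this

theorem charDegree_conj (χ : IrrCharacter G) :
    charDegree (conjIrrChar χ : G → ℂ) = charDegree (χ : G → ℂ) := by
  have h1 := IsCharacter.apply_one_eq_charDegree (IsIrrCharacter.isCharacter (conjIrrChar χ).2)
  have h2 := IsCharacter.apply_one_eq_charDegree (IsIrrCharacter.isCharacter χ.2)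
  have h3 : (conjIrrChar χ : G → ℂ) 1 = conj ((χ : G → ℂ) 1) := rfl
  rw [h3, h2, Complex.conj_natCast] at h1
  exact_mod_cast h1.symm

theorem conjIrrChar_conjIrrChar (χ : IrrCharacter G) : conjIrrChar (conjIrrChar χ) = χ := by
  apply Subtype.ext
  funext g
  simp [conjIrrChar]

/-- The count of square roots of one, as an integer sum. -/
theorem card_sqrt_one_eq_sum :
    ((Nat.card {s : G // s * s = 1} : ℕ) : ℤ) =
      ∑ χ : IrrCharacter G, νz χ * ((charDegree (χ : G → ℂ) : ℕ) : ℤ) := by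
  have h := Cfsg.Agent.S0159.result (G := G)
  rw [finsum_eq_sum_of_fintype] at h
  have h2 : ∀ χ : IrrCharacter G,
      ((Nat.card G : ℂ)⁻¹ * ∑ s : G, (χ : G → ℂ) (s * s)) * (χ : G → ℂ) 1 =
        ((νz χ * ((charDegree (χ : G → ℂ) : ℕ) : ℤ) : ℤ) : ℂ) := by
    intro χ
    rw [IsCharacter.apply_one_eq_charDegree (IsIrrCharacter.isCharacter χ.2)]
    push_cast
    rw [νz_cast]
    rfl
  rw [Finset.sum_congr rfl (fun χ _ => h2 χ), ← Int.cast_sum] at h
  exact_mod_cast h

/-- Value of the character attached to a homomorphism. -/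
theorem linearCharEquiv_symm_apply (φ : G →* ℂˣ) (g : G) :
    ((linearCharEquiv.symm φ).1 : G → ℂ) g = ((φ g : ℂˣ) : ℂ) := by
  have := linearCharEquiv_apply (linearCharEquiv.symm φ) g
  rw [Equiv.apply_symm_apply] at this
  exact this.symm

theorem fsν_linear (φ : G →* ℂˣ) [Decidable (∀ g, φ g ^ 2 = 1)] :
    fsν (linearCharEquiv.symm φ).1 = if (∀ g, φ g ^ 2 = 1) then 1 else 0 := by
  unfold fsν
  have hsum : ∑ s : G, ((linearCharEquiv.symm φ).1 : G → ℂ) (s * s) =
      ∑ s : G, (((φ s ^ 2 : ℂˣ)) : ℂ) := by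
    apply Finset.sum_congr rfl
    intro s _
    rw [linearCharEquiv_symm_apply, map_mul, pow_two]
  rw [hsum]
  split_ifs with h
  · have : ∑ s : G, (((φ s ^ 2 : ℂˣ)) : ℂ) = (Nat.card G : ℂ) := by
      rw [Finset.sum_congr rfl (fun s _ => by rw [h s])]
      simp [Nat.card_eq_fintype_card]
    rw [this, inv_mul_cancel₀]
    exact_mod_cast Nat.card_pos.ne'
  · let ψ : G →* ℂ := (Units.coeHom ℂ).comp (φ ^ 2)
    have hψ : ψ ≠ 1 := by
      intro h1
      apply h
      intro g
      have := DFunLike.congr_fun h1 g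
      apply Units.ext
      simpa [ψ] using this
    have := sum_hom_units_eq_zero ψ hψ
    have h2 : ∑ s : G, (((φ s ^ 2 : ℂˣ)) : ℂ) = ∑ g : G, ψ g := by
      apply Finset.sum_congr rfl; intro s _; simp [ψ]
    rw [h2, this, mul_zero]

theorem νz_linear (φ : G →* ℂˣ) [Decidable (∀ g, φ g ^ 2 = 1)] :
    νz (linearCharEquiv.symm φ).1 = if (∀ g, φ g ^ 2 = 1) then 1 else 0 := by
  have h := fsν_linear φ
  rw [← νz_cast] at h
  split_ifs with hc
  · rw [if_pos hc] at h; exact_mod_cast h
  · rw [if_neg hc] at h; exact_mod_cast h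

theorem sum_νz_linear :
    ∑ χ : {χ : IrrCharacter G // (χ : G → ℂ) 1 = 1}, νz χ.1 =
      ((Nat.card {φ : G →* ℂˣ // ∀ g, φ g ^ 2 = 1} : ℕ) : ℤ) := by
  classical
  have h1 : ∀ χ : {χ : IrrCharacter G // (χ : G → ℂ) 1 = 1},
      νz χ.1 = if (∀ g, linearCharEquiv χ g ^ 2 = 1) then 1 else 0 := by
    intro χ
    have := νz_linear (linearCharEquiv χ)
    rwa [Equiv.symm_apply_apply] at this
  rw [Finset.sum_congr rfl (fun χ _ => h1 χ), Finset.sum_boole]
  rw [Nat.card_congr (Equiv.subtypeEquiv linearCharEquiv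
    (p := fun χ => ∀ g, linearCharEquiv χ g ^ 2 = 1) (q := fun φ => ∀ g, φ g ^ 2 = 1)
    (fun χ => Iff.rfl)).symm]
  rw [Nat.card_eq_fintype_card, Fintype.card_subtype]

theorem apply_one_eq_one_iff (χ : IrrCharacter G) :
    (χ : G → ℂ) 1 = 1 ↔ charDegree (χ : G → ℂ) = 1 := by
  rw [IsCharacter.apply_one_eq_charDegree (IsIrrCharacter.isCharacter χ.2)]
  exact_mod_cast Iff.rfl

/-- In a `2`-group, nonlinear irreducible characters have even degree. -/
theorem even_charDegree (hG : IsPGroup 2 G) (χ : IrrCharacter G)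
    (h : charDegree (χ : G → ℂ) ≠ 1) : ∃ m : ℕ, charDegree (χ : G → ℂ) = 2 * m := by
  haveI : Fact (Nat.Prime 2) := ⟨Nat.prime_two⟩
  obtain ⟨n, hn⟩ := IsPGroup.iff_card.mp hG
  have hd := Cfsg.Agent.Lib.Helper79.irr_charDegree_dvd_card χ
  rw [hn] at hd
  obtain ⟨k, -, hk⟩ := (Nat.dvd_prime_pow Nat.prime_two).mp hd
  rcases Nat.eq_zero_or_pos k with h0 | h0
  · rw [h0, pow_zero] at hk; exact absurd hk h
  · obtain ⟨j, rfl⟩ : ∃ j, k = j + 1 := ⟨k - 1, by omega⟩
    exact ⟨2 ^ j, by rw [hk, pow_succ, mul_comm]⟩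

/-- The summand `d² - 2νd` in `ZMod 8`. -/
noncomputable def term (χ : IrrCharacter G) : ZMod 8 :=
  ((charDegree (χ : G → ℂ) : ℕ) : ZMod 8) ^ 2 -
    2 * ((νz χ : ℤ) : ZMod 8) * ((charDegree (χ : G → ℂ) : ℕ) : ZMod 8)

theorem term_conj (χ : IrrCharacter G) : term (conjIrrChar χ) = term χ := by
  unfold term
  rw [charDegree_conj, νz_conj]

theorem sum_term :
    ∑ χ : IrrCharacter G, term χ =
      ((Nat.card G : ℕ) : ZMod 8) - 2 * ((Nat.card {s : G // s * s = 1} : ℕ) : ZMod 8) := by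
  unfold term
  rw [Finset.sum_sub_distrib]
  congr 1
  · rw [← sum_irr_charDegree_sq (G := G)]
    push_cast
    rfl
  · have h := card_sqrt_one_eq_sum (G := G)
    have h2 : ((Nat.card {s : G // s * s = 1} : ℕ) : ZMod 8) =
        (((Nat.card {s : G // s * s = 1} : ℕ) : ℤ) : ZMod 8) := by push_cast; rfl
    rw [h2, h]
    push_cast
    rw [Finset.mul_sum]
    apply Finset.sum_congr rfl
    intro χ _
    ring

theorem sum_term_nonlinear (hG : IsPGroup 2 G) :
    ∑ χ ∈ Finset.univ.filter (fun χ : IrrCharacter G => ¬ (χ : G → ℂ) 1 = 1), term χ = 0 := by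
  have hA : ∀ x ν : ZMod 8, 2 * ((2 * x) ^ 2 - 2 * ν * (2 * x)) = 0 := by decide
  have hB : ∀ x : ZMod 8, (2 * x) ^ 2 - 2 * 1 * (2 * x) = 0 := by decide
  have hC : ∀ x : ZMod 8, (2 * x) ^ 2 - 2 * (-1) * (2 * x) = 0 := by decide
  refine Finset.sum_involution (fun χ _ => conjIrrChar χ) ?_ ?_ ?_ ?_
  · intro χ hχ
    rw [Finset.mem_filter] at hχ
    obtain ⟨m, hm⟩ := even_charDegree hG χ (fun h => hχ.2 ((apply_one_eq_one_iff χ).mpr h))
    rw [term_conj]
    unfold term
    rw [hm]
    push_cast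
    have := hA (m : ZMod 8) ((νz χ : ℤ) : ZMod 8)
    linear_combination this
  · intro χ hχ hne hfix
    apply hne
    rw [Finset.mem_filter] at hχ
    obtain ⟨m, hm⟩ := even_charDegree hG χ (fun h => hχ.2 ((apply_one_eq_one_iff χ).mpr h))
    have hreal := (conjIrrChar_eq_self_iff χ).mp hfix
    have hν : νz χ ≠ 0 := by
      intro h0
      obtain ⟨s, hs⟩ := (νz_eq_zero_iff χ).mp h0
      exact hs (hreal s)
    unfold term
    rw [hm]
    push_cast
    rcases νz_cases χ with h | h | h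
    · exact absurd h hν
    · rw [h]; push_cast; exact hB _
    · rw [h]; push_cast; exact hC _
  · intro χ hχ
    rw [Finset.mem_filter] at hχ ⊢
    refine ⟨Finset.mem_univ _, ?_⟩
    intro h
    apply hχ.2
    rw [apply_one_eq_one_iff] at h ⊢
    rwa [charDegree_conj] at h
  · intro χ _
    exact conjIrrChar_conjIrrChar χ

theorem sum_term_linear :
    ∑ χ ∈ Finset.univ.filter (fun χ : IrrCharacter G => (χ : G → ℂ) 1 = 1), term χ =
      (((commutator G).index : ℕ) : ZMod 8) -
        2 * ((Nat.card {φ : G →* ℂˣ // ∀ g, φ g ^ 2 = 1} : ℕ) : ZMod 8) := by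
  rw [Finset.sum_subtype (p := fun χ : IrrCharacter G => (χ : G → ℂ) 1 = 1)
    (Finset.univ.filter (fun χ : IrrCharacter G => (χ : G → ℂ) 1 = 1)) (by simp)]
  have h1 : ∀ χ : {χ : IrrCharacter G // (χ : G → ℂ) 1 = 1},
      term χ.1 = 1 - 2 * ((νz χ.1 : ℤ) : ZMod 8) := by
    intro χ
    unfold term
    rw [(apply_one_eq_one_iff χ.1).mp χ.2]
    push_cast
    ring
  rw [Finset.sum_congr rfl (fun χ _ => h1 χ), Finset.sum_sub_distrib, ← Finset.mul_sum,
    ← Int.cast_sum, sum_νz_linear]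
  congr 1
  · rw [Finset.sum_const, Finset.card_univ, ← Nat.card_eq_fintype_card, card_linear_characters]
    simp

/-- The main congruence. -/
theorem main_congr (hG : IsPGroup 2 G) :
    ((Nat.card G : ℕ) : ZMod 8) - 2 * ((Nat.card {s : G // s * s = 1} : ℕ) : ZMod 8) =
      (((commutator G).index : ℕ) : ZMod 8) -
        2 * ((Nat.card {φ : G →* ℂˣ // ∀ g, φ g ^ 2 = 1} : ℕ) : ZMod 8) := by
  rw [← sum_term, ← Finset.sum_filter_add_sum_filter_not Finset.univ
    (fun χ : IrrCharacter G => (χ : G → ℂ) 1 = 1), sum_term_nonlinear hG, add_zero,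
    sum_term_linear]

end CharPart

theorem card_sq_eq_one_eq {G : Type*} [Group G] [Finite G] :
    Nat.card {s : G // s * s = 1} = Nat.card {x : G // orderOf x = 2} + 1 := by
  haveI : Fact (Nat.Prime 2) := ⟨Nat.prime_two⟩
  have h1 : {s : G | s * s = 1} = insert 1 {x : G | orderOf x = 2} := by
    ext s
    simp only [Set.mem_setOf_eq, Set.mem_insert_iff]
    rw [orderOf_eq_prime_iff, pow_two]
    by_cases h : s = 1 <;> simp [h]
  change Nat.card {s : G | s * s = 1} = Nat.card {x : G | orderOf x = 2} + 1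
  rw [_root_.Nat.card_coe_set_eq, _root_.Nat.card_coe_set_eq, h1, Set.ncard_insert_of_notMem]
  simp

end Cfsg.Agent.Lib.Helper68.FSNu
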