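import Mathlib

/-!
# Transvection-like automorphisms of groups with central commutators

Let `G` be a finite group in which all commutators are central, `c` a central element of
order `p`, `w v : G` and `ε : ℕ` such that every `⁅y, w⁆` is a power of `c`,
`⁅y, v⁆ = ⁅y, w⁆ ^ ε` for all `y` and `v ^ p = c ^ (ε * p.choose 2)`.  Then
`y ↦ y * v ^ n * c ^ (- ε * n.choose 2)` (where `⁅y, w⁆ = c ^ n`) is an automorphism of `G`.

* `ε = 0`, `v` central of order dividing `p`: the central automorphism `y ↦ y * v ^ n`.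
* `ε = 1`, `v = w`: `y ↦ y * w ^ n * c ^ (- n.choose 2)`.
-/

set_option autoImplicit false

open scoped commutatorElement

namespace Cfsg.Agent.Lib.Helper68.LM

variable {G : Type*} [Group G]

/-- In a group in which all commutators are central, `k ↦ ⁅k, v⁆` is a homomorphism. -/
def cmR (hcen : ∀ x y z : G, Commute ⁅x, y⁆ z) (v : G) : G →* G where
  toFun k := ⁅k, v⁆
  map_one' := commutatorElement_one_left v
  map_mul' a b := by
    have h : ⁅a * b, v⁆ = a * ⁅b, v⁆ * a⁻¹ * ⁅a, v⁆ := by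
      simp only [commutatorElement_def]; group
    have h2 : a * ⁅b, v⁆ = ⁅b, v⁆ * a := ((hcen b v a).eq).symm
    have h3 : ⁅b, v⁆ * ⁅a, v⁆ = ⁅a, v⁆ * ⁅b, v⁆ := (hcen b v ⁅a, v⁆).eq
    rw [h, h2, mul_inv_cancel_right, h3]

@[simp] theorem cmR_apply (hcen : ∀ x y z : G, Commute ⁅x, y⁆ z) (v k : G) :
    cmR hcen v k = ⁅k, v⁆ := rfl

theorem comm_mul_left (hcen : ∀ x y z : G, Commute ⁅x, y⁆ z) (a b v : G) :
    ⁅a * b, v⁆ = ⁅a, v⁆ * ⁅b, v⁆ := map_mul (cmR hcen v) a b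

theorem comm_pow_left (hcen : ∀ x y z : G, Commute ⁅x, y⁆ z) (a v : G) (n : ℕ) :
    ⁅a ^ n, v⁆ = ⁅a, v⁆ ^ n := map_pow (cmR hcen v) a n

theorem comm_inv_left (hcen : ∀ x y z : G, Commute ⁅x, y⁆ z) (a v : G) :
    ⁅a⁻¹, v⁆ = ⁅a, v⁆⁻¹ := map_inv (cmR hcen v) a

theorem comm_mul_right (hcen : ∀ x y z : G, Commute ⁅x, y⁆ z) (v a b : G) :
    ⁅v, a * b⁆ = ⁅v, a⁆ * ⁅v, b⁆ := by
  rw [← commutatorElement_inv (a * b) v, comm_mul_left hcen, mul_inv_rev,
    commutatorElement_inv, commutatorElement_inv, (hcen v b ⁅v, a⁆).eq]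

theorem comm_pow_right (hcen : ∀ x y z : G, Commute ⁅x, y⁆ z) (v a : G) (n : ℕ) :
    ⁅v, a ^ n⁆ = ⁅v, a⁆ ^ n := by
  rw [← commutatorElement_inv (a ^ n) v, comm_pow_left hcen, ← inv_pow, commutatorElement_inv]

/-- `y * x = ⁅y, x⁆ * x * y`. -/
theorem mul_eq_comm_mul (y x : G) : y * x = ⁅y, x⁆ * x * y := by
  rw [commutatorElement_def]; group

theorem choose_two_add (n m : ℕ) : (n + m).choose 2 = n.choose 2 + m.choose 2 + n * m := by
  induction m with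
  | zero => simp
  | succ m ih =>
    have h1 : (n + (m + 1)).choose 2 = (n + m) + (n + m).choose 2 := by
      rw [← add_assoc, Nat.choose_succ_succ, Nat.choose_one_right]
    have h2 : (m + 1).choose 2 = m + m.choose 2 := by
      rw [Nat.choose_succ_succ, Nat.choose_one_right]
    rw [h1, h2, ih]
    ring

section Construction

variable (hcen : ∀ x y z : G, Commute ⁅x, y⁆ z) (c w v : G) (p ε : ℕ)

/-- The correction factor `v ^ n * c ^ (- ε * n.choose 2)`. -/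
def corr (c v : G) (ε n : ℕ) : G := v ^ n * (c ^ (ε * n.choose 2))⁻¹

theorem corr_zero (c v : G) (ε : ℕ) : corr c v ε 0 = 1 := by simp [corr]

theorem corr_add (hcc : ∀ g : G, Commute c g) (n m : ℕ) :
    corr c v ε (n + m) = corr c v ε n * corr c v ε m * (c ^ (ε * (n * m)))⁻¹ := by
  unfold corr
  rw [choose_two_add, mul_add, mul_add, pow_add, pow_add, pow_add, mul_inv_rev, mul_inv_rev]
  have h1 : ∀ k : ℕ, ∀ g : G, Commute (c ^ k)⁻¹ g := fun k g => ((hcc g).pow_left k).inv_left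
  have e1 := (h1 (ε * n.choose 2) (v ^ m)).eq
  have e2 := (h1 (ε * n.choose 2) ((c ^ (ε * m.choose 2))⁻¹)).eq
  have e3 := (h1 (ε * (n * m)) ((c ^ (ε * m.choose 2))⁻¹)).eq
  have e4 := (h1 (ε * (n * m)) ((c ^ (ε * n.choose 2))⁻¹)).eq
  calc v ^ n * v ^ m * ((c ^ (ε * (n * m)))⁻¹ * ((c ^ (ε * m.choose 2))⁻¹
        * (c ^ (ε * n.choose 2))⁻¹))
      = v ^ n * (v ^ m * (c ^ (ε * n.choose 2))⁻¹) * (c ^ (ε * m.choose 2))⁻¹
          * (c ^ (ε * (n * m)))⁻¹ := by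
        rw [← mul_assoc ((c ^ (ε * (n * m)))⁻¹), e3, mul_assoc ((c ^ (ε * m.choose 2))⁻¹), e4,
          ← mul_assoc ((c ^ (ε * m.choose 2))⁻¹), ← e2]
        simp only [mul_assoc]
    _ = v ^ n * (c ^ (ε * n.choose 2))⁻¹ * (v ^ m * (c ^ (ε * m.choose 2))⁻¹)
          * (c ^ (ε * (n * m)))⁻¹ := by
        rw [← e1]
        simp only [mul_assoc]

end Construction

/-- The data for the construction of the automorphism. -/
structure Data (G : Type*) [Group G] where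
  c : G
  w : G
  v : G
  p : ℕ
  ε : ℕ
  hcen : ∀ x y z : G, Commute ⁅x, y⁆ z
  hcc : ∀ g : G, Commute c g
  hord : orderOf c = p
  hp : 0 < p
  hw : ∀ y : G, ∃ n : ℕ, ⁅y, w⁆ = c ^ n
  hv : ∀ y : G, ⁅y, v⁆ = ⁅y, w⁆ ^ ε
  hvp : v ^ p = c ^ (ε * p.choose 2)

namespace Data

variable (D : Data G)

/-- The correction factor. -/
def F (n : ℕ) : G := corr D.c D.v D.ε n

theorem F_def (n : ℕ) : D.F n = D.v ^ n * (D.c ^ (D.ε * n.choose 2))⁻¹ := rfl

theorem c_pow_p : D.c ^ D.p = 1 := by rw [← D.hord]; exact pow_orderOf_eq_one _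

theorem F_zero : D.F 0 = 1 := corr_zero _ _ _

theorem F_p : D.F D.p = 1 := by
  rw [F_def, D.hvp, mul_inv_cancel]

theorem F_add (n m : ℕ) : D.F (n + m) = D.F n * D.F m * (D.c ^ (D.ε * (n * m)))⁻¹ :=
  corr_add D.c D.v D.ε D.hcc n m

theorem F_add_p (n : ℕ) : D.F (n + D.p) = D.F n := by
  rw [F_add, F_p, mul_one]
  have : D.c ^ (D.ε * (n * D.p)) = 1 := by
    rw [show D.ε * (n * D.p) = D.p * (D.ε * n) by ring, pow_mul, c_pow_p, one_pow]
  rw [this, inv_one, mul_one]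

theorem F_add_mul_p (n k : ℕ) : D.F (n + D.p * k) = D.F n := by
  induction k with
  | zero => simp
  | succ k ih => rw [mul_add, mul_one, ← add_assoc, F_add_p, ih]

theorem F_congr {n m : ℕ} (h : D.c ^ n = D.c ^ m) : D.F n = D.F m := by
  rw [pow_eq_pow_iff_modEq, D.hord] at h
  rcases le_total n m with hnm | hnm
  · obtain ⟨k, hk⟩ := (Nat.modEq_iff_dvd' hnm).mp h
    have : m = n + D.p * k := by omega
    rw [this, F_add_mul_p]
  · obtain ⟨k, hk⟩ := (Nat.modEq_iff_dvd' hnm).mp h.symm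
    have : n = m + D.p * k := by omega
    rw [this, F_add_mul_p]

/-- The underlying function of the automorphism. -/
noncomputable def φ (y : G) : G := y * D.F (Classical.choose (D.hw y))

theorem φ_eq {y : G} {n : ℕ} (h : ⁅y, D.w⁆ = D.c ^ n) : D.φ y = y * D.F n := by
  unfold φ
  rw [D.F_congr ((Classical.choose_spec (D.hw y)).symm.trans h)]

theorem c_pow_comm (k : ℕ) (g : G) : Commute (D.c ^ k)⁻¹ g := ((D.hcc g).pow_left k).inv_left

theorem F_mul_swap {y : G} {m : ℕ} (h : ⁅y, D.w⁆ = D.c ^ m) (n : ℕ) :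
    D.F n * y = y * D.F n * (D.c ^ (D.ε * (n * m)))⁻¹ := by
  have h1 : ⁅D.v ^ n, y⁆ = (D.c ^ (D.ε * (n * m)))⁻¹ := by
    rw [comm_pow_left D.hcen, ← commutatorElement_inv y D.v, D.hv, h, ← pow_mul, inv_pow,
      ← pow_mul]
    congr 2
    ring
  rw [F_def]
  calc D.v ^ n * (D.c ^ (D.ε * n.choose 2))⁻¹ * y
      = D.v ^ n * y * (D.c ^ (D.ε * n.choose 2))⁻¹ := by
        rw [mul_assoc, (D.c_pow_comm _ y).eq, ← mul_assoc]
    _ = ⁅D.v ^ n, y⁆ * y * D.v ^ n * (D.c ^ (D.ε * n.choose 2))⁻¹ := by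
        rw [mul_eq_comm_mul (D.v ^ n) y]
    _ = y * (D.v ^ n * (D.c ^ (D.ε * n.choose 2))⁻¹) * (D.c ^ (D.ε * (n * m)))⁻¹ := by
        rw [h1, (D.c_pow_comm _ y).eq, mul_assoc y, (D.c_pow_comm _ (D.v ^ n)).eq]
        simp only [mul_assoc]
        rw [(D.c_pow_comm (D.ε * (n * m)) ((D.c ^ (D.ε * n.choose 2))⁻¹)).eq]

theorem φ_mul (a b : G) : D.φ (a * b) = D.φ a * D.φ b := by
  obtain ⟨n, hn⟩ := D.hw a
  obtain ⟨m, hm⟩ := D.hw b
  have hab : ⁅a * b, D.w⁆ = D.c ^ (n + m) := by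
    rw [comm_mul_left D.hcen, hn, hm, pow_add]
  rw [D.φ_eq hab, D.φ_eq hn, D.φ_eq hm, F_add]
  calc a * b * (D.F n * D.F m * (D.c ^ (D.ε * (n * m)))⁻¹)
      = a * (b * D.F n * (D.c ^ (D.ε * (n * m)))⁻¹) * D.F m := by
        rw [mul_assoc (D.F n), ← (D.c_pow_comm _ (D.F m)).eq]
        simp only [mul_assoc]
    _ = a * (D.F n * b) * D.F m := by rw [← D.F_mul_swap hm n]
    _ = a * D.F n * (b * D.F m) := by simp only [mul_assoc]

theorem φ_one : D.φ 1 = 1 := by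
  have h : ⁅(1 : G), D.w⁆ = D.c ^ 0 := by simp
  rw [D.φ_eq h, F_zero, mul_one]

theorem comm_F_w (n : ℕ) : ⁅D.F n, D.w⁆ = 1 := by
  have h1 : ⁅D.v, D.w⁆ = 1 := by
    rw [← commutatorElement_inv D.w D.v, D.hv, commutatorElement_self, one_pow, inv_one]
  have h2 : ⁅(D.c ^ (D.ε * n.choose 2))⁻¹, D.w⁆ = 1 := by
    rw [commutatorElement_eq_one_iff_commute]
    exact D.c_pow_comm _ _
  rw [F_def, comm_mul_left D.hcen, comm_pow_left D.hcen, h1, one_pow, h2, mul_one]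

theorem φ_injective : Function.Injective D.φ := by
  have hker : ∀ y, D.φ y = 1 → y = 1 := by
    intro y hy
    obtain ⟨n, hn⟩ := D.hw y
    rw [D.φ_eq hn] at hy
    have hy' : y = (D.F n)⁻¹ := eq_inv_of_mul_eq_one_left hy
    have h1 : ⁅y, D.w⁆ = 1 := by
      rw [hy', comm_inv_left D.hcen, comm_F_w, inv_one]
    have h2 : D.c ^ n = D.c ^ 0 := by rw [← hn, h1, pow_zero]
    rw [D.F_congr h2, F_zero, mul_one] at hy
    exact hy
  intro a b hab
  have : D.φ (a * b⁻¹) = 1 := by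
    have hb : D.φ b⁻¹ = (D.φ b)⁻¹ := by
      apply eq_inv_of_mul_eq_one_left
      rw [← φ_mul, inv_mul_cancel, φ_one]
    rw [φ_mul, hb, hab, mul_inv_cancel]
  have := hker _ this
  exact mul_inv_eq_one.mp this

/-- The automorphism. -/
noncomputable def aut [Finite G] : MulAut G :=
  MulEquiv.ofBijective (MonoidHom.mk' D.φ D.φ_mul)
    ⟨D.φ_injective, Finite.surjective_of_injective D.φ_injective⟩

theorem aut_apply [Finite G] {y : G} {n : ℕ} (h : ⁅y, D.w⁆ = D.c ^ n) :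
    D.aut y = y * (D.v ^ n * (D.c ^ (D.ε * n.choose 2))⁻¹) := D.φ_eq h

end Data

end Cfsg.Agent.Lib.Helper68.LM
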