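import Mathlib

/-!
# Weighted orbit counting

* `card_orbits_mul_le_sum`: if `c ≤ |orbit y| * w y` for all `y` then `c * #orbits ≤ ∑ y, w y`.
* `card_autOrbits_le_card_conjClasses`: the number of `Aut(G)`-orbits on `G` is at most `k(G)`.
* `card_closure_le_of_mul_mem`: a set stable under right multiplication by a set `T` of
  group elements has at least `|⟨T⟩|` elements (if non-empty).
-/

set_option autoImplicit false

namespace Cfsg.Agent.Lib.Helper68

open MulAction

theorem card_orbits_mul_le_sum {A X : Type*} [Group A] [MulAction A X] [Fintype X]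
    (w : X → ℕ) (c : ℕ) (h : ∀ y, c ≤ Nat.card (orbit A y) * w y) :
    c * Nat.card (orbitRel.Quotient A X) ≤ ∑ y, w y := by
  classical
  have hsum : ∑ y, w y = ∑ q : orbitRel.Quotient A X,
      ∑ y ∈ Finset.univ.filter (fun y => (Quotient.mk'' y : orbitRel.Quotient A X) = q), w y :=
    (Finset.sum_fiberwise (s := Finset.univ)
      (g := fun y => (Quotient.mk'' y : orbitRel.Quotient A X)) (f := w)).symm
  rw [hsum, Nat.card_eq_fintype_card, ← Finset.card_univ, Finset.card_eq_sum_ones, Finset.mul_sum]
  apply Finset.sum_le_sum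
  intro q _
  rw [mul_one]
  set F := Finset.univ.filter (fun y => (Quotient.mk'' y : orbitRel.Quotient A X) = q) with hF
  have hcard : ∀ y ∈ F, Nat.card (orbit A y) = F.card := by
    intro y hy
    rw [hF, Finset.mem_filter] at hy
    rw [Nat.card_coe_set_eq, ← Set.ncard_coe_finset]
    congr 1
    ext a
    rw [hF, Finset.coe_filter]
    simp only [Finset.mem_univ, true_and, Set.mem_ofPred_eq]
    rw [← hy.2, ← orbitRel.Quotient.orbit_mk, orbitRel.Quotient.mem_orbit]
  have hne : F.Nonempty := by
    obtain ⟨y, hy⟩ := Quotient.exists_rep q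
    exact ⟨y, by rw [hF, Finset.mem_filter]; exact ⟨Finset.mem_univ _, hy⟩⟩
  have hpos : 0 < F.card := Finset.card_pos.mpr hne
  have h1 : F.card * c ≤ F.card * ∑ y ∈ F, w y := by
    rw [Finset.mul_sum]
    calc F.card * c = ∑ _y ∈ F, c := by rw [Finset.sum_const, smul_eq_mul]
      _ ≤ ∑ y ∈ F, F.card * w y := by
          apply Finset.sum_le_sum
          intro y hy
          rw [← hcard y hy]
          exact h y
  exact Nat.le_of_mul_le_mul_left h1 hpos

theorem card_autOrbits_le_card_conjClasses {G : Type*} [Group G] [Finite G] :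
    Nat.card (orbitRel.Quotient (MulAut G) G) ≤ Nat.card (ConjClasses G) := by
  have hwd : ∀ a b : G, IsConj a b →
      (Quotient.mk'' a : orbitRel.Quotient (MulAut G) G) = Quotient.mk'' b := by
    intro a b hab
    rw [isConj_iff] at hab
    obtain ⟨g, hg⟩ := hab
    apply Quotient.sound'
    change a ∈ orbit (MulAut G) b
    refine ⟨MulAut.conj g⁻¹, ?_⟩
    change (MulAut.conj g⁻¹) • b = a
    rw [MulAut.smul_def, MulAut.conj_apply, ← hg]
    group
  let f : ConjClasses G → orbitRel.Quotient (MulAut G) G :=
    Quotient.lift (fun a => (Quotient.mk'' a : orbitRel.Quotient (MulAut G) G)) hwd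
  have hf : Function.Surjective f := by
    intro q
    obtain ⟨y, hy⟩ := Quotient.exists_rep q
    exact ⟨ConjClasses.mk y, hy⟩
  exact Nat.card_le_card_of_surjective f hf

theorem card_closure_le_of_mul_mem {G : Type*} [Group G] [Finite G] (S T : Set G) (y : G)
    (hy : y ∈ S) (hT : ∀ s ∈ S, ∀ t ∈ T, s * t ∈ S) :
    Nat.card (Subgroup.closure T) ≤ Nat.card S := by
  have key : ∀ h ∈ Subgroup.closure T, ∀ s ∈ S, s * h ∈ S := by
    intro h hh
    rw [← Subgroup.mem_toSubmonoid, Subgroup.closure_toSubmonoid_of_finite] at hh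
    induction hh using Submonoid.closure_induction with
    | mem t ht => exact fun s hs => hT s hs t ht
    | one => intro s hs; rwa [mul_one]
    | mul a b _ _ iha ihb =>
      intro s hs
      rw [← mul_assoc]
      exact ihb _ (iha s hs)
  let f : Subgroup.closure T → S := fun h => ⟨y * h.1, key h.1 h.2 y hy⟩
  have hf : Function.Injective f := by
    intro a b hab
    have : y * a.1 = y * b.1 := congrArg Subtype.val hab
    exact Subtype.ext (mul_left_cancel this)
  exact Nat.card_le_card_of_injective f hf

end Cfsg.Agent.Lib.Helper68
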