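import Mathlib
import Cfsg.Agent.Lib.Helper68.LMAut
import Cfsg.Agent.Lib.Helper68.OrbitCount

/-!
# Groups whose commutator subgroup has order the smallest prime divisor of `|G|`

Structure lemmas for the proof of the Laffey–MacHale bound.
-/

set_option autoImplicit false

open scoped commutatorElement

namespace Cfsg.Agent.Lib.Helper68.LM

variable {G : Type*} [Group G]

theorem comm_mem_commutator (x y : G) : ⁅x, y⁆ ∈ commutator G := by
  rw [commutator_def]
  exact Subgroup.commutator_mem_commutator (Subgroup.mem_top x) (Subgroup.mem_top y)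

/-- `m ∣ n`, `m ≠ 1`, `m` not prime implies `(minFac n)² ≤ m`. -/
theorem minFac_sq_le_of_dvd {n m : ℕ} (hn : n ≠ 0) (hmn : m ∣ n) (h1 : m ≠ 1) (hpr : ¬ m.Prime) :
    n.minFac ^ 2 ≤ m := by
  have hm0 : 0 < m := Nat.pos_of_ne_zero (fun h => hn (by rw [h] at hmn; exact zero_dvd_iff.mp hmn))
  have h2 : n.minFac ≤ m.minFac :=
    Nat.minFac_le_of_dvd (Nat.minFac_prime h1).two_le ((Nat.minFac_dvd m).trans hmn)
  calc n.minFac ^ 2 ≤ m.minFac ^ 2 := Nat.pow_le_pow_left h2 2
    _ ≤ m := Nat.minFac_sq_le_self hm0 hpr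

/-- A divisor of `n` that is a proper multiple of `minFac n` is at least `(minFac n)²`. -/
theorem minFac_sq_le_of_mul_dvd {n k : ℕ} (hn : n ≠ 0) (hk : n.minFac * k ∣ n) (h1 : k ≠ 1) :
    n.minFac ^ 2 ≤ n.minFac * k := by
  have hk0 : k ≠ 0 := by
    rintro rfl
    rw [mul_zero] at hk
    exact hn (zero_dvd_iff.mp hk)
  have h2 : n.minFac ≤ k :=
    Nat.minFac_le_of_dvd (by omega) ((dvd_mul_left k _).trans hk)
  rw [sq]
  exact Nat.mul_le_mul_left _ h2

section Finite

variable [Finite G]

/-- If `H₁ < H₂` and `|H₁| = minFac |G|` then `(minFac |G|)² ≤ |H₂|`. -/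
theorem minFac_sq_le_card_of_lt {H₁ H₂ : Subgroup G} (hlt : H₁ < H₂)
    (h1 : Nat.card H₁ = (Nat.card G).minFac) : (Nat.card G).minFac ^ 2 ≤ Nat.card H₂ := by
  have hn : Nat.card G ≠ 0 := Nat.card_pos.ne'
  obtain ⟨k, hk⟩ := Subgroup.card_dvd_of_le hlt.le
  rw [h1] at hk
  have hk1 : k ≠ 1 := by
    rintro rfl
    rw [mul_one, ← h1] at hk
    exact hlt.ne (Subgroup.eq_of_le_of_card_ge hlt.le hk.le)
  rw [hk]
  apply minFac_sq_le_of_mul_dvd hn _ hk1
  rw [← hk]
  exact Subgroup.card_subgroup_dvd_card H₂

/-- In a non-abelian group, `(minFac |G|)² ≤ |G : Z(G)|`. -/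
theorem minFac_sq_le_index_center (hna : ∃ a b : G, a * b ≠ b * a) :
    (Nat.card G).minFac ^ 2 ≤ (Subgroup.center G).index := by
  have hn : Nat.card G ≠ 0 := Nat.card_pos.ne'
  apply minFac_sq_le_of_dvd hn (Subgroup.index_dvd_card _)
  · intro h1
    rw [Subgroup.index_eq_one] at h1
    obtain ⟨a, b, hab⟩ := hna
    apply hab
    have : a ∈ Subgroup.center G := h1 ▸ Subgroup.mem_top a
    exact (Subgroup.mem_center_iff.mp this b).symm
  · intro hpr
    have : Fact (Subgroup.center G).index.Prime := ⟨hpr⟩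
    have hcard : Nat.card (G ⧸ Subgroup.center G) = (Subgroup.center G).index :=
      (Subgroup.index_eq_card _).symm
    have : IsCyclic (G ⧸ Subgroup.center G) := isCyclic_of_prime_card hcard
    obtain ⟨a, b, hab⟩ := hna
    apply hab
    have hc : IsMulCommutative G :=
      MonoidHom.isMulCommutative_of_isCyclic_of_ker_le_center
        (QuotientGroup.mk' (Subgroup.center G)) (by rw [QuotientGroup.ker_mk'])
    exact hc.is_comm.comm a b

/-- A normal subgroup of order the smallest prime divisor of `|G|` is central. -/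
theorem le_center_of_card_eq_minFac (N : Subgroup G) [N.Normal]
    (hpr : (Nat.card G).minFac.Prime)
    (hN : Nat.card N = (Nat.card G).minFac) : N ≤ Subgroup.center G := by
  have : Fact (Nat.card G).minFac.Prime := ⟨hpr⟩
  have : IsCyclic N := isCyclic_of_prime_card hN
  let f : G →* MulAut N := MulAut.conjNormal
  have h1 : Nat.card f.range ∣ Nat.card G := Subgroup.card_range_dvd f
  have h2 : Nat.card f.range ∣ (Nat.card G).minFac - 1 := by
    have := Subgroup.card_subgroup_dvd_card f.range
    rwa [IsCyclic.card_mulAut, hN, Nat.totient_prime hpr] at this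
  have hcop : Nat.Coprime (Nat.card G) ((Nat.card G).minFac - 1) :=
    Nat.coprime_of_lt_minFac (by have := hpr.two_le; omega) (by have := hpr.two_le; omega)
  have h3 : Nat.card f.range = 1 := Nat.eq_one_of_dvd_coprimes hcop h1 h2
  have h4 : f.range = ⊥ := Subgroup.card_eq_one.mp h3
  intro n hn
  rw [Subgroup.mem_center_iff]
  intro g
  have h5 : f g = 1 := by
    have : f g ∈ f.range := ⟨g, rfl⟩
    rw [h4, Subgroup.mem_bot] at this
    exact this
  have h6 : ((f g) ⟨n, hn⟩ : G) = g * n * g⁻¹ := MulAut.conjNormal_apply g ⟨n, hn⟩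
  rw [h5] at h6
  simp only [MulAut.one_apply] at h6
  calc g * n = (g * n * g⁻¹) * g := by group
    _ = n * g := by rw [← h6]

/-- Automorphisms preserve (non-)centrality. -/
theorem aut_mem_center_iff (φ : MulAut G) (s : G) :
    φ s ∈ Subgroup.center G ↔ s ∈ Subgroup.center G := by
  constructor
  · intro h
    rw [Subgroup.mem_center_iff] at h ⊢
    intro g
    apply φ.injective
    rw [map_mul, map_mul]
    exact h (φ g)
  · intro h
    rw [Subgroup.mem_center_iff] at h ⊢
    intro g
    obtain ⟨g', rfl⟩ := φ.surjective g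
    rw [← map_mul, ← map_mul, h g']

theorem not_mem_center_of_mem_orbit {s s' : G} (h : s' ∈ MulAction.orbit (MulAut G) s)
    (hs : s ∉ Subgroup.center G) : s' ∉ Subgroup.center G := by
  obtain ⟨φ, rfl⟩ := h
  change φ s ∉ _
  rwa [aut_mem_center_iff]

/-- The hypotheses of "Case 2": the commutator subgroup has order the smallest prime divisor
of `|G|`. -/
structure C2 (G : Type*) [Group G] [Finite G] : Prop where
  hpr : (Nat.card G).minFac.Prime
  hcard : Nat.card (commutator G) = (Nat.card G).minFac

namespace C2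

variable (h : C2 G)
include h

theorem le_center : commutator G ≤ Subgroup.center G :=
  le_center_of_card_eq_minFac (commutator G) h.hpr h.hcard

theorem hcen (x y z : G) : Commute ⁅x, y⁆ z :=
  (Subgroup.mem_center_iff.mp (h.le_center (comm_mem_commutator x y)) z).symm

theorem pow_p_eq_one {c : G} (hc : c ∈ commutator G) : c ^ (Nat.card G).minFac = 1 := by
  have : (⟨c, hc⟩ : commutator G) ^ Nat.card (commutator G) = 1 := pow_card_eq_one'
  rw [h.hcard] at this
  exact congrArg Subtype.val this

theorem orderOf_eq {c : G} (hc : c ∈ commutator G) (hc1 : c ≠ 1) :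
    orderOf c = (Nat.card G).minFac := by
  have : Fact (Nat.card G).minFac.Prime := ⟨h.hpr⟩
  exact orderOf_eq_prime (h.pow_p_eq_one hc) hc1

theorem exists_pow_eq {c : G} (hc : c ∈ commutator G) (hc1 : c ≠ 1) {g : G}
    (hg : g ∈ commutator G) : ∃ n : ℕ, g = c ^ n := by
  have : Fact (Nat.card G).minFac.Prime := ⟨h.hpr⟩
  have hne : (⟨c, hc⟩ : commutator G) ≠ 1 := fun h' => hc1 (congrArg Subtype.val h')
  have := mem_powers_of_prime_card (g' := (⟨g, hg⟩ : commutator G)) h.hcard hne
  obtain ⟨n, hn⟩ := this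
  exact ⟨n, (congrArg Subtype.val hn).symm⟩

theorem exists_comm_ne_one {s : G} (hs : s ∉ Subgroup.center G) : ∃ u : G, ⁅s, u⁆ ≠ 1 := by
  rw [Subgroup.mem_center_iff] at hs
  push Not at hs
  obtain ⟨u, hu⟩ := hs
  refine ⟨u, fun h1 => hu ?_⟩
  rw [commutatorElement_eq_one_iff_commute] at h1
  exact h1.eq.symm

theorem exists_conj {s : G} (hs : s ∉ Subgroup.center G) {g' : G} (hg' : g' ∈ commutator G) :
    ∃ y : G, y * s * y⁻¹ = s * g' := by
  obtain ⟨u, hu⟩ := h.exists_comm_ne_one hs
  have hu' : ⁅u, s⁆ ≠ 1 := by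
    rw [← commutatorElement_inv s u]
    exact inv_ne_one.mpr hu
  obtain ⟨n, hn⟩ := h.exists_pow_eq (comm_mem_commutator u s) hu' hg'
  refine ⟨u ^ n, ?_⟩
  have h1 : ⁅u ^ n, s⁆ = g' := by rw [comm_pow_left h.hcen, hn]
  have h2 : u ^ n * s * (u ^ n)⁻¹ = ⁅u ^ n, s⁆ * s := by
    rw [commutatorElement_def]; group
  rw [h2, h1]
  exact ((Subgroup.mem_center_iff.mp (h.le_center hg') s)).symm

theorem mul_mem_orbit {s : G} (hs : s ∉ Subgroup.center G) {g' : G} (hg' : g' ∈ commutator G) :
    s * g' ∈ MulAction.orbit (MulAut G) s := by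
  obtain ⟨y, hy⟩ := h.exists_conj hs hg'
  refine ⟨MulAut.conj y, ?_⟩
  change (MulAut.conj y) • s = s * g'
  rw [MulAut.smul_def, MulAut.conj_apply, hy]

theorem orbit_subset {s s' : G} (hs' : s' ∈ MulAction.orbit (MulAut G) s) :
    MulAction.orbit (MulAut G) s' = MulAction.orbit (MulAut G) s :=
  MulAction.orbit_eq_iff.mpr hs'

/-- Case (2a): a central element of order `p` outside `G'` forces all non-central
orbits to have at least `p²` elements. -/
theorem orbit_ge_of_omega {ω : G} (hω : ω ∈ Subgroup.center G)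
    (hωp : ω ^ (Nat.card G).minFac = 1) (hωn : ω ∉ commutator G)
    {s : G} (hs : s ∉ Subgroup.center G) :
    (Nat.card G).minFac ^ 2 ≤ Nat.card (MulAction.orbit (MulAut G) s) := by
  set S : Set G := MulAction.orbit (MulAut G) s with hS
  set T : Set G := (commutator G : Set G) ∪ {ω} with hT
  have key : ∀ s' ∈ S, ∀ t ∈ T, s' * t ∈ S := by
    intro s' hs' t ht
    have hs'c : s' ∉ Subgroup.center G := not_mem_center_of_mem_orbit hs' hs
    have hsub : MulAction.orbit (MulAut G) s' = S := h.orbit_subset hs'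
    rw [← hsub]
    rcases ht with ht | ht
    · exact h.mul_mem_orbit hs'c ht
    · rw [Set.mem_singleton_iff] at ht
      subst ht
      obtain ⟨u, hu⟩ := h.exists_comm_ne_one hs'c
      let D : Data G :=
        { c := ⁅s', u⁆
          w := u
          v := t
          p := (Nat.card G).minFac
          ε := 0
          hcen := h.hcen
          hcc := fun g => h.hcen s' u g
          hord := h.orderOf_eq (comm_mem_commutator s' u) hu
          hp := h.hpr.pos
          hw := fun y => h.exists_pow_eq (comm_mem_commutator s' u) hu (comm_mem_commutator y u)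
          hv := fun y => by
            rw [pow_zero, commutatorElement_eq_one_iff_commute]
            exact (Subgroup.mem_center_iff.mp hω y)
          hvp := by rw [hωp, zero_mul, pow_zero] }
      have h1 : D.aut s' = s' * (t ^ 1 * ((⁅s', u⁆) ^ (0 * Nat.choose 1 2))⁻¹) :=
        D.aut_apply (n := 1) (by simp [D])
      refine ⟨D.aut, ?_⟩
      change D.aut • s' = s' * t
      rw [MulAut.smul_def, h1]
      simp
  have h1 := card_closure_le_of_mul_mem S T s (MulAction.mem_orbit_self s) key
  have hlt : commutator G < Subgroup.closure T := by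
    refine lt_of_le_of_ne ?_ ?_
    · intro g hg
      exact Subgroup.subset_closure (Or.inl hg)
    · intro heq
      apply hωn
      rw [heq]
      exact Subgroup.subset_closure (Or.inr rfl)
  exact (minFac_sq_le_card_of_lt hlt h.hcard).trans h1

/-- Case (2b): if `x ^ p = c ^ (p.choose 2)` for a generator `c` of `G'`, then every element
not commuting with `x` has an orbit of size at least `p²`. -/
theorem orbit_ge_of_good {x c : G} (hc : c ∈ commutator G) (hc1 : c ≠ 1)
    (hx : x ^ (Nat.card G).minFac = c ^ ((Nat.card G).minFac.choose 2))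
    {y : G} (hy : ⁅y, x⁆ ≠ 1) :
    (Nat.card G).minFac ^ 2 ≤ Nat.card (MulAction.orbit (MulAut G) y) := by
  have hccen : ∀ g : G, Commute c g := fun g =>
    (Subgroup.mem_center_iff.mp (h.le_center hc) g).symm
  let D : Data G :=
    { c := c
      w := x
      v := x
      p := (Nat.card G).minFac
      ε := 1
      hcen := h.hcen
      hcc := hccen
      hord := h.orderOf_eq hc hc1
      hp := h.hpr.pos
      hw := fun y => h.exists_pow_eq hc hc1 (comm_mem_commutator y x)
      hv := fun y => (pow_one _).symm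
      hvp := by rw [one_mul]; exact hx }
  obtain ⟨n, hn⟩ := h.exists_pow_eq hc hc1 (comm_mem_commutator y x)
  set g : G := x ^ n * (c ^ (1 * n.choose 2))⁻¹ with hg
  set S : Set G := {s | s ∈ MulAction.orbit (MulAut G) y ∧ ⁅s, x⁆ = ⁅y, x⁆} with hS
  set T : Set G := {c, g} with hT
  have hgx : ⁅g, x⁆ = 1 := D.comm_F_w n
  have key : ∀ s' ∈ S, ∀ t ∈ T, s' * t ∈ S := by
    rintro s' ⟨hs'o, hs'x⟩ t ht
    have hs'c : s' ∉ Subgroup.center G := by
      intro hcen'
      apply hy
      rw [← hs'x, commutatorElement_eq_one_iff_commute]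
      exact (Subgroup.mem_center_iff.mp hcen' x).symm
    have hsub : MulAction.orbit (MulAut G) s' = MulAction.orbit (MulAut G) y :=
      h.orbit_subset hs'o
    rcases ht with ht | ht
    · subst ht
      refine ⟨?_, ?_⟩
      · rw [← hsub]
        exact h.mul_mem_orbit hs'c hc
      · rw [comm_mul_left h.hcen, hs'x]
        have : ⁅t, x⁆ = 1 := by
          rw [commutatorElement_eq_one_iff_commute]; exact hccen x
        rw [this, mul_one]
    · rw [Set.mem_singleton_iff] at ht
      subst ht
      have h1 : D.aut s' = s' * (x ^ n * (c ^ (1 * n.choose 2))⁻¹) :=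
        D.aut_apply (n := n) (by rw [hs'x, hn])
      refine ⟨?_, ?_⟩
      · rw [← hsub]
        refine ⟨D.aut, ?_⟩
        change D.aut • s' = _
        rw [MulAut.smul_def, h1]
      · rw [comm_mul_left h.hcen, hs'x, hgx, mul_one]
  have h1 := card_closure_le_of_mul_mem S T y ⟨MulAction.mem_orbit_self y, rfl⟩ key
  have h2 : Nat.card S ≤ Nat.card (MulAction.orbit (MulAut G) y) := by
    apply Nat.card_mono (Set.toFinite _)
    intro s hs
    exact hs.1
  have hlt : commutator G < Subgroup.closure T := by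
    refine lt_of_le_of_ne ?_ ?_
    · intro g' hg'
      obtain ⟨k, rfl⟩ := h.exists_pow_eq hc hc1 hg'
      have hcT : c ∈ T := Set.mem_insert c _
      exact pow_mem (Subgroup.subset_closure hcT) k
    · intro heq
      have hgm : g ∈ commutator G := by
        rw [heq]
        have hgT : g ∈ T := Set.mem_insert_of_mem c rfl
        exact Subgroup.subset_closure hgT
      have hxn : x ^ n ∈ commutator G := by
        have : x ^ n = g * c ^ (1 * n.choose 2) := by rw [hg]; group
        rw [this]
        exact Subgroup.mul_mem _ hgm (Subgroup.pow_mem _ hc _)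
      have hxc : x ^ n ∈ Subgroup.center G := h.le_center hxn
      have h3 : ⁅y, x ^ n⁆ = 1 := by
        rw [commutatorElement_eq_one_iff_commute]
        exact (Subgroup.mem_center_iff.mp hxc y)
      rw [comm_pow_right h.hcen, hn, ← pow_mul] at h3
      have h4 : (Nat.card G).minFac ∣ n * n := by
        rw [← h.orderOf_eq hc hc1]
        exact orderOf_dvd_of_pow_eq_one h3
      have h5 : (Nat.card G).minFac ∣ n := by
        rcases (Nat.Prime.dvd_mul h.hpr).mp h4 with h' | h' <;> exact h'
      apply hy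
      rw [hn]
      obtain ⟨k, rfl⟩ := h5
      rw [pow_mul, h.pow_p_eq_one hc, one_pow]
  exact ((minFac_sq_le_card_of_lt hlt h.hcard).trans h1).trans h2

end C2

end Finite

end Cfsg.Agent.Lib.Helper68.LM
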