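import Mathlib
import Cfsg.Agent.Lib.Helper68.LMStruct
import Cfsg.Agent.Lib.Helper24.PGroupBasic

/-!
# Existence of a "good" element in case (2b) of the Laffey–MacHale bound

If every central element of order dividing `p` lies in `G'` (of order `p`), there is a
non-central `x` and a generator `c` of `G'` with `x ^ p = c ^ (p.choose 2)`.
-/

set_option autoImplicit false

open scoped commutatorElement

namespace Cfsg.Agent.Lib.Helper68.LM

variable {G : Type*} [Group G] [Finite G]

namespace C2

variable (h : C2 G)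
include h

theorem exists_comm_ne_one' : ∃ a b : G, ⁅a, b⁆ ≠ 1 := by
  by_contra hall
  push Not at hall
  have hle : commutator G ≤ ⊥ := by
    rw [commutator_def, Subgroup.commutator_le]
    intro a _ b _
    rw [Subgroup.mem_bot]
    exact hall a b
  have h1 : Nat.card (commutator G) = 1 := by
    rw [le_bot_iff] at hle
    rw [hle]
    exact Subgroup.card_bot
  have := h.hpr.two_le
  have := h.hcard
  omega

theorem exists_not_comm : ∃ a b : G, a * b ≠ b * a := by
  obtain ⟨a, b, hab⟩ := h.exists_comm_ne_one'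
  refine ⟨a, b, fun h' => hab ?_⟩
  rw [commutatorElement_eq_one_iff_commute]
  exact h'

/-- Class two power formula. -/
theorem mul_pow_formula (a b : G) (m : ℕ) :
    (a * b) ^ m = a ^ m * b ^ m * ⁅b, a⁆ ^ (m.choose 2) :=
  Cfsg.Agent.Lib.Helper24.mul_pow_of_central_comm a b ⁅b, a⁆ (mul_eq_comm_mul b a)
    (h.hcen b a a) (h.hcen b a b) m

theorem pow_p_mem_center (y : G) : y ^ (Nat.card G).minFac ∈ Subgroup.center G := by
  rw [Subgroup.mem_center_iff]
  intro g
  have h1 : ⁅y ^ (Nat.card G).minFac, g⁆ = 1 := by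
    rw [comm_pow_left h.hcen, h.pow_p_eq_one (comm_mem_commutator y g)]
  rw [commutatorElement_eq_one_iff_commute] at h1
  exact h1.eq.symm

theorem card_center_mul_sq_le :
    Nat.card (Subgroup.center G) * (Nat.card G).minFac ^ 2 ≤ Nat.card G := by
  calc Nat.card (Subgroup.center G) * (Nat.card G).minFac ^ 2
      ≤ Nat.card (Subgroup.center G) * (Subgroup.center G).index :=
        Nat.mul_le_mul_left _ (minFac_sq_le_index_center h.exists_not_comm)
    _ = Nat.card G := (Subgroup.center G).card_mul_index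

/-- Good element, `p` odd. -/
theorem exists_good_odd (hodd : Odd (Nat.card G).minFac)
    (hΩ : ∀ z ∈ Subgroup.center G, z ^ (Nat.card G).minFac = 1 → z ∈ commutator G) :
    ∃ x : G, x ∉ Subgroup.center G ∧ x ^ (Nat.card G).minFac = 1 := by
  set p := (Nat.card G).minFac with hp
  have hp3 : 2 < p := by
    have := h.hpr.two_le
    rcases hodd with ⟨k, hk⟩
    omega
  have hdvd : p ∣ p.choose 2 := Nat.Prime.dvd_choose_self h.hpr (by norm_num) hp3
  let P : G →* G :=
    { toFun := fun y => y ^ p
      map_one' := one_pow p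
      map_mul' := fun a b => by
        rw [h.mul_pow_formula a b p]
        obtain ⟨k, hk⟩ := hdvd
        rw [hk, pow_mul, h.pow_p_eq_one (comm_mem_commutator b a), one_pow, mul_one] }
  by_contra hall
  push Not at hall
  have hker : P.ker ≤ commutator G := by
    intro x hx
    have hx1 : x ^ p = 1 := hx
    by_cases hxc : x ∈ Subgroup.center G
    · exact hΩ x hxc hx1
    · exact absurd hx1 (hall x hxc)
  have hrange : P.range ≤ Subgroup.center G := by
    rintro _ ⟨y, rfl⟩
    exact h.pow_p_mem_center y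
  have h1 : Nat.card P.ker ≤ p := by
    rw [hp, ← h.hcard]
    exact Subgroup.card_le_of_le hker
  have h2 : Nat.card P.range ≤ Nat.card (Subgroup.center G) := Subgroup.card_le_of_le hrange
  have h3 : Nat.card P.ker * Nat.card P.range = Nat.card G := by
    rw [← Subgroup.index_ker, Subgroup.card_mul_index]
  have h4 := h.card_center_mul_sq_le
  have h5 : Nat.card G ≤ p * Nat.card (Subgroup.center G) := by
    rw [← h3]
    exact Nat.mul_le_mul h1 h2
  have hz : 0 < Nat.card (Subgroup.center G) := Nat.card_pos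
  have h6 : Nat.card (Subgroup.center G) * p ^ 2 ≤ Nat.card (Subgroup.center G) * p := by
    calc Nat.card (Subgroup.center G) * p ^ 2 ≤ Nat.card G := h4
      _ ≤ p * Nat.card (Subgroup.center G) := h5
      _ = Nat.card (Subgroup.center G) * p := mul_comm _ _
  have h7 : p ^ 2 ≤ p := Nat.le_of_mul_le_mul_left h6 hz
  nlinarith

/-- From `x² c⁻¹ = z²` with `z` central we get a non-central `x'` with `x'² = c`. -/
theorem good_of_sq {x c : G} (hx : x ∉ Subgroup.center G) (z : Subgroup.center G)
    (hz : x ^ 2 * c⁻¹ = (z : G) ^ 2) : ∃ x' : G, x' ∉ Subgroup.center G ∧ x' ^ 2 = c := by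
  refine ⟨x * (z : G)⁻¹, ?_, ?_⟩
  · intro hmem
    apply hx
    have : x = x * (z : G)⁻¹ * (z : G) := by group
    rw [this]
    exact Subgroup.mul_mem _ hmem z.2
  · have hcomm0 : Commute x (z : G) := Subgroup.mem_center_iff.mp z.2 x
    have hcomm : Commute x (z : G)⁻¹ := hcomm0.inv_right
    have hc2 : x ^ 2 * ((z : G) ^ 2)⁻¹ = ((z : G) ^ 2)⁻¹ * x ^ 2 :=
      ((hcomm0.pow_left 2).pow_right 2).inv_right.eq
    rw [hcomm.mul_pow, inv_pow, hc2, ← hz]
    group

/-- Good element, `p = 2`. -/
theorem exists_good_two (h2 : (Nat.card G).minFac = 2)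
    (hΩ : ∀ z ∈ Subgroup.center G, z ^ (Nat.card G).minFac = 1 → z ∈ commutator G) :
    ∃ x c : G, x ∉ Subgroup.center G ∧ c ∈ commutator G ∧ c ≠ 1 ∧ x ^ 2 = c := by
  obtain ⟨a, b, hab⟩ := h.exists_comm_ne_one'
  set c := ⁅a, b⁆ with hc
  have hcm : c ∈ commutator G := comm_mem_commutator a b
  have hccen : c ∈ Subgroup.center G := h.le_center hcm
  have hcinv : c⁻¹ ∈ Subgroup.center G := Subgroup.inv_mem _ hccen
  have hsqc : ∀ y : G, y ^ 2 ∈ Subgroup.center G := by
    intro y
    have := h.pow_p_mem_center y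
    rwa [h2] at this
  -- the squaring map on the centre
  let sq : Subgroup.center G →* Subgroup.center G :=
    { toFun := fun z => z ^ 2
      map_one' := one_pow 2
      map_mul' := fun z₁ z₂ => by
        have hcm : Commute z₁ z₂ := by
          apply Subtype.ext
          exact Subgroup.mem_center_iff.mp z₂.2 z₁
        exact hcm.mul_pow 2 }
  have hker : Nat.card sq.ker ≤ 2 := by
    have hmem : ∀ z : sq.ker, ((z : Subgroup.center G) : G) ∈ commutator G := by
      intro z
      apply hΩ _ (z : Subgroup.center G).2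
      rw [h2]
      have : sq (z : Subgroup.center G) = 1 := z.2
      have h' : ((z : Subgroup.center G) ^ 2 : Subgroup.center G) = 1 := this
      exact_mod_cast congrArg Subtype.val h'
    let f : sq.ker → commutator G := fun z => ⟨((z : Subgroup.center G) : G), hmem z⟩
    have hf : Function.Injective f := by
      intro z₁ z₂ h12
      have h12' : ((f z₁ : commutator G) : G) = ((f z₂ : commutator G) : G) := by rw [h12]
      have : ((z₁ : Subgroup.center G) : G) = ((z₂ : Subgroup.center G) : G) := h12'
      exact Subtype.ext (Subtype.ext this)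
    have := Nat.card_le_card_of_injective f hf
    rwa [h.hcard, h2] at this
  have hidx : sq.range.index ≤ 2 := by
    have e1 : Nat.card sq.ker * Nat.card sq.range = Nat.card (Subgroup.center G) := by
      rw [← Subgroup.index_ker, Subgroup.card_mul_index]
    have e2 : Nat.card sq.range * sq.range.index = Nat.card (Subgroup.center G) :=
      sq.range.card_mul_index
    have hpos : 0 < Nat.card sq.range := Nat.card_pos
    have e3 : Nat.card sq.range * sq.range.index = Nat.card sq.range * Nat.card sq.ker := by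
      rw [e2, ← e1, mul_comm]
    have := Nat.eq_of_mul_eq_mul_left hpos e3
    omega
  have hidx0 : sq.range.index ≠ 0 := Subgroup.index_ne_zero_of_finite
  -- three candidates
  let za : Subgroup.center G := ⟨a ^ 2 * c⁻¹, Subgroup.mul_mem _ (hsqc a) hcinv⟩
  let zb : Subgroup.center G := ⟨b ^ 2 * c⁻¹, Subgroup.mul_mem _ (hsqc b) hcinv⟩
  have hzab : ((za * zb : Subgroup.center G) : G) = (a * b) ^ 2 * c⁻¹ := by
    have h1 : (a * b) ^ 2 = a ^ 2 * b ^ 2 * ⁅b, a⁆ ^ 1 := by
      have := h.mul_pow_formula a b 2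
      simpa using this
    have h2' : ⁅b, a⁆ = c⁻¹ := by rw [hc, commutatorElement_inv]
    have h3 : c⁻¹ * b ^ 2 = b ^ 2 * c⁻¹ := (Subgroup.mem_center_iff.mp hcinv (b ^ 2)).symm
    rw [h1, h2', pow_one]
    change a ^ 2 * c⁻¹ * (b ^ 2 * c⁻¹) = _
    rw [mul_assoc (a ^ 2), ← mul_assoc c⁻¹, h3]
    simp only [mul_assoc]
  have hthree : za ∈ sq.range ∨ zb ∈ sq.range ∨ za * zb ∈ sq.range := by
    by_cases h1 : sq.range.index = 1
    · rw [Subgroup.index_eq_one] at h1
      left
      rw [h1]
      exact Subgroup.mem_top _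
    · have h2'' : sq.range.index = 2 := by omega
      by_cases ha : za ∈ sq.range
      · exact Or.inl ha
      · by_cases hb : zb ∈ sq.range
        · exact Or.inr (Or.inl hb)
        · right; right
          rw [Subgroup.mul_mem_iff_of_index_two h2'']
          exact ⟨fun h' => absurd h' ha, fun h' => absurd h' hb⟩
  have hanc : a ∉ Subgroup.center G := by
    intro hmem
    apply hab
    rw [commutatorElement_eq_one_iff_commute]
    exact (Subgroup.mem_center_iff.mp hmem b).symm
  have hbnc : b ∉ Subgroup.center G := by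
    intro hmem
    apply hab
    rw [commutatorElement_eq_one_iff_commute]
    exact (Subgroup.mem_center_iff.mp hmem a)
  have habnc : a * b ∉ Subgroup.center G := by
    intro hmem
    apply hab
    have h1 : ⁅a * b, b⁆ = 1 := by
      rw [commutatorElement_eq_one_iff_commute]
      exact (Subgroup.mem_center_iff.mp hmem b).symm
    rwa [comm_mul_left h.hcen, commutatorElement_self, mul_one] at h1
  have hfin : ∀ (x : G) (hx : x ∉ Subgroup.center G) (zz : Subgroup.center G),
      zz ∈ sq.range → (zz : G) = x ^ 2 * c⁻¹ →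
      ∃ x c : G, x ∉ Subgroup.center G ∧ c ∈ commutator G ∧ c ≠ 1 ∧ x ^ 2 = c := by
    rintro x hx zz ⟨z, hz⟩ hzz
    have hz' : (z : G) ^ 2 = (zz : G) := by
      have : (z ^ 2 : Subgroup.center G) = zz := hz
      exact_mod_cast congrArg Subtype.val this
    obtain ⟨x', hx', hx'2⟩ := h.good_of_sq hx z (by rw [hz', hzz])
    exact ⟨x', c, hx', hcm, hab, hx'2⟩
  rcases hthree with h' | h' | h'
  · exact hfin a hanc za h' rfl
  · exact hfin b hbnc zb h' rfl
  · exact hfin (a * b) habnc (za * zb) h' hzab

/-- Existence of a good element in case (2b). -/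
theorem exists_good
    (hΩ : ∀ z ∈ Subgroup.center G, z ^ (Nat.card G).minFac = 1 → z ∈ commutator G) :
    ∃ x c : G, x ∉ Subgroup.center G ∧ c ∈ commutator G ∧ c ≠ 1 ∧
      x ^ (Nat.card G).minFac = c ^ ((Nat.card G).minFac.choose 2) := by
  rcases h.hpr.eq_two_or_odd' with h2 | hodd
  · obtain ⟨x, c, hx, hc, hc1, hxc⟩ := h.exists_good_two h2 hΩ
    refine ⟨x, c, hx, hc, hc1, ?_⟩
    rw [h2, hxc]
    simp
  · obtain ⟨x, hx, hxp⟩ := h.exists_good_odd hodd hΩ
    obtain ⟨a, b, hab⟩ := h.exists_comm_ne_one'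
    refine ⟨x, ⁅a, b⁆, hx, comm_mem_commutator a b, hab, ?_⟩
    have hp3 : 2 < (Nat.card G).minFac := by
      have := h.hpr.two_le
      rcases hodd with ⟨k, hk⟩
      omega
    obtain ⟨k, hk⟩ : (Nat.card G).minFac ∣ (Nat.card G).minFac.choose 2 :=
      Nat.Prime.dvd_choose_self h.hpr (by norm_num) hp3
    rw [hxp, hk, pow_mul, h.pow_p_eq_one (comm_mem_commutator a b), one_pow]

end C2

end Cfsg.Agent.Lib.Helper68.LM
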