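import Mathlib
import Cfsg.Agent.Lib.Helper68.LMGood

/-!
# Counting lemmas for the Laffey–MacHale bound
-/

set_option autoImplicit false

open scoped commutatorElement

namespace Cfsg.Agent.Lib.Helper68.LM

variable {G : Type*} [Group G] [Finite G]

theorem sum_indicator_subgroup [Fintype G] (S : Subgroup G) [DecidablePred (· ∈ S)] (K : ℕ) :
    ∑ y : G, (if y ∈ S then K else 0) = K * Nat.card S := by
  rw [Finset.sum_ite, Finset.sum_const, Finset.sum_const_zero, add_zero, smul_eq_mul, mul_comm,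
    Nat.card_eq_fintype_card, Fintype.card_subtype]

theorem arith2a (p n z ω : ℕ) (hp : 2 ≤ p) (h1 : p ^ 2 * ω ≤ n + (p ^ 2 - 1) * z)
    (h2 : z * p ^ 2 ≤ n) : ω * p ≤ n := by
  obtain ⟨q, rfl⟩ : ∃ q, p = q + 2 := ⟨p - 2, by omega⟩
  have e1 : (q + 2) ^ 2 - 1 = q ^ 2 + 4 * q + 3 := by
    have : (q + 2) ^ 2 = q ^ 2 + 4 * q + 3 + 1 := by ring
    omega
  rw [e1] at h1
  have h3 : (q + 2) * (ω * (q + 2)) ≤ (q + 2) * n := by nlinarith
  exact Nat.le_of_mul_le_mul_left h3 (by omega)

theorem arith2b (p n m z ω : ℕ) (hp : 2 ≤ p)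
    (h1 : p ^ 2 * ω ≤ n + (p - 1) * m + (p ^ 2 - p) * z)
    (hm : m * p = n) (h2 : z * p ^ 2 ≤ n) : ω * p ≤ n := by
  obtain ⟨q, rfl⟩ : ∃ q, p = q + 2 := ⟨p - 2, by omega⟩
  have e1 : (q + 2) ^ 2 - (q + 2) = q ^ 2 + 3 * q + 2 := by
    have : (q + 2) ^ 2 = q ^ 2 + 3 * q + 2 + (q + 2) := by ring
    omega
  have e2 : q + 2 - 1 = q + 1 := by omega
  rw [e1, e2] at h1
  subst hm
  have h4 : z * (q + 2) ≤ m := by
    have : (q + 2) * (z * (q + 2)) ≤ (q + 2) * m := by nlinarith
    exact Nat.le_of_mul_le_mul_left this (by omega)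
  have h3 : (q + 2) * (ω * (q + 2)) ≤ (q + 2) * (m * (q + 2)) := by nlinarith
  exact Nat.le_of_mul_le_mul_left h3 (by omega)

namespace C2

variable (h : C2 G)
include h

/-- Non-central elements have orbits of size at least `p`. -/
theorem orbit_ge_p {s : G} (hs : s ∉ Subgroup.center G) :
    (Nat.card G).minFac ≤ Nat.card (MulAction.orbit (MulAut G) s) := by
  have key : ∀ s' ∈ MulAction.orbit (MulAut G) s, ∀ t ∈ (commutator G : Set G),
      s' * t ∈ MulAction.orbit (MulAut G) s := by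
    intro s' hs' t ht
    have hs'c : s' ∉ Subgroup.center G := not_mem_center_of_mem_orbit hs' hs
    rw [← h.orbit_subset hs']
    exact h.mul_mem_orbit hs'c ht
  have h1 := card_closure_le_of_mul_mem _ _ s (MulAction.mem_orbit_self s) key
  rwa [Subgroup.closure_eq, h.hcard] at h1

/-- The centralizer of a non-central element has index `p`. -/
theorem card_ker_cmR {x : G} (hx : x ∉ Subgroup.center G) :
    Nat.card (cmR h.hcen x).ker * (Nat.card G).minFac = Nat.card G := by
  have h1 : Nat.card (cmR h.hcen x).ker * Nat.card (cmR h.hcen x).range = Nat.card G := by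
    rw [← Subgroup.index_ker, Subgroup.card_mul_index]
  have hle : (cmR h.hcen x).range ≤ commutator G := by
    rintro _ ⟨y, rfl⟩
    exact comm_mem_commutator y x
  have hdvd : Nat.card (cmR h.hcen x).range ∣ (Nat.card G).minFac := by
    rw [← h.hcard]
    exact Subgroup.card_dvd_of_le hle
  have hne : Nat.card (cmR h.hcen x).range ≠ 1 := by
    intro h1'
    rw [Subgroup.card_eq_one] at h1'
    obtain ⟨u, hu⟩ := h.exists_comm_ne_one hx
    apply hu
    have : ⁅u, x⁆ ∈ (cmR h.hcen x).range := ⟨u, rfl⟩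
    rw [h1', Subgroup.mem_bot] at this
    rw [← commutatorElement_inv u x, this, inv_one]
  rcases (Nat.dvd_prime h.hpr).mp hdvd with h' | h'
  · exact absurd h' hne
  · rw [← h', h1]

end C2

end Cfsg.Agent.Lib.Helper68.LM
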