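import Mathlib
import Cfsg.Agent.Lib.Helper41.PIM.Defs
import Cfsg.Agent.Lib.Helper25.PIMNak

/-!
# PROJECT PIM (S4427), module [LIFT-GEN] (helper68)

If the reduction of `b ∈ O[G]` is idempotent, then `b * b - b` is killed by a monic polynomial
over `O` whose reduction is a power of `X` (Cayley–Hamilton with coefficients in the maximal
ideal).
-/

set_option autoImplicit false

namespace Cfsg.Agent.Lib.Helper68.PIM

open Cfsg Cfsg.Agent.Lib.Helper16 Cfsg.Agent.Lib.Helper41.PIM Polynomial

universe u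

variable {G : Type u} [Group G] [Fintype G]

/-- a monic polynomial whose lower coefficients lie in `I` reduces to `X ^ natDegree` modulo `I`. -/
theorem map_mk_eq_X_pow_of_coeff_mem {O : Type*} [CommRing O] (I : Ideal O) (p : Polynomial O)
    (hp : p.Monic) (hc : ∀ k, p.coeff k ∈ I ^ (p.natDegree - k)) :
    p.map (Ideal.Quotient.mk I) = X ^ p.natDegree := by
  ext k
  rw [coeff_map, coeff_X_pow]
  rcases lt_trichotomy k p.natDegree with h | h | h
  · rw [if_neg (ne_of_lt h)]
    rw [Ideal.Quotient.eq_zero_iff_mem]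
    have h1 : 1 ≤ p.natDegree - k := by omega
    exact Ideal.pow_le_self (by omega) (hc k)
  · rw [if_pos h, h]
    have : p.coeff p.natDegree = 1 := hp.coeff_natDegree
    rw [this, map_one]
  · rw [if_neg (ne_of_gt h), coeff_eq_zero_of_natDegree_lt h, map_zero]

/-- general form of [LIFT-GEN] over any commutative ring and ideal. -/
theorem exists_monic_kill_gen {O : Type*} [CommRing O] (I : Ideal O) (b : MonoidAlgebra O G)
    (hb : MonoidAlgebra.mapRingHom G (Ideal.Quotient.mk I) b *
        MonoidAlgebra.mapRingHom G (Ideal.Quotient.mk I) b =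
        MonoidAlgebra.mapRingHom G (Ideal.Quotient.mk I) b) :
    ∃ g : Polynomial O, g.Monic ∧
      (∃ n : ℕ, g.map (Ideal.Quotient.mk I) = X ^ n) ∧
      aeval (b * b - b) g = 0 := by
  classical
  set c : MonoidAlgebra O G := b * b - b with hc
  have hred : MonoidAlgebra.mapRingHom G (Ideal.Quotient.mk I) c = 0 := by
    rw [hc, map_sub, map_mul, hb, sub_self]
  have hrange : LinearMap.range (Algebra.lmul O (MonoidAlgebra O G) c) ≤
      I • (⊤ : Submodule O (MonoidAlgebra O G)) := by
    rintro _ ⟨w, rfl⟩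
    apply Cfsg.Agent.Lib.Helper25.PIM.mem_smul_top_of_map_eq_zero
    rw [Algebra.coe_lmul_eq_mul, LinearMap.mul_apply']
    rw [map_mul, hred, zero_mul]
  obtain ⟨p, hpm, -, hpc, hpz⟩ :=
    LinearMap.exists_monic_and_natDegree_eq_and_coeff_mem_pow_and_aeval_eq_zero O
      (Algebra.lmul O (MonoidAlgebra O G) c) I hrange
  refine ⟨p, hpm, ⟨p.natDegree, map_mk_eq_X_pow_of_coeff_mem I p hpm hpc⟩, ?_⟩
  rw [Polynomial.aeval_algHom_apply] at hpz
  have h1 := congrArg (fun φ : Module.End O (MonoidAlgebra O G) => φ 1) hpz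
  simpa using h1

/-- [LIFT-GEN] -/
theorem exists_monic_kill (M : Ideal AlgInt) [M.IsPrime] (b : MonoidAlgebra (OO M) G)
    (hb : redHom M G b * redHom M G b = redHom M G b) :
    ∃ g : Polynomial (OO M), g.Monic ∧
      (∃ n : ℕ, g.map (Ideal.Quotient.mk (localIdeal M)) = X ^ n) ∧
      aeval (b * b - b) g = 0 :=
  exists_monic_kill_gen (localIdeal M) b hb

end Cfsg.Agent.Lib.Helper68.PIM
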