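import Mathlib

/-!
# Power graph basics (helper68)

Adjacency in the (reflexive) power graph, elementary facts on cyclic subgroups, the
"dominating set" and "relative twin" invariants of a closed neighbourhood and their transport
along a graph isomorphism.  Used for S4085.
-/

set_option autoImplicit false

namespace Cfsg.Agent.Lib.Helper68.PG

open Subgroup

variable {G : Type*} [Group G]

/-- adjacency in the (reflexive) power graph -/
def Adj (x y : G) : Prop := x ∈ zpowers y ∨ y ∈ zpowers x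

theorem Adj.symm {x y : G} (h : Adj x y) : Adj y x := Or.symm h

theorem adj_comm (x y : G) : Adj x y ↔ Adj y x := or_comm

theorem adj_refl (x : G) : Adj x x := Or.inl (mem_zpowers x)

theorem adj_one_left (x : G) : Adj 1 x := Or.inl (one_mem _)

theorem adj_one_right (x : G) : Adj x 1 := Or.inr (one_mem _)

theorem adj_iff_le (x y : G) : Adj x y ↔ (zpowers x ≤ zpowers y ∨ zpowers y ≤ zpowers x) := by
  unfold Adj
  rw [zpowers_le, zpowers_le]

theorem adj_congr_left {a b : G} (h : zpowers a = zpowers b) (z : G) : Adj a z ↔ Adj b z := by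
  rw [adj_iff_le, adj_iff_le, h]

theorem Adj.orderOf_dvd {x y : G} (h : Adj x y) : orderOf x ∣ orderOf y ∨ orderOf y ∣ orderOf x :=
  h.imp orderOf_dvd_of_mem_zpowers orderOf_dvd_of_mem_zpowers

/-- powers of `g` : `g^a ∈ ⟨g^b⟩` as soon as `gcd b n ∣ a` where `g^n = 1`. -/
theorem pow_mem_zpowers_pow_of_gcd_dvd (g : G) (n a b : ℕ) (hg : g ^ n = 1)
    (h : Nat.gcd b n ∣ a) : g ^ a ∈ zpowers (g ^ b) := by
  have key : g ^ (Nat.gcd b n) ∈ zpowers (g ^ b) := by
    have h1 := Nat.gcd_eq_gcd_ab b n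
    have h2 : g ^ ((Nat.gcd b n : ℕ) : ℤ) = (g ^ b) ^ (Nat.gcdA b n) := by
      rw [h1, zpow_add, zpow_mul, zpow_mul, zpow_natCast, zpow_natCast, hg, one_zpow, mul_one]
    rw [zpow_natCast] at h2
    rw [h2]
    exact zpow_mem_zpowers _ _
  obtain ⟨t, rfl⟩ := h
  rw [pow_mul]
  exact Subgroup.pow_mem _ key _

section finite

variable [Finite G]

theorem exists_pow_eq_of_mem_zpowers {u w : G} (hu : u ∈ zpowers w) : ∃ i : ℕ, u = w ^ i := by
  rw [← mem_powers_iff_mem_zpowers] at hu
  obtain ⟨i, rfl⟩ := hu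
  exact ⟨i, rfl⟩

/-- In a cyclic subgroup, divisibility of orders gives membership. -/
theorem mem_zpowers_of_orderOf_dvd {u v w : G} (hu : u ∈ zpowers w) (hv : v ∈ zpowers w)
    (h : orderOf u ∣ orderOf v) : u ∈ zpowers v := by
  obtain ⟨i, rfl⟩ := exists_pow_eq_of_mem_zpowers hu
  obtain ⟨j, rfl⟩ := exists_pow_eq_of_mem_zpowers hv
  apply pow_mem_zpowers_pow_of_gcd_dvd w (orderOf w) i j (pow_orderOf_eq_one w)
  have hM : 0 < orderOf w := orderOf_pos w
  rw [orderOf_pow, orderOf_pow] at h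
  -- M / gcd M i ∣ M / gcd M j
  set M := orderOf w with hMdef
  obtain ⟨a', ha'⟩ := Nat.gcd_dvd_left M i
  obtain ⟨b', hb'⟩ := Nat.gcd_dvd_left M j
  have ha0 : 0 < Nat.gcd M i := Nat.gcd_pos_of_pos_left _ hM
  have hb0 : 0 < Nat.gcd M j := Nat.gcd_pos_of_pos_left _ hM
  have e1 : M / Nat.gcd M i = a' := Nat.div_eq_of_eq_mul_right ha0 ha'
  have e2 : M / Nat.gcd M j = b' := Nat.div_eq_of_eq_mul_right hb0 hb'
  rw [e1, e2] at h
  obtain ⟨k, hk⟩ := h
  have ha'0 : 0 < a' := by
    rcases Nat.eq_zero_or_pos a' with h0 | h0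
    · rw [h0, Nat.mul_zero] at ha'; omega
    · exact h0
  have : Nat.gcd M i = Nat.gcd M j * k := by
    have h3 : Nat.gcd M i * a' = Nat.gcd M j * k * a' := by
      calc Nat.gcd M i * a' = M := ha'.symm
        _ = Nat.gcd M j * b' := hb'
        _ = Nat.gcd M j * (a' * k) := by rw [hk]
        _ = Nat.gcd M j * k * a' := by ring
    exact Nat.eq_of_mul_eq_mul_right ha'0 h3
  have h4 : Nat.gcd j M ∣ Nat.gcd M i := by
    rw [Nat.gcd_comm j M, this]; exact Dvd.intro _ rfl
  exact h4.trans (Nat.gcd_dvd_right M i)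

/-- adjacency inside a cyclic subgroup is comparability of orders -/
theorem adj_iff_of_mem_zpowers {u v w : G} (hu : u ∈ zpowers w) (hv : v ∈ zpowers w) :
    Adj u v ↔ (orderOf u ∣ orderOf v ∨ orderOf v ∣ orderOf u) := by
  constructor
  · exact Adj.orderOf_dvd
  · rintro (h | h)
    · exact Or.inl (mem_zpowers_of_orderOf_dvd hu hv h)
    · exact Or.inr (mem_zpowers_of_orderOf_dvd hv hu h)

theorem zpowers_eq_of_mem_of_orderOf_eq {u w : G} (hu : u ∈ zpowers w)
    (h : orderOf u = orderOf w) : zpowers u = zpowers w := by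
  apply le_antisymm
  · rwa [zpowers_le]
  · rw [zpowers_le]
    exact mem_zpowers_of_orderOf_dvd (mem_zpowers w) hu (h ▸ dvd_rfl)

/-- element of a prescribed order in a cyclic subgroup -/
theorem exists_mem_zpowers_orderOf_eq (w : G) {d : ℕ} (hd : d ∣ orderOf w) :
    ∃ z ∈ zpowers w, orderOf z = d := by
  have hM : 0 < orderOf w := orderOf_pos w
  obtain ⟨k, hk⟩ := hd
  have hd0 : 0 < d := by
    rcases Nat.eq_zero_or_pos d with h0 | h0
    · rw [h0, Nat.zero_mul] at hk; omega
    · exact h0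
  have hk0 : k ≠ 0 := by
    rintro rfl
    rw [Nat.mul_zero] at hk; omega
  refine ⟨w ^ k, Subgroup.pow_mem _ (mem_zpowers w) _, ?_⟩
  rw [orderOf_pow_of_dvd hk0 (Dvd.intro_left _ hk.symm), hk]
  exact Nat.mul_div_cancel _ (Nat.pos_of_ne_zero hk0)

omit [Finite G] in
theorem ncard_zpowers (w : G) : (zpowers w : Set G).ncard = orderOf w := by
  rw [← Nat.card_zpowers w]
  exact (Nat.card_coe_set_eq _).symm

/-- there are at least `φ (orderOf v)` generators of `⟨v⟩`. -/
theorem totient_le_ncard_gens (v : G) :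
    Nat.totient (orderOf v) ≤ {v' : G | zpowers v' = zpowers v}.ncard := by
  classical
  set M := orderOf v with hM
  let S : Finset G := ((Finset.range M).filter (Nat.Coprime M)).image (fun k => v ^ k)
  have hScard : S.card = Nat.totient M := by
    rw [Nat.totient_eq_card_coprime]
    apply Finset.card_image_of_injOn
    intro a ha b hb hab
    simp only [Finset.coe_filter, Finset.mem_range, Set.mem_ofPred_eq] at ha hb
    exact pow_injOn_Iio_orderOf (Set.mem_Iio.mpr ha.1) (Set.mem_Iio.mpr hb.1) hab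
  have hsub : (S : Set G) ⊆ {v' : G | zpowers v' = zpowers v} := by
    intro x hx
    simp only [S, Finset.coe_image, Finset.coe_filter, Finset.mem_range, Set.mem_image,
      Set.mem_ofPred_eq] at hx
    obtain ⟨k, ⟨-, hk⟩, rfl⟩ := hx
    apply zpowers_eq_of_mem_of_orderOf_eq (Subgroup.pow_mem _ (mem_zpowers v) _)
    exact Nat.Coprime.orderOf_pow hk
  calc Nat.totient M = S.card := hScard.symm
    _ = (S : Set G).ncard := (Set.ncard_coe_finset S).symm
    _ ≤ _ := Set.ncard_le_ncard hsub (Set.toFinite _)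

/-- maximal cyclic subgroup containing a given element -/
theorem exists_maximal_cyclic (g : G) :
    ∃ w : G, g ∈ zpowers w ∧ ∀ u, w ∈ zpowers u → u ∈ zpowers w := by
  obtain ⟨w, hw, hmax⟩ := Set.exists_max_image {w : G | g ∈ zpowers w} orderOf (Set.toFinite _)
    ⟨g, mem_zpowers g⟩
  refine ⟨w, hw, fun u hu => ?_⟩
  have hgu : g ∈ zpowers u := (zpowers_le.mpr hu) hw
  have h1 : orderOf u ≤ orderOf w := hmax u hgu
  have h2 : orderOf w ∣ orderOf u := orderOf_dvd_of_mem_zpowers hu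
  have h3 : orderOf w = orderOf u := le_antisymm (Nat.le_of_dvd (orderOf_pos u) h2) h1
  have := zpowers_eq_of_mem_of_orderOf_eq hu h3
  rw [this]; exact mem_zpowers u

/-- An element strictly between is not comparable: if `c ∈ ⟨h⟩`, `h ∉ ⟨c⟩` and the order of `c`
is not a prime power (nor `1`), some power of `h` is not adjacent to `c`. -/
theorem exists_not_adj_of_not_primePow {c h : G} (hc : c ∈ zpowers h) (hh : h ∉ zpowers c)
    (hnpp : ∀ r k : ℕ, r.Prime → orderOf c ≠ r ^ k) : ∃ z ∈ zpowers h, ¬ Adj z c := by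
  set m := orderOf c with hm
  set M := orderOf h with hM
  have hm0 : 0 < m := orderOf_pos c
  have hM0 : 0 < M := orderOf_pos h
  have hdvd : m ∣ M := orderOf_dvd_of_mem_zpowers hc
  obtain ⟨t, ht⟩ := hdvd
  have ht1 : t ≠ 1 := by
    rintro rfl
    rw [Nat.mul_one] at ht
    exact hh ((zpowers_eq_of_mem_of_orderOf_eq hc ht.symm) ▸ mem_zpowers h)
  set r := t.minFac with hr
  have hrp : r.Prime := Nat.minFac_prime ht1
  have hrt : r ∣ t := Nat.minFac_dvd t
  set a := m.factorization r with ha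
  have h1 : r ^ a ∣ m := Nat.ordProj_dvd m r
  have h2 : ¬ r ^ (a + 1) ∣ m := Nat.pow_succ_factorization_not_dvd hm0.ne' hrp
  have h3 : r ^ (a + 1) ∣ M := by
    rw [ht, pow_succ]
    exact Nat.mul_dvd_mul h1 hrt
  obtain ⟨z, hz, hzo⟩ := exists_mem_zpowers_orderOf_eq h h3
  refine ⟨z, hz, ?_⟩
  rintro (h4 | h4)
  · have := orderOf_dvd_of_mem_zpowers h4
    rw [hzo] at this
    exact h2 this
  · have := orderOf_dvd_of_mem_zpowers h4
    rw [hzo] at this
    obtain ⟨k, -, hk⟩ := (Nat.dvd_prime_pow hrp).mp this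
    exact hnpp r k hrp hk

end finite

/-! ### Graph invariants of a closed neighbourhood -/

/-- the vertices of the closed neighbourhood of `x` adjacent to all of it -/
def Dom (x : G) : Set G := {v | Adj v x ∧ ∀ z, Adj z x → Adj v z}

/-- the twins of `v` relative to the closed neighbourhood of `x` -/
def Tw (x v : G) : Set G := {v' | Adj v' x ∧ ∀ z, Adj z x → (Adj v' z ↔ Adj v z)}

/-- same closed neighbourhood -/
def SameNb (x y : G) : Prop := ∀ z, Adj z x ↔ Adj z y

theorem SameNb.dom_eq {x y : G} (h : SameNb x y) : Dom x = Dom y := by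
  ext v
  simp only [Dom, Set.mem_ofPred_eq]
  constructor
  · rintro ⟨h1, h2⟩
    exact ⟨(h v).mp h1, fun z hz => h2 z ((h z).mpr hz)⟩
  · rintro ⟨h1, h2⟩
    exact ⟨(h v).mpr h1, fun z hz => h2 z ((h z).mp hz)⟩

theorem sameNb_of_zpowers_eq {x y : G} (h : zpowers x = zpowers y) : SameNb x y := by
  intro z
  rw [adj_comm z x, adj_comm z y]
  exact adj_congr_left h z

section transport

variable {H : Type*} [Group H] (e : G ≃ H) (he : ∀ x y : G, Adj x y ↔ Adj (e x) (e y))

include he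

theorem mem_Dom_iff (x v : G) : v ∈ Dom x ↔ e v ∈ Dom (e x) := by
  simp only [Dom, Set.mem_ofPred_eq]
  constructor
  · rintro ⟨h1, h2⟩
    refine ⟨(he _ _).mp h1, fun z hz => ?_⟩
    obtain ⟨z0, rfl⟩ := e.surjective z
    exact (he _ _).mp (h2 z0 ((he _ _).mpr hz))
  · rintro ⟨h1, h2⟩
    exact ⟨(he _ _).mpr h1, fun z hz => (he _ _).mpr (h2 (e z) ((he _ _).mp hz))⟩

theorem mem_Tw_iff (x v v' : G) : v' ∈ Tw x v ↔ e v' ∈ Tw (e x) (e v) := by
  simp only [Tw, Set.mem_ofPred_eq]
  constructor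
  · rintro ⟨h1, h2⟩
    refine ⟨(he _ _).mp h1, fun z hz => ?_⟩
    obtain ⟨z0, rfl⟩ := e.surjective z
    rw [← he, ← he]
    exact h2 z0 ((he _ _).mpr hz)
  · rintro ⟨h1, h2⟩
    refine ⟨(he _ _).mpr h1, fun z hz => ?_⟩
    rw [he, he v z]
    exact h2 (e z) ((he _ _).mp hz)

theorem Dom_image (x : G) : Dom (e x) = e '' Dom x := by
  ext z
  obtain ⟨z0, rfl⟩ := e.surjective z
  rw [← mem_Dom_iff e he]
  constructor
  · intro h; exact ⟨z0, h, rfl⟩
  · rintro ⟨y, hy, hyz⟩
    rwa [← e.injective hyz]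

theorem Tw_image (x v : G) : Tw (e x) (e v) = e '' Tw x v := by
  ext z
  obtain ⟨z0, rfl⟩ := e.surjective z
  rw [← mem_Tw_iff e he]
  constructor
  · intro h; exact ⟨z0, h, rfl⟩
  · rintro ⟨y, hy, hyz⟩
    rwa [← e.injective hyz]

theorem ncard_Dom (x : G) : (Dom (e x)).ncard = (Dom x).ncard := by
  rw [Dom_image e he, Set.ncard_image_of_injective _ e.injective]

theorem ncard_Tw (x v : G) : (Tw (e x) (e v)).ncard = (Tw x v).ncard := by
  rw [Tw_image e he, Set.ncard_image_of_injective _ e.injective]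

theorem sameNb_iff (x y : G) : SameNb x y ↔ SameNb (e x) (e y) := by
  constructor
  · intro h z
    obtain ⟨z0, rfl⟩ := e.surjective z
    rw [← he, ← he]; exact h z0
  · intro h z
    rw [he, he z y]; exact h (e z)

theorem nb_image (x : G) : {y : H | Adj y (e x)} = e '' {y : G | Adj y x} := by
  ext z
  obtain ⟨z0, rfl⟩ := e.surjective z
  simp only [Set.mem_ofPred_eq, Set.mem_image, EmbeddingLike.apply_eq_iff_eq, exists_eq_right]
  exact (he _ _).symm

end transport

end Cfsg.Agent.Lib.Helper68.PG
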