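import Cfsg.Agent.Lib.Helper68.PowerGraph

/-!
# Power graph isomorphisms preserve the prime graph (helper68, for S4085)
-/

set_option autoImplicit false

namespace Cfsg.Agent.Lib.Helper68.PG

open Subgroup

variable {G : Type*} [Group G]

theorem arith_incomparable {M P M2 d : ℕ} (hM : M = P * M2) (hcop : Nat.Coprime P M2)
    (hP : P ≠ 1) (hM2 : M2 ≠ 1) (hd1 : d ≠ 1) (hdM : d ≠ M) (hd : d ∣ M) :
    (¬ d ∣ P ∧ ¬ P ∣ d) ∨ (¬ d ∣ M2 ∧ ¬ M2 ∣ d) := by
  by_contra hcon
  rw [not_or, not_and_or, not_and_or, not_not, not_not, not_not, not_not] at hcon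
  obtain ⟨h1, h2⟩ := hcon
  have hg : Nat.gcd P M2 = 1 := hcop
  rcases h1 with h1 | h1 <;> rcases h2 with h2 | h2
  · have := Nat.dvd_gcd h1 h2
    rw [hg] at this
    exact hd1 (Nat.dvd_one.mp this)
  · have := Nat.dvd_gcd (h2.trans h1) dvd_rfl
    rw [hg] at this
    exact hM2 (Nat.dvd_one.mp this)
  · have := Nat.dvd_gcd dvd_rfl (h1.trans h2)
    rw [hg] at this
    exact hP (Nat.dvd_one.mp this)
  · have := Nat.Coprime.mul_dvd_of_dvd_of_dvd hcop h1 h2
    rw [← hM] at this
    exact hdM (Nat.dvd_antisymm hd this)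

theorem exists_coprime_split {p q M : ℕ} (hp : p.Prime) (hq : q.Prime) (hne : p ≠ q) (hM0 : M ≠ 0)
    (hpq : p * q ∣ M) : ∃ P M2 : ℕ, M = P * M2 ∧ Nat.Coprime P M2 ∧ P ≠ 1 ∧ M2 ≠ 1 := by
  refine ⟨ordProj[p] M, ordCompl[p] M, (Nat.ordProj_mul_ordCompl_eq_self M p).symm,
    Nat.Coprime.pow_left _ (Nat.coprime_ordCompl hp hM0), ?_, ?_⟩
  · have hpos : 0 < M.factorization p :=
      Nat.Prime.factorization_pos_of_dvd hp hM0 (dvd_of_mul_right_dvd hpq)
    have : p ∣ p ^ M.factorization p := dvd_pow_self p hpos.ne'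
    intro h1
    rw [h1] at this
    exact hp.one_lt.ne' (Nat.dvd_one.mp this)
  · have hqM : q ∣ ordProj[p] M * ordCompl[p] M := by
      rw [Nat.ordProj_mul_ordCompl_eq_self]
      exact dvd_of_mul_left_dvd hpq
    have hcop : Nat.Coprime q (ordProj[p] M) :=
      Nat.Coprime.pow_right _ ((Nat.coprime_primes hq hp).mpr (Ne.symm hne))
    have : q ∣ ordCompl[p] M := hcop.dvd_of_dvd_mul_left hqM
    intro h1
    rw [h1] at this
    exact hq.one_lt.ne' (Nat.dvd_one.mp this)

section Gside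

variable [Finite G] {w : G}

omit [Finite G] in
theorem adj_iff_mem_of_max (hmax : ∀ u, w ∈ zpowers u → u ∈ zpowers w) (v : G) :
    Adj v w ↔ v ∈ zpowers w :=
  ⟨fun h => h.elim id (hmax v), Or.inl⟩

theorem exists_ref_pair {p q : ℕ} (hp : p.Prime) (hq : q.Prime) (hne : p ≠ q)
    (hpq : p * q ∣ orderOf w) :
    ∃ u1 u2 : G, u1 ∈ zpowers w ∧ u2 ∈ zpowers w ∧ ¬ Adj u1 u2 ∧
      ∀ v ∈ zpowers w, orderOf v ≠ 1 → orderOf v ≠ orderOf w → (¬ Adj v u1 ∨ ¬ Adj v u2) := by
  obtain ⟨P, M2, hM, hcop, hP, hM2⟩ := exists_coprime_split hp hq hne (orderOf_pos w).ne' hpq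
  obtain ⟨u1, hu1, ho1⟩ := exists_mem_zpowers_orderOf_eq w (Dvd.intro _ hM.symm : P ∣ orderOf w)
  obtain ⟨u2, hu2, ho2⟩ := exists_mem_zpowers_orderOf_eq w (Dvd.intro_left _ hM.symm : M2 ∣ orderOf w)
  have hg : Nat.gcd P M2 = 1 := hcop
  refine ⟨u1, u2, hu1, hu2, ?_, ?_⟩
  · rw [adj_iff_of_mem_zpowers hu1 hu2, ho1, ho2]
    rintro (h | h)
    · have := Nat.dvd_gcd dvd_rfl h
      rw [hg] at this
      exact hP (Nat.dvd_one.mp this)
    · have := Nat.dvd_gcd h dvd_rfl
      rw [hg] at this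
      exact hM2 (Nat.dvd_one.mp this)
  · intro v hv hv1 hvM
    rw [adj_iff_of_mem_zpowers hv hu1, adj_iff_of_mem_zpowers hv hu2, ho1, ho2]
    rcases arith_incomparable hM hcop hP hM2 hv1 hvM (orderOf_dvd_of_mem_zpowers hv) with h | h
    · left; rintro (h' | h')
      · exact h.1 h'
      · exact h.2 h'
    · right; rintro (h' | h')
      · exact h.1 h'
      · exact h.2 h'

variable (hmax : ∀ u, w ∈ zpowers u → u ∈ zpowers w)

include hmax

theorem dom_of_max {p q : ℕ} (hp : p.Prime) (hq : q.Prime) (hne : p ≠ q)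
    (hpq : p * q ∣ orderOf w) {v : G} (hv : v ∈ Dom w) : v = 1 ∨ zpowers v = zpowers w := by
  obtain ⟨u1, u2, hu1, hu2, -, hall⟩ := exists_ref_pair hp hq hne hpq
  have hvw : v ∈ zpowers w := (adj_iff_mem_of_max hmax v).mp hv.1
  by_cases h1 : orderOf v = 1
  · left; exact orderOf_eq_one_iff.mp h1
  by_cases h2 : orderOf v = orderOf w
  · right; exact zpowers_eq_of_mem_of_orderOf_eq hvw h2
  exfalso
  rcases hall v hvw h1 h2 with h | h
  · exact h (hv.2 u1 (Or.inl hu1))
  · exact h (hv.2 u2 (Or.inl hu2))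

omit [Finite G] hmax in
theorem one_mem_dom : (1 : G) ∈ Dom w := ⟨adj_one_left w, fun z _ => adj_one_left z⟩

omit [Finite G] hmax in
theorem mem_dom_of_zpowers_eq {v x : G} (h : zpowers v = zpowers x) : v ∈ Dom x := by
  refine ⟨Or.inl (h ▸ mem_zpowers v), fun z hz => ?_⟩
  rw [adj_congr_left h z]
  exact hz.symm

/-- co-connectedness of the non-dominating part of the neighbourhood of a maximal cyclic
subgroup of non-prime-power order -/
theorem coconn {p q : ℕ} (hp : p.Prime) (hq : q.Prime) (hne : p ≠ q)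
    (hpq : p * q ∣ orderOf w) (Q : G → Prop)
    (hQ : ∀ a b, Adj a w → a ∉ Dom w → Adj b w → b ∉ Dom w → Q a → ¬ Q b → Adj a b) :
    (∀ v, Adj v w → v ∉ Dom w → Q v) ∨ (∀ v, Adj v w → v ∉ Dom w → ¬ Q v) := by
  obtain ⟨u1, u2, hu1, hu2, h12, hall⟩ := exists_ref_pair hp hq hne hpq
  have a1 : Adj u1 w := Or.inl hu1
  have a2 : Adj u2 w := Or.inl hu2
  have d1 : u1 ∉ Dom w := fun h => h12 (h.2 u2 a2)
  have d2 : u2 ∉ Dom w := fun h => h12 (h.2 u1 a1).symm
  have key : ∀ v, Adj v w → v ∉ Dom w → (¬ Adj v u1 ∨ ¬ Adj v u2) := by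
    intro v hv hvd
    have hvw : v ∈ zpowers w := (adj_iff_mem_of_max hmax v).mp hv
    apply hall v hvw
    · intro h1
      rw [orderOf_eq_one_iff] at h1
      exact hvd (h1 ▸ one_mem_dom)
    · intro h2
      exact hvd (mem_dom_of_zpowers_eq (zpowers_eq_of_mem_of_orderOf_eq hvw h2))
  by_cases hq1 : Q u1
  · have hq2 : Q u2 := by
      by_contra hq2
      exact h12 (hQ u1 u2 a1 d1 a2 d2 hq1 hq2)
    left
    intro v hv hvd
    by_contra hqv
    rcases key v hv hvd with h | h
    · exact h (hQ u1 v a1 d1 hv hvd hq1 hqv).symm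
    · exact h (hQ u2 v a2 d2 hv hvd hq2 hqv).symm
  · have hq2 : ¬ Q u2 := by
      intro hq2
      exact h12 (hQ u2 u1 a2 d2 a1 d1 hq2 hq1).symm
    right
    intro v hv hvd hqv
    rcases key v hv hvd with h | h
    · exact h (hQ v u1 hv hvd a1 d1 hqv hq1)
    · exact h (hQ v u2 hv hvd a2 d2 hqv hq2)

theorem ncard_dom_ge {p q : ℕ} (hp : p.Prime) (hq : q.Prime) (hne : p ≠ q)
    (hpq : p * q ∣ orderOf w) : 1 + (p - 1) * (q - 1) ≤ (Dom w).ncard := by
  have hw1 : w ≠ 1 := by
    rintro rfl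
    rw [orderOf_one] at hpq
    have := Nat.le_of_dvd one_pos hpq
    have := hp.two_le; have := hq.two_le
    nlinarith
  have hsub : insert (1 : G) {v' : G | zpowers v' = zpowers w} ⊆ Dom w := by
    intro v hv
    rcases hv with rfl | hv
    · exact one_mem_dom
    · exact mem_dom_of_zpowers_eq hv
  have hnot : (1 : G) ∉ {v' : G | zpowers v' = zpowers w} := by
    intro h
    simp only [Set.mem_ofPred_eq] at h
    have : w ∈ zpowers (1 : G) := h ▸ mem_zpowers w
    rw [zpowers_one_eq_bot, mem_bot] at this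
    exact hw1 this
  have h1 : (insert (1 : G) {v' : G | zpowers v' = zpowers w}).ncard
      = {v' : G | zpowers v' = zpowers w}.ncard + 1 :=
    Set.ncard_insert_of_notMem hnot (Set.toFinite _)
  have h2 := totient_le_ncard_gens w
  have h3 : Nat.totient (p * q) ∣ Nat.totient (orderOf w) := Nat.totient_dvd_of_dvd hpq
  have h4 : Nat.totient (p * q) ≤ Nat.totient (orderOf w) :=
    Nat.le_of_dvd (Nat.totient_pos.mpr (orderOf_pos w)) h3
  have h5 : Nat.totient (p * q) = (p - 1) * (q - 1) := by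
    rw [Nat.totient_mul ((Nat.coprime_primes hp hq).mpr hne), Nat.totient_prime hp,
      Nat.totient_prime hq]
  have h6 := Set.ncard_le_ncard hsub (Set.toFinite _)
  omega

/-- an element of order `p` below `w` has at most `p - 1` relative twins -/
theorem exists_small_twin {p q : ℕ} (hp : p.Prime) (hq : q.Prime) (hne : p ≠ q)
    (hpq : p * q ∣ orderOf w) : ∃ d, Adj d w ∧ d ∉ Dom w ∧ (Tw w d).ncard ≤ p - 1 := by
  obtain ⟨dp, hdp, hop⟩ := exists_mem_zpowers_orderOf_eq w (dvd_of_mul_right_dvd hpq)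
  obtain ⟨dq, hdq, hoq⟩ := exists_mem_zpowers_orderOf_eq w (dvd_of_mul_left_dvd hpq)
  obtain ⟨gg, hgg, hog⟩ := exists_mem_zpowers_orderOf_eq w hpq
  have hpq' : ¬ Adj dp dq := by
    rw [adj_iff_of_mem_zpowers hdp hdq, hop, hoq]
    rintro (h | h)
    · exact hne ((Nat.prime_dvd_prime_iff_eq hp hq).mp h)
    · exact hne ((Nat.prime_dvd_prime_iff_eq hq hp).mp h).symm
  refine ⟨dp, Or.inl hdp, fun h => hpq' (h.2 dq (Or.inl hdq)), ?_⟩
  have hsub : Tw w dp ⊆ (zpowers dp : Set G) \ {1} := by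
    intro v hv
    obtain ⟨hv1, hv2⟩ := hv
    have hvw : v ∈ zpowers w := (adj_iff_mem_of_max hmax v).mp hv1
    have hvne : v ≠ 1 := by
      rintro rfl
      exact hpq' ((hv2 dq (Or.inl hdq)).mp (adj_one_left dq))
    have hov1 : orderOf v ≠ 1 := fun h => hvne (orderOf_eq_one_iff.mp h)
    -- all prime factors of orderOf v are p
    have hprime : ∀ {r : ℕ}, r.Prime → r ∣ orderOf v → r = p := by
      intro r hr hrv
      obtain ⟨zr, hzr, hozr⟩ := exists_mem_zpowers_orderOf_eq v hrv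
      have hzrw : zr ∈ zpowers w := (zpowers_le.mpr hvw) hzr
      have h1 : Adj v zr := Or.inr hzr
      have h2 : Adj dp zr := (hv2 zr (Or.inl hzrw)).mp h1
      rw [adj_iff_of_mem_zpowers hdp hzrw, hop, hozr] at h2
      rcases h2 with h | h
      · exact ((Nat.prime_dvd_prime_iff_eq hp hr).mp h).symm
      · exact (Nat.prime_dvd_prime_iff_eq hr hp).mp h
    obtain ⟨j, hpow⟩ : ∃ j, orderOf v = p ^ j :=
      ⟨_, Nat.eq_prime_pow_of_unique_prime_dvd (orderOf_pos v).ne' hprime⟩
    have hj1 : j ≠ 0 := by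
      intro h0
      rw [h0, pow_zero] at hpow
      exact hov1 hpow
    have hj2 : j < 2 := by
      by_contra hj2
      rw [not_lt] at hj2
      have h1 : Adj dp gg := by
        rw [adj_iff_of_mem_zpowers hdp hgg, hop, hog]
        exact Or.inl (Dvd.intro _ rfl)
      have h2 : Adj v gg := (hv2 gg (Or.inl hgg)).mpr h1
      rw [adj_iff_of_mem_zpowers hvw hgg, hog, hpow] at h2
      rcases h2 with h | h
      · have h3 : p ^ 2 ∣ p * q := (pow_dvd_pow p hj2).trans h
        rw [pow_two] at h3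
        have h4 : p ∣ q := Nat.dvd_of_mul_dvd_mul_left hp.pos h3
        exact hne ((Nat.prime_dvd_prime_iff_eq hp hq).mp h4)
      · have h3 : q ∣ p ^ j := dvd_of_mul_left_dvd h
        have h4 : q ∣ p := hq.dvd_of_dvd_pow h3
        exact hne ((Nat.prime_dvd_prime_iff_eq hq hp).mp h4).symm
    have hj3 : j = 1 := by omega
    rw [hj3, pow_one] at hpow
    refine ⟨?_, hvne⟩
    exact mem_zpowers_of_orderOf_dvd hvw hdp (by rw [hpow, hop])
  have hcard : ((zpowers dp : Set G) \ {1}).ncard = p - 1 := by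
    rw [Set.ncard_sdiff_singleton_of_mem (one_mem _), ncard_zpowers, hop]
  calc (Tw w dp).ncard ≤ ((zpowers dp : Set G) \ {1}).ncard :=
        Set.ncard_le_ncard hsub (Set.toFinite _)
    _ = p - 1 := hcard

end Gside

section Hside

variable [Finite G]

/-- in a cyclic group of prime power order, everything is dominating -/
theorem zpowers_subset_dom_of_primePow {z : G} {l j : ℕ} (hl : l.Prime) (hz : orderOf z = l ^ j)
    {y : G} (hy : y ∈ zpowers z) : y ∈ Dom z := by
  refine ⟨Or.inl hy, fun z2 hz2 => ?_⟩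
  rcases hz2 with h | h
  · rw [adj_iff_of_mem_zpowers hy h]
    obtain ⟨a, -, ha⟩ := (Nat.dvd_prime_pow hl).mp (hz ▸ orderOf_dvd_of_mem_zpowers hy)
    obtain ⟨b, -, hb⟩ := (Nat.dvd_prime_pow hl).mp (hz ▸ orderOf_dvd_of_mem_zpowers h)
    rw [ha, hb]
    rcases le_total a b with hab | hab
    · exact Or.inl (pow_dvd_pow l hab)
    · exact Or.inr (pow_dvd_pow l hab)
  · exact Or.inl ((zpowers_le.mpr h) hy)

theorem prime_dvd_orderOf_of_dominating {c : G} (hc1 : c ≠ 1) (hdom : ∀ h, Adj h c) {r : ℕ}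
    (hr : r.Prime) (hrH : r ∣ Nat.card G) : r ∣ orderOf c := by
  have := Fact.mk hr
  obtain ⟨z, hz⟩ := exists_prime_orderOf_dvd_card' r hrH
  rcases hdom z with h | h
  · have := orderOf_dvd_of_mem_zpowers h
    rwa [hz] at this
  · have := orderOf_dvd_of_mem_zpowers h
    rw [hz] at this
    rcases (Nat.dvd_prime hr).mp this with h1 | h1
    · exact absurd (orderOf_eq_one_iff.mp h1) hc1
    · rw [h1]

theorem two_mul_totient_prime_pow_ge {l c : ℕ} (hl : l.Prime) : l ^ c ≤ 2 * Nat.totient (l ^ c) := by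
  rcases Nat.eq_zero_or_pos c with rfl | hc
  · simp
  · rw [Nat.totient_prime_pow hl hc]
    have h2 := hl.two_le
    have : l ^ c = l ^ (c - 1) * l := by
      rw [← pow_succ]; congr 1; omega
    rw [this]
    have h3 : l ≤ 2 * (l - 1) := by omega
    calc l ^ (c - 1) * l ≤ l ^ (c - 1) * (2 * (l - 1)) := Nat.mul_le_mul_left _ h3
      _ = 2 * (l ^ (c - 1) * (l - 1)) := by ring

end Hside

section main

variable {H : Type*} [Group H] [Finite G] [Finite H]

theorem final_arith {p q : ℕ} (hp : 2 ≤ p) (hq : 2 ≤ q) (hne : p ≠ q)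
    (h1 : 1 + (p - 1) * (q - 1) ≤ 2 * (p - 1)) (h2 : 1 + (p - 1) * (q - 1) ≤ 2 * (q - 1)) :
    False := by
  obtain ⟨a, rfl⟩ := Nat.exists_eq_add_of_le hp
  obtain ⟨b, rfl⟩ := Nat.exists_eq_add_of_le hq
  have e1 : 2 + a - 1 = a + 1 := by omega
  have e2 : 2 + b - 1 = b + 1 := by omega
  rw [e1, e2] at h1 h2
  have hb : b = 0 := by
    by_contra hb
    have : 1 ≤ b := Nat.one_le_iff_ne_zero.mpr hb
    nlinarith
  have ha : a = 0 := by
    by_contra ha
    have : 1 ≤ a := Nat.one_le_iff_ne_zero.mpr ha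
    nlinarith
  exact hne (by rw [ha, hb])

/-- Main case: `H` has no nontrivial dominating vertex. The image of a generator of a maximal
cyclic subgroup of order divisible by `p q` generates a (maximal) cyclic subgroup of the same
order. -/
theorem orderOf_image_of_max (e : G ≃ H) (he : ∀ x y : G, Adj x y ↔ Adj (e x) (e y))
    (hdomH : ∀ c : H, (∀ h, Adj h c) → c = 1)
    {p q : ℕ} (hp : p.Prime) (hq : q.Prime) (hne : p ≠ q)
    {w : G} (hmax : ∀ u, w ∈ zpowers u → u ∈ zpowers w) (hpq : p * q ∣ orderOf w) :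
    orderOf (e w) = orderOf w := by
  have he1 : e 1 = 1 := hdomH _ (fun h => by
    obtain ⟨h0, rfl⟩ := e.surjective h
    exact (he _ _).mp (adj_one_right h0))
  have hw1 : w ≠ 1 := by
    rintro rfl
    rw [orderOf_one] at hpq
    have := Nat.le_of_dvd one_pos hpq
    have := hp.two_le; have := hq.two_le
    nlinarith
  have hw'1 : e w ≠ 1 := fun h => hw1 (e.injective (h.trans he1.symm))
  have hdomw' : ∀ z ∈ Dom (e w), z = 1 ∨ SameNb z (e w) := by
    intro z hz
    obtain ⟨z0, rfl⟩ := e.surjective z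
    rw [← mem_Dom_iff e he] at hz
    rcases dom_of_max hmax hp hq hne hpq hz with h | h
    · left; rw [h, he1]
    · right; exact (sameNb_iff e he _ _).mp (sameNb_of_zpowers_eq h)
  -- Step A
  have hA : ∀ l k : ℕ, l.Prime → orderOf (e w) ≠ l ^ k := by
    intro l k hl hk
    have hk0 : k ≠ 0 := by
      rintro rfl
      rw [pow_zero] at hk
      exact hw'1 (orderOf_eq_one_iff.mp hk)
    have key : ∀ d, Adj d w → d ∉ Dom w → 1 + (p - 1) * (q - 1) ≤ 2 * (Tw w d).ncard := by
      intro d hd1 hd2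
      set v := e d with hv
      have hv1 : Adj v (e w) := (he _ _).mp hd1
      have hv2 : v ∉ Dom (e w) := fun h => hd2 ((mem_Dom_iff e he _ _).mpr h)
      have hv3 : e w ∈ zpowers v := by
        rcases hv1 with h | h
        · exact absurd (zpowers_subset_dom_of_primePow hl hk h) hv2
        · exact h
      have hE : ∀ z ∈ Dom (e w), z ∈ zpowers v ∧ ∃ j, orderOf z = l ^ j := by
        intro z hz
        rcases hdomw' z hz with rfl | hs
        · exact ⟨one_mem _, 0, by simp⟩
        · have hzl : ∃ j, orderOf z = l ^ j := by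
            refine ⟨_, Nat.eq_prime_pow_of_unique_prime_dvd (orderOf_pos z).ne' ?_⟩
            intro r hr hrz
            obtain ⟨zr, hzr, hozr⟩ := exists_mem_zpowers_orderOf_eq z hrz
            have h1 : Adj zr (e w) := (hs zr).mp (Or.inl hzr)
            rcases h1 with h | h
            · have := orderOf_dvd_of_mem_zpowers h
              rw [hozr, hk] at this
              exact (Nat.prime_dvd_prime_iff_eq hr hl).mp (hr.dvd_of_dvd_pow this)
            · have := orderOf_dvd_of_mem_zpowers h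
              rw [hozr, hk] at this
              have h2 : l ∣ r := (dvd_pow_self l hk0).trans this
              exact ((Nat.prime_dvd_prime_iff_eq hl hr).mp h2).symm
          refine ⟨?_, hzl⟩
          have h1 : Adj v z := (hs v).mpr hv1
          rcases h1 with h | h
          · obtain ⟨j, hj⟩ := hzl
            have := zpowers_subset_dom_of_primePow hl hj h
            rw [hs.dom_eq] at this
            exact absurd this hv2
          · exact h
      set c := (orderOf v).factorization l with hc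
      obtain ⟨y', hy'1, hy'2⟩ := exists_mem_zpowers_orderOf_eq v (Nat.ordProj_dvd (orderOf v) l)
      have hsub : Dom (e w) ⊆ (zpowers y' : Set H) := by
        intro z hz
        obtain ⟨hz1, j, hj⟩ := hE z hz
        have h1 : l ^ j ∣ orderOf v := hj ▸ orderOf_dvd_of_mem_zpowers hz1
        have h2 : j ≤ c := (hl.pow_dvd_iff_le_factorization (orderOf_pos v).ne').mp h1
        apply mem_zpowers_of_orderOf_dvd hz1 hy'1
        rw [hj, hy'2]
        exact pow_dvd_pow l h2
      have h1 : (Dom (e w)).ncard ≤ l ^ c := by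
        calc (Dom (e w)).ncard ≤ (zpowers y' : Set H).ncard :=
              Set.ncard_le_ncard hsub (Set.toFinite _)
          _ = l ^ c := by rw [ncard_zpowers, hy'2]
      have hgens : {v' : H | zpowers v' = zpowers v} ⊆ Tw (e w) v := by
        intro v' hv'
        simp only [Set.mem_ofPred_eq] at hv'
        refine ⟨(adj_congr_left hv' _).mpr hv1, fun z _ => adj_congr_left hv' z⟩
      have h2 : Nat.totient (orderOf v) ≤ (Tw (e w) v).ncard :=
        (totient_le_ncard_gens v).trans (Set.ncard_le_ncard hgens (Set.toFinite _))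
      have h3 : Nat.totient (l ^ c) ≤ Nat.totient (orderOf v) :=
        Nat.le_of_dvd (Nat.totient_pos.mpr (orderOf_pos v))
          (Nat.totient_dvd_of_dvd (Nat.ordProj_dvd (orderOf v) l))
      have h4 := two_mul_totient_prime_pow_ge (c := c) hl
      have h5 := ncard_dom_ge hmax hp hq hne hpq
      have h6 := ncard_Dom e he w
      have h7 := ncard_Tw e he w d
      rw [← hv] at h7
      omega
    obtain ⟨dp, hdp1, hdp2, hdp3⟩ := exists_small_twin hmax hp hq hne hpq
    obtain ⟨dq, hdq1, hdq2, hdq3⟩ := exists_small_twin hmax hq hp hne.symm (mul_comm p q ▸ hpq)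
    have k1 := key dp hdp1 hdp2
    have k2 := key dq hdq1 hdq2
    exact final_arith hp.two_le hq.two_le hne (by omega) (by omega)
  -- Step B
  have ho1 : orderOf (e w) ≠ 1 := by
    have := hA 2 0 Nat.prime_two
    simpa using this
  set r1 := (orderOf (e w)).minFac with hr1
  have hr1p : r1.Prime := Nat.minFac_prime ho1
  have hr1d : r1 ∣ orderOf (e w) := Nat.minFac_dvd _
  obtain ⟨r2, hr2p, hr2d, hr12⟩ : ∃ r2 : ℕ, r2.Prime ∧ r2 ∣ orderOf (e w) ∧ r2 ≠ r1 := by
    by_contra hcon
    push Not at hcon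
    exact hA r1 _ hr1p (Nat.eq_prime_pow_of_unique_prime_dvd (orderOf_pos _).ne'
      (fun {d} hd hdd => hcon d hd hdd))
  obtain ⟨a1, ha1, hoa1⟩ := exists_mem_zpowers_orderOf_eq (e w) hr1d
  obtain ⟨a2, ha2, hoa2⟩ := exists_mem_zpowers_orderOf_eq (e w) hr2d
  have ha12 : ¬ Adj a1 a2 := by
    rw [adj_iff_of_mem_zpowers ha1 ha2, hoa1, hoa2]
    rintro (h | h)
    · exact hr12 ((Nat.prime_dvd_prime_iff_eq hr1p hr2p).mp h).symm
    · exact hr12 ((Nat.prime_dvd_prime_iff_eq hr2p hr1p).mp h)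
  have ha1d : a1 ∉ Dom (e w) := fun h => ha12 (h.2 a2 (Or.inl ha2))
  have hco := coconn hmax hp hq hne hpq (fun v => e v ∈ zpowers (e w)) (by
    intro a b ha _ hb _ hQa hQb
    rw [he]
    have hb' : Adj (e b) (e w) := (he _ _).mp hb
    rcases hb' with h | h
    · exact absurd h hQb
    · exact Or.inl ((zpowers_le.mpr h) hQa))
  have hfirst : ∀ v, Adj v w → v ∉ Dom w → e v ∈ zpowers (e w) := by
    rcases hco with h | h
    · exact h
    · exfalso
      have h1 : Adj (e.symm a1) w := by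
        rw [he, e.apply_symm_apply]; exact Or.inl ha1
      have h2 : e.symm a1 ∉ Dom w := by
        rw [mem_Dom_iff e he, e.apply_symm_apply]; exact ha1d
      have := h _ h1 h2
      rw [e.apply_symm_apply] at this
      exact this ha1
  have hsub : ∀ u', e w ∈ zpowers u' → u' ∈ zpowers (e w) := by
    intro u' hu'
    by_contra hnot
    obtain ⟨u, rfl⟩ := e.surjective u'
    have huw : Adj u w := (he _ _).mpr (Or.inr hu')
    by_cases hud : u ∈ Dom w
    · rcases dom_of_max hmax hp hq hne hpq hud with h | h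
      · rw [h, he1, zpowers_one_eq_bot, mem_bot] at hu'
        exact hw'1 hu'
      · have hs : SameNb (e u) (e w) := (sameNb_iff e he _ _).mp (sameNb_of_zpowers_eq h)
        obtain ⟨z, hz1, hz2⟩ := exists_not_adj_of_not_primePow hu' hnot hA
        exact hz2 ((hs z).mp (Or.inl hz1))
    · exact hnot (hfirst u huw hud)
  have hnb : {y : H | Adj y (e w)} = (zpowers (e w) : Set H) := by
    ext y
    simp only [Set.mem_ofPred_eq, SetLike.mem_coe]
    exact ⟨fun h => h.elim id (hsub y), Or.inl⟩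
  have hnbG : {y : G | Adj y w} = (zpowers w : Set G) := by
    ext y
    simp only [Set.mem_ofPred_eq, SetLike.mem_coe]
    exact adj_iff_mem_of_max hmax y
  have := nb_image e he w
  rw [hnb, hnbG] at this
  have h2 := congrArg Set.ncard this
  rw [Set.ncard_image_of_injective _ e.injective, ncard_zpowers, ncard_zpowers] at h2
  exact h2

/-- One direction of S4085. -/
theorem exists_orderOf_eq_mul (e : G ≃ H) (he : ∀ x y : G, Adj x y ↔ Adj (e x) (e y))
    {p q : ℕ} (hp : p.Prime) (hq : q.Prime) (hne : p ≠ q) (g : G) (hg : orderOf g = p * q) :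
    ∃ h : H, orderOf h = p * q := by
  have hcard : Nat.card H = Nat.card G := (Nat.card_congr e).symm
  have hpqG : p * q ∣ Nat.card G := hg ▸ orderOf_dvd_natCard g
  by_cases hdomH : ∀ c : H, (∀ h, Adj h c) → c = 1
  · obtain ⟨w, hgw, hmax⟩ := exists_maximal_cyclic g
    have hpqw : p * q ∣ orderOf w := hg ▸ orderOf_dvd_of_mem_zpowers hgw
    have := orderOf_image_of_max e he hdomH hp hq hne hmax hpqw
    obtain ⟨z, -, hz⟩ := exists_mem_zpowers_orderOf_eq (e w) (this ▸ hpqw)
    exact ⟨z, hz⟩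
  · push Not at hdomH
    obtain ⟨c, hc, hc1⟩ := hdomH
    have h1 : p ∣ orderOf c :=
      prime_dvd_orderOf_of_dominating hc1 hc hp (hcard ▸ dvd_of_mul_right_dvd hpqG)
    have h2 : q ∣ orderOf c :=
      prime_dvd_orderOf_of_dominating hc1 hc hq (hcard ▸ dvd_of_mul_left_dvd hpqG)
    have h3 : p * q ∣ orderOf c :=
      Nat.Coprime.mul_dvd_of_dvd_of_dvd ((Nat.coprime_primes hp hq).mpr hne) h1 h2
    obtain ⟨z, -, hz⟩ := exists_mem_zpowers_orderOf_eq c h3
    exact ⟨z, hz⟩

end main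

end Cfsg.Agent.Lib.Helper68.PG
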