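import Mathlib

/-!
# Linear-algebra core of S4081 (forward direction)

`V` a finite nonzero `ZMod p`-module, `σ` an endomorphism with `σ ^ q = 1` without nonzero fixed
points.  If the semilinear-type maps (`τ σ = σ ^ k τ`) are transitive on nonzero vectors and every
twist `k` occurs, then `p` is a primitive root modulo `q`.
-/

namespace Cfsg.Agent.Lib.Helper68

open Polynomial

section

variable {p : ℕ} [Fact p.Prime] {V : Type*} [AddCommGroup V] [Module (ZMod p) V]

/-- The cyclic `σ`-submodule generated by `v`. -/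
noncomputable def cyc (σ : Module.End (ZMod p) V) (v : V) : Submodule (ZMod p) V :=
  LinearMap.range ((LinearMap.applyₗ v).comp (Polynomial.aeval (R := ZMod p) σ).toLinearMap)

theorem mem_cyc {σ : Module.End (ZMod p) V} {v w : V} :
    w ∈ cyc σ v ↔ ∃ g : (ZMod p)[X], aeval σ g v = w := by
  simp [cyc, LinearMap.mem_range]

theorem self_mem_cyc (σ : Module.End (ZMod p) V) (v : V) : v ∈ cyc σ v :=
  mem_cyc.mpr ⟨1, by simp⟩

theorem cyc_le_of_mem {σ : Module.End (ZMod p) V} {u v : V} (hu : u ∈ cyc σ v) :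
    cyc σ u ≤ cyc σ v := by
  obtain ⟨h, rfl⟩ := mem_cyc.mp hu
  intro w hw
  obtain ⟨g, rfl⟩ := mem_cyc.mp hw
  exact mem_cyc.mpr ⟨g * h, by simp [Module.End.mul_apply]⟩

theorem aeval_twist {σ : Module.End (ZMod p) V} (τ : V →ₗ[ZMod p] V) (k : ℕ)
    (h : ∀ w, τ (σ w) = (σ ^ k) (τ w)) (g : (ZMod p)[X]) (w : V) :
    τ (aeval σ g w) = aeval (σ ^ k) g (τ w) := by
  have hpow : ∀ (i : ℕ) (w : V), τ ((σ ^ i) w) = ((σ ^ k) ^ i) (τ w) := by
    intro i
    induction i with
    | zero => intro w; simp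
    | succ i ih =>
      intro w
      rw [pow_succ, Module.End.mul_apply, ih, h, pow_succ, Module.End.mul_apply]
  induction g using Polynomial.induction_on' with
  | add f g hf hg => simp [map_add, hf, hg]
  | monomial n a =>
    simp only [aeval_monomial, Module.End.mul_apply, Module.algebraMap_end_apply]
    rw [map_smul, hpow]


theorem aeval_cyclotomic_eq_zero {q : ℕ} [Fact q.Prime] [Finite V]
    (σ : Module.End (ZMod p) V) (hσ : σ ^ q = 1) (hfpf : ∀ v, σ v = v → v = 0) :
    aeval σ (cyclotomic q (ZMod p)) = 0 := by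
  have h1 : aeval σ (cyclotomic q (ZMod p)) * (σ - 1) = 0 := by
    have := congrArg (aeval σ) (cyclotomic_prime_mul_X_sub_one (ZMod p) q)
    simpa [hσ] using this
  have hinj : Function.Injective ⇑(σ - 1 : Module.End (ZMod p) V) := by
    rw [← LinearMap.ker_eq_bot]
    rw [Submodule.eq_bot_iff]
    intro v hv
    apply hfpf
    have : (σ - 1) v = 0 := hv
    simpa [sub_eq_zero] using this
  have hsurj : Function.Surjective ⇑(σ - 1 : Module.End (ZMod p) V) :=
    Finite.injective_iff_surjective.mp hinj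
  ext w
  obtain ⟨u, rfl⟩ := hsurj w
  have := congrArg (fun T : Module.End (ZMod p) V => T u) h1
  simpa [Module.End.mul_apply] using this

theorem exists_irreducible_killer (σ : Module.End (ZMod p) V) :
    ∀ (n : ℕ) (g : (ZMod p)[X]), g.natDegree = n → g ≠ 0 → ∀ v : V, v ≠ 0 → aeval σ g v = 0 →
    ∃ f h : (ZMod p)[X], Irreducible f ∧ f ∣ g ∧ aeval σ h v ≠ 0 ∧
      aeval σ f (aeval σ h v) = 0 := by
  intro n
  induction n using Nat.strong_induction_on with
  | _ n ih =>
    intro g hn hg v hv hgv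
    have hnu : ¬ IsUnit g := by
      intro hu
      obtain ⟨a, ha, rfl⟩ := Polynomial.isUnit_iff.mp hu
      apply hv
      have : a • v = 0 := by simpa using hgv
      have ha0 : a ≠ 0 := ha.ne_zero
      exact (smul_eq_zero.mp this).resolve_left ha0
    obtain ⟨f₀, hf₀, h, rfl⟩ := WfDvdMonoid.exists_irreducible_factor hnu hg
    have hh0 : h ≠ 0 := right_ne_zero_of_mul hg
    have hf00 : f₀ ≠ 0 := left_ne_zero_of_mul hg
    by_cases hhv : aeval σ h v = 0
    · have hdeg : h.natDegree < n := by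
        rw [← hn, natDegree_mul hf00 hh0]
        have := hf₀.natDegree_pos
        omega
      obtain ⟨f, h', hf, hfh, h1, h2⟩ := ih _ hdeg h rfl hh0 v hv hhv
      exact ⟨f, h', hf, hfh.mul_left _, h1, h2⟩
    · refine ⟨f₀, h, hf₀, dvd_mul_right _ _, hhv, ?_⟩
      have : aeval σ (f₀ * h) v = 0 := hgv
      simpa [Module.End.mul_apply] using this

theorem eq_of_le_of_card_le [Finite V] {A B : Submodule (ZMod p) V} (h : A ≤ B)
    (hc : Nat.card B ≤ Nat.card A) : A = B := by
  apply SetLike.coe_injective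
  apply Set.eq_of_subset_of_ncard_le h _ (Set.toFinite _)
  rw [← Nat.card_coe_set_eq, ← Nat.card_coe_set_eq]
  exact hc

theorem card_cyc_le [Finite V] {σ : Module.End (ZMod p) V} (τ : V ≃ₗ[ZMod p] V) (k : ℕ)
    (h : ∀ w, τ (σ w) = (σ ^ k) (τ w)) (v : V) :
    Nat.card (cyc σ v) ≤ Nat.card (cyc σ (τ v)) := by
  have hmem : ∀ w ∈ cyc σ v, τ w ∈ cyc σ (τ v) := by
    intro w hw
    obtain ⟨g, rfl⟩ := mem_cyc.mp hw
    refine mem_cyc.mpr ⟨g.comp (X ^ k), ?_⟩
    have := aeval_twist (σ := σ) τ.toLinearMap k h g v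
    rw [aeval_comp]
    simpa using this.symm
  refine Nat.card_le_card_of_injective (fun w : cyc σ v => (⟨τ w, hmem w w.2⟩ : cyc σ (τ v))) ?_
  intro a b hab
  have : τ (a : V) = τ (b : V) := congrArg Subtype.val hab
  exact Subtype.ext (τ.injective this)


theorem aeval_comm_apply (σ : Module.End (ZMod p) V) (f g : (ZMod p)[X]) (u : V) :
    aeval σ f (aeval σ g u) = aeval σ g (aeval σ f u) := by
  rw [← Module.End.mul_apply, ← Module.End.mul_apply, ← map_mul, ← map_mul, mul_comm]

end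

theorem primitive_root_of_transitive {p q : ℕ} [Fact p.Prime] [Fact q.Prime] (hpq : p ≠ q)
    {V : Type*} [AddCommGroup V] [Module (ZMod p) V] [Finite V] [Nontrivial V]
    (σ : Module.End (ZMod p) V) (hσ : σ ^ q = 1) (hfpf : ∀ v, σ v = v → v = 0)
    (htrans : ∀ v v' : V, v ≠ 0 → v' ≠ 0 →
      ∃ (τ : V ≃ₗ[ZMod p] V) (k : ℕ), (∀ w, τ (σ w) = (σ ^ k) (τ w)) ∧ τ v = v')
    (htwist : ∀ k : ℕ, 0 < k → k < q → ∃ τ : V ≃ₗ[ZMod p] V, ∀ w, τ (σ w) = (σ ^ k) (τ w)) :
    orderOf (p : ZMod q) = q - 1 := by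
  classical
  have hΦσ : aeval σ (cyclotomic q (ZMod p)) = 0 := aeval_cyclotomic_eq_zero σ hσ hfpf
  have hΦ0 : cyclotomic q (ZMod p) ≠ 0 := cyclotomic_ne_zero q _
  have hcard : ∀ v v' : V, v ≠ 0 → v' ≠ 0 → Nat.card (cyc σ v) = Nat.card (cyc σ v') := by
    intro v v' hv hv'
    obtain ⟨τ, k, hτ, hτv⟩ := htrans v v' hv hv'
    obtain ⟨τ', k', hτ', hτv'⟩ := htrans v' v hv' hv
    have h1 := card_cyc_le τ k hτ v
    have h2 := card_cyc_le τ' k' hτ' v'
    rw [hτv] at h1
    rw [hτv'] at h2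
    exact le_antisymm h1 h2
  obtain ⟨v₀, hv₀⟩ := exists_ne (0 : V)
  obtain ⟨f₀, h₀, hf₀, hf₀Φ, hu₀, hfu₀⟩ :=
    exists_irreducible_killer σ _ (cyclotomic q (ZMod p)) rfl hΦ0 v₀ hv₀ (by simp [hΦσ])
  set u₀ := aeval σ h₀ v₀ with hu₀def
  have hkill : ∀ v : V, aeval σ f₀ v = 0 := by
    intro v
    by_cases hv : v = 0
    · simp [hv]
    obtain ⟨f, h, hf, hfΦ, hu, hfu⟩ :=
      exists_irreducible_killer σ _ (cyclotomic q (ZMod p)) rfl hΦ0 v hv (by simp [hΦσ])
    set u := aeval σ h v with hudef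
    have hcyc : cyc σ u = cyc σ v :=
      eq_of_le_of_card_le (cyc_le_of_mem (mem_cyc.mpr ⟨h, rfl⟩)) (hcard v u hv hu).le
    have hf₀u : aeval σ f₀ u = 0 := by
      rcases hf₀.isCoprime_or_dvd f with hcop | hdvd
      · exfalso
        obtain ⟨a, b, hab⟩ := hcop
        have hone : ∀ w : V, aeval σ (a * f₀) w + aeval σ (b * f) w = w := by
          intro w
          have := congrArg (fun g => aeval σ g w) hab
          simpa using this
        have h1 : aeval σ (b * f) (u₀ + u) = u₀ := by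
          have e1 : aeval σ (b * f) u = 0 := by
            rw [map_mul, Module.End.mul_apply, hfu, map_zero]
          have e2 : aeval σ (a * f₀) u₀ = 0 := by
            rw [map_mul, Module.End.mul_apply, hfu₀, map_zero]
          have e3 := hone u₀
          rw [e2, zero_add] at e3
          rw [map_add, e1, add_zero, e3]
        have hw : u₀ + u ≠ 0 := by
          intro h0
          rw [h0, map_zero] at h1
          exact hu₀ h1.symm
        have hu₀mem : u₀ ∈ cyc σ (u₀ + u) := mem_cyc.mpr ⟨b * f, h1⟩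
        have hc : cyc σ u₀ = cyc σ (u₀ + u) :=
          eq_of_le_of_card_le (cyc_le_of_mem hu₀mem) (hcard _ _ hu₀ hw).ge
        have humem : u ∈ cyc σ u₀ := by
          rw [hc]
          have h := Submodule.sub_mem _ (self_mem_cyc σ (u₀ + u)) hu₀mem
          have e : (u₀ + u) - u₀ = u := by abel
          rwa [e] at h
        obtain ⟨g, hg⟩ := mem_cyc.mp humem
        have hf₀u : aeval σ f₀ u = 0 := by
          rw [← hg, aeval_comm_apply, hfu₀, map_zero]
        have e1 : aeval σ (b * f) u = 0 := by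
          rw [map_mul, Module.End.mul_apply, hfu, map_zero]
        have e2 : aeval σ (a * f₀) u = 0 := by
          rw [map_mul, Module.End.mul_apply, hf₀u, map_zero]
        have e3 := hone u
        rw [e1, e2, add_zero] at e3
        exact hu e3.symm
      · have hass : Associated f₀ f := hf₀.associated_of_dvd hf hdvd
        obtain ⟨c, hc⟩ := hass.symm.dvd
        rw [hc, mul_comm, map_mul, Module.End.mul_apply, hfu, map_zero]
    have hvmem : v ∈ cyc σ u := by
      rw [hcyc]
      exact self_mem_cyc σ v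
    obtain ⟨g, hg⟩ := mem_cyc.mp hvmem
    rw [← hg, aeval_comm_apply, hf₀u, map_zero]
  have hdvd : ∀ k : ℕ, 0 < k → k < q → f₀ ∣ f₀.comp (X ^ k) := by
    intro k hk0 hkq
    obtain ⟨τ, hτ⟩ := htwist k hk0 hkq
    have hz : ∀ w, aeval σ (f₀.comp (X ^ k)) w = 0 := by
      intro w
      obtain ⟨w', rfl⟩ := τ.surjective w
      rw [aeval_comp]
      have := aeval_twist (σ := σ) τ.toLinearMap k hτ f₀ w'
      simp only [aeval_X_pow]
      rw [hkill, map_zero] at this
      exact this.symm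
    rcases hf₀.isCoprime_or_dvd (f₀.comp (X ^ k)) with hcop | hd
    · exfalso
      obtain ⟨a, b, hab⟩ := hcop
      have := congrArg (fun g => aeval σ g u₀) hab
      simp only [map_add, map_mul, LinearMap.add_apply, Module.End.mul_apply, hkill, hz,
        map_zero, add_zero, map_one, Module.End.one_apply] at this
      exact hu₀ this.symm
    · exact hd
  have : Fact (Irreducible f₀) := ⟨hf₀⟩
  have hqp : ¬ p ∣ q := by
    intro h
    exact hpq ((Nat.prime_dvd_prime_iff_eq (Fact.out : p.Prime) (Fact.out : q.Prime)).mp h)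
  have hq2 : 2 ≤ q := (Fact.out : q.Prime).two_le
  -- the field K and the root ζ
  set F : (AdjoinRoot f₀)[X] := f₀.map (AdjoinRoot.of f₀) with hF
  have hF0 : F ≠ 0 := by
    rw [hF]
    exact (Polynomial.map_ne_zero_iff (AdjoinRoot.of f₀).injective).mpr hf₀.ne_zero
  have hFdeg : F.natDegree = f₀.natDegree := by
    rw [hF]
    exact natDegree_map _
  have hζroot : F.IsRoot (AdjoinRoot.root f₀) := AdjoinRoot.isRoot_root f₀
  have hFΦ : F ∣ cyclotomic q (AdjoinRoot f₀) := by
    have := Polynomial.map_dvd (AdjoinRoot.of f₀) hf₀Φ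
    rwa [map_cyclotomic] at this
  have hζq : (AdjoinRoot.root f₀) ^ q = 1 := by
    have h1 : F ∣ X ^ q - 1 := hFΦ.trans (cyclotomic.dvd_X_pow_sub_one q _)
    have h2 : (X ^ q - 1 : (AdjoinRoot f₀)[X]).IsRoot (AdjoinRoot.root f₀) := hζroot.dvd h1
    have h3 : (AdjoinRoot.root f₀) ^ q - 1 = 0 := by simpa [IsRoot] using h2
    exact sub_eq_zero.mp h3
  have hζ1 : AdjoinRoot.root f₀ ≠ 1 := by
    intro h1
    have h2 : (cyclotomic q (AdjoinRoot f₀)).IsRoot 1 := by
      rw [← h1]
      exact hζroot.dvd hFΦ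
    have h3 : ((q : ℕ) : AdjoinRoot f₀) = 0 := by
      have := h2
      rw [IsRoot, eval_one_cyclotomic_prime] at this
      exact this
    have h4 : ((q : ℕ) : ZMod p) = 0 := by
      have : (AdjoinRoot.of f₀) ((q : ℕ) : ZMod p) = 0 := by
        rw [map_natCast]
        exact h3
      exact (map_eq_zero_iff _ (AdjoinRoot.of f₀).injective).mp this
    exact hqp ((ZMod.natCast_eq_zero_iff q p).mp h4)
  have hord : orderOf (AdjoinRoot.root f₀) = q := orderOf_eq_prime hζq hζ1
  have hroots : ∀ k : ℕ, 0 < k → k < q → F.IsRoot ((AdjoinRoot.root f₀) ^ k) := by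
    intro k hk0 hkq
    have h1 : F ∣ F.comp (X ^ k) := by
      have := Polynomial.map_dvd (AdjoinRoot.of f₀) (hdvd k hk0 hkq)
      rwa [Polynomial.map_comp, Polynomial.map_pow, Polynomial.map_X] at this
    have h2 : (F.comp (X ^ k)).IsRoot (AdjoinRoot.root f₀) := hζroot.dvd h1
    rw [IsRoot, eval_comp] at h2
    simpa [IsRoot] using h2
  have hdeg : q - 1 ≤ f₀.natDegree := by
    rw [← hFdeg]
    let Z : Finset (AdjoinRoot f₀) := (Finset.Ico 1 q).image (fun k => (AdjoinRoot.root f₀) ^ k)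
    have hZcard : Z.card = q - 1 := by
      rw [Finset.card_image_of_injOn, Nat.card_Ico]
      intro a ha b hb hab
      have ha' : a ∈ Set.Iio (orderOf (AdjoinRoot.root f₀)) := by
        rw [hord]
        exact (Finset.mem_Ico.mp ha).2
      have hb' : b ∈ Set.Iio (orderOf (AdjoinRoot.root f₀)) := by
        rw [hord]
        exact (Finset.mem_Ico.mp hb).2
      exact pow_injOn_Iio_orderOf ha' hb' hab
    rw [← hZcard]
    apply Polynomial.card_le_degree_of_subset_roots
    intro z hz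
    have hz' : z ∈ Z := hz
    obtain ⟨k, hk, rfl⟩ := Finset.mem_image.mp hz'
    rw [mem_roots hF0]
    exact hroots k (Finset.mem_Ico.mp hk).1 (Finset.mem_Ico.mp hk).2
  have hnat : f₀.natDegree = orderOf (p : ZMod q) := by
    have hcop : p.Coprime q := (Nat.coprime_primes (Fact.out : p.Prime) (Fact.out : q.Prime)).mpr hpq
    have := natDegree_of_dvd_cyclotomic_of_irreducible (K := ZMod p) (p := p) (f := 1) (n := q)
      (by simp) hcop hf₀Φ hf₀
    rw [this, ← orderOf_units]
    simp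
  have hp0 : (p : ZMod q) ≠ 0 := by
    intro h
    have : q ∣ p := (ZMod.natCast_eq_zero_iff p q).mp h
    exact hpq ((Nat.prime_dvd_prime_iff_eq (Fact.out : q.Prime) (Fact.out : p.Prime)).mp this).symm
  have hle : orderOf (p : ZMod q) ≤ q - 1 := by
    apply Nat.le_of_dvd (by omega)
    exact orderOf_dvd_of_pow_eq_one (ZMod.pow_card_sub_one_eq_one hp0)
  omega

end Cfsg.Agent.Lib.Helper68
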