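import Mathlib
import Cfsg.Prelude.Def_Transfer
import Cfsg.Agent.Lib.Helper99.PrimRootEquiv
import Cfsg.Agent.Lib.Helper68.ElemAbModel
import Cfsg.Agent.Lib.Helper68.AutOrbits

/-!
# S4081, backward direction (helper68)
-/

set_option autoImplicit false

namespace Cfsg.Agent.Lib.Helper68

universe u

open scoped Pointwise

/-- If `p` is a primitive root modulo the prime `q`, every `k` prime to `q` is congruent to a power
of `p`. -/
theorem exists_pow_modEq_of_primitive_root {p q : ℕ} [Fact p.Prime] [Fact q.Prime] (hpq : p ≠ q)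
    (hprim : orderOf (p : ZMod q) = q - 1) (k : ℕ) (hk : ¬ q ∣ k) :
    ∃ j : ℕ, p ^ j ≡ k [MOD q] := by
  have hp := (Fact.out : p.Prime)
  have hq := (Fact.out : q.Prime)
  have hcop : p.Coprime q := (Nat.coprime_primes hp hq).mpr hpq
  have hkcop : k.Coprime q := ((Nat.Prime.coprime_iff_not_dvd hq).mpr hk).symm
  set u : (ZMod q)ˣ := ZMod.unitOfCoprime p hcop with hu
  have hou : orderOf u = q - 1 := by
    rw [← hprim, ← orderOf_units, hu, ZMod.coe_unitOfCoprime]
  have htop : Subgroup.zpowers u = ⊤ := by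
    apply Subgroup.eq_top_of_card_eq
    rw [Nat.card_zpowers, hou, Nat.card_eq_fintype_card, ZMod.card_units_eq_totient,
      Nat.totient_prime hq]
  have hmem : ZMod.unitOfCoprime k hkcop ∈ Subgroup.zpowers u := by
    rw [htop]; trivial
  have hmem' : ZMod.unitOfCoprime k hkcop ∈ Submonoid.powers u :=
    mem_powers_iff_mem_zpowers.mpr hmem
  obtain ⟨j, hj⟩ := hmem'
  refine ⟨j, ?_⟩
  have hj' : u ^ j = ZMod.unitOfCoprime k hkcop := hj
  have h1 : ((u ^ j : (ZMod q)ˣ) : ZMod q) = ((ZMod.unitOfCoprime k hkcop : (ZMod q)ˣ) : ZMod q) := by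
    rw [hj']
  rw [Units.val_pow_eq_pow_val, hu, ZMod.coe_unitOfCoprime, ZMod.coe_unitOfCoprime] at h1
  rw [← ZMod.natCast_eq_natCast_iff]
  push_cast
  exact h1

theorem backward {G : Type u} [Group G] [Finite G] {p q n : ℕ} [Fact p.Prime] [Fact q.Prime]
    (hpq : p ≠ q) (hn : 1 ≤ n) (hcard : Nat.card G = p ^ n * q)
    (hSyl : ∀ P : Sylow p G, (P : Subgroup G).Normal ∧ Cfsg.IsElementaryAbelian p (P : Subgroup G))
    (hprim : orderOf (p : ZMod q) = q - 1)
    (hfpf : ∀ x y : G, orderOf x = q → orderOf y = p → x * y * x⁻¹ ≠ y) :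
    Nat.card (MulAction.orbitRel.Quotient (MulAut G) G) = 3 := by
  classical
  have hp := (Fact.out : p.Prime)
  have hq := (Fact.out : q.Prime)
  have hcoppq : p.Coprime q := (Nat.coprime_primes hp hq).mpr hpq
  obtain ⟨P⟩ : Nonempty (Sylow p G) := inferInstance
  obtain ⟨hAnorm, hAc, hAexp⟩ := hSyl P
  set A : Subgroup G := (P : Subgroup G) with hAdef
  have hAcomm : ∀ a ∈ A, ∀ b ∈ A, a * b = b * a := by
    intro a ha b hb
    exact congrArg Subtype.val (hAc.is_comm.comm ⟨a, ha⟩ ⟨b, hb⟩)
  -- the order of A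
  have hAcard : Nat.card A = p ^ n := by
    have h1 : p ^ n ∣ Nat.card A :=
      P.pow_dvd_card_of_pow_dvd_card (by rw [hcard]; exact dvd_mul_right _ _)
    have h2 : Nat.card A ∣ p ^ n * q := hcard ▸ Subgroup.card_subgroup_dvd_card A
    obtain ⟨k, hk⟩ := IsPGroup.iff_card.mp P.isPGroup'
    rw [hk] at h1 h2 ⊢
    have h3 : p ^ k ∣ p ^ n := (Nat.Coprime.dvd_of_dvd_mul_right (hcoppq.pow_left k) h2)
    have h4 : k ≤ n := (Nat.pow_dvd_pow_iff_le_right hp.one_lt).mp h3
    have h5 : n ≤ k := (Nat.pow_dvd_pow_iff_le_right hp.one_lt).mp h1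
    rw [le_antisymm h4 h5]
  have hAidx : A.index = q := by
    have := A.card_mul_index
    rw [hAcard, hcard] at this
    exact Nat.eq_of_mul_eq_mul_left (pow_pos hp.pos n) this
  -- membership in A
  have hAmem : ∀ g : G, g ∈ A ↔ g = 1 ∨ orderOf g = p := by
    intro g
    constructor
    · intro hg
      by_cases h1 : g = 1
      · exact Or.inl h1
      · exact Or.inr (orderOf_eq_prime (hAexp g hg) h1)
    · rintro (h | h)
      · rw [h]; exact A.one_mem
      · have hz : IsPGroup p (Subgroup.zpowers g) := by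
          apply IsPGroup.of_card (n := 1)
          rw [Nat.card_zpowers, h, pow_one]
        have hsup : IsPGroup p (A ⊔ Subgroup.zpowers g : Subgroup G) :=
          have := hAnorm
          P.isPGroup'.to_sup_of_normal_left hz
        have := P.is_maximal' hsup le_sup_left
        have hle : Subgroup.zpowers g ≤ A := by
          rw [hAdef, ← this]
          exact le_sup_right
        exact hle (Subgroup.mem_zpowers g)
  have hnotA : ∀ g : G, g ∉ A → orderOf g = q := by
    intro g hg
    have hgq : g ^ q ∈ A := by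
      have := hAnorm
      have h1 : ((g : G) : G ⧸ A) ^ q = 1 := by
        have := pow_card_eq_one' (G := G ⧸ A) (x := (g : G ⧸ A))
        rwa [← Subgroup.index_eq_card, hAidx] at this
      rw [← QuotientGroup.mk_pow] at h1
      exact (QuotientGroup.eq_one_iff _).mp h1
    have hgpq : (g ^ p) ^ q = 1 := by
      rw [← pow_mul, mul_comm, pow_mul]
      exact hAexp _ hgq
    have hx1 : g ^ p ≠ 1 := by
      intro h
      apply hg
      rw [hAmem]
      by_cases h1 : g = 1
      · exact Or.inl h1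
      · exact Or.inr (orderOf_eq_prime h h1)
    have hxo : orderOf (g ^ p) = q := orderOf_eq_prime hgpq hx1
    have hy1 : g ^ q = 1 := by
      by_contra hy1
      have hyo : orderOf (g ^ q) = p := by
        rcases (hAmem _).mp hgq with h | h
        · exact absurd h hy1
        · exact h
      apply hfpf (g ^ p) (g ^ q) hxo hyo
      have : g ^ p * g ^ q = g ^ q * g ^ p := by rw [← pow_add, ← pow_add, add_comm]
      rw [this]
      group
    have hg1 : g ≠ 1 := by
      intro h
      apply hg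
      rw [h]; exact A.one_mem
    exact orderOf_eq_prime hy1 hg1
  -- elements of order p and q
  obtain ⟨x₀, hx₀⟩ := exists_prime_orderOf_dvd_card' (G := G) q (by rw [hcard]; exact dvd_mul_left _ _)
  obtain ⟨y₀, hy₀⟩ := exists_prime_orderOf_dvd_card' (G := G) p (by
    rw [hcard]; exact (dvd_pow_self p (by omega)).mul_right _)
  have hx₀q : x₀ ^ q = 1 := by rw [← hx₀]; exact pow_orderOf_eq_one x₀
  have hcompl : A.IsComplement' (Subgroup.zpowers x₀) := by
    apply Subgroup.isComplement'_of_coprime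
    · rw [Nat.card_zpowers, hx₀, hAcard, hcard]
    · rw [Nat.card_zpowers, hx₀, hAcard]
      exact hcoppq.pow_left n
  -- the linear model
  obtain ⟨V, i1, i2, i3, ι, hinj, hadd, hrange⟩ := exists_model (p := p) A hAc hAexp
  obtain ⟨σe, hσe⟩ := model_exists_conj (p := p) ι hinj hadd hrange hAnorm x₀
  set σ : Module.End (ZMod p) V := σe.toLinearMap with hσdef
  have hσ : ∀ v, ι (σ v) = x₀ * ι v * x₀⁻¹ := hσe
  have hordι : ∀ v : V, v ≠ 0 → orderOf (ι v) = p := by
    intro v hv
    rcases (hAmem (ι v)).mp (model_mem ι hrange v) with h | h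
    · exact absurd ((model_eq_one_iff ι hinj hadd).mp h) hv
    · exact h
  have hσq : σ ^ q = 1 := by
    ext v
    apply hinj
    rw [model_pow_conj ι hadd σ x₀ hσ, hx₀q]
    simp
  have hσfpf : ∀ v, σ v = v → v = 0 := by
    intro v hv
    by_contra hv0
    apply hfpf x₀ (ι v) hx₀ (hordι v hv0)
    rw [← hσ, hv]
  obtain ⟨hB1, τp, hτp⟩ := Cfsg.Agent.Lib.Helper99.exists_equiv_of_primitive_root hpq σ hσq hσfpf hprim
  -- powers of elements of order q meet A trivially
  have hmeet : ∀ x' : G, orderOf x' = q → ∀ i : ℕ, x' ^ i ∈ A → x₀ ^ i = 1 := by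
    intro x' hx' i hi
    have h1 : (x' ^ i) ^ q = 1 := by
      rw [← pow_mul, mul_comm, pow_mul, ← hx', pow_orderOf_eq_one, one_pow]
    have h2 : x' ^ i = 1 := by
      by_contra hne
      have h3 : orderOf (x' ^ i) = q := orderOf_eq_prime h1 hne
      rcases (hAmem _).mp hi with h | h
      · exact hne h
      · rw [h3] at h
        exact hpq h.symm
    have h4 : q ∣ i := by
      rw [← hx']
      exact orderOf_dvd_of_pow_eq_one h2
    obtain ⟨m, rfl⟩ := h4
    rw [pow_mul, hx₀q, one_pow]
  -- transitivity on elements of order p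
  have htp : ∀ y : G, orderOf y = p → AutRel y₀ y := by
    intro y hy
    have hy₀A : y₀ ∈ A := (hAmem y₀).mpr (Or.inr hy₀)
    have hyA : y ∈ A := (hAmem y).mpr (Or.inr hy)
    obtain ⟨v₀, hv₀⟩ := model_exists_preimage ι hrange hy₀A
    obtain ⟨v, hv⟩ := model_exists_preimage ι hrange hyA
    have hv₀0 : v₀ ≠ 0 := by
      intro h
      rw [h, model_zero ι hadd] at hv₀
      rw [← hv₀, orderOf_one] at hy₀
      exact hp.one_lt.ne hy₀
    have hv0 : v ≠ 0 := by
      intro h
      rw [h, model_zero ι hadd] at hv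
      rw [← hv, orderOf_one] at hy
      exact hp.one_lt.ne hy
    obtain ⟨τ, hτσ, hτv⟩ := hB1 v₀ v hv₀0 hv0
    obtain ⟨α, hα1, _⟩ := model_exists_extension ι hinj hadd hrange hAnorm x₀ x₀ hcompl
      dvd_rfl (hmeet x₀ hx₀) τ.toAddEquiv (by
        intro a b hab
        have hb : b = σ a := hinj (by rw [hab, hσ])
        rw [hb]
        change ι (τ (σ a)) = x₀ * ι (τ a) * x₀⁻¹
        rw [hτσ, hσ])
    refine ⟨α, ?_⟩
    rw [← hv₀, hα1, ← hv]
    change ι (τ v₀) = ι v
    rw [hτv]
  -- the Frobenius twist automorphism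
  have hpo : orderOf (x₀ ^ p) = q := by
    have hc : (orderOf x₀).Coprime p := by rw [hx₀]; exact hcoppq.symm
    rw [hc.orderOf_pow, hx₀]
  obtain ⟨αp, _, hαp⟩ := model_exists_extension ι hinj hadd hrange hAnorm x₀ (x₀ ^ p) hcompl
    (by rw [hpo, hx₀]) (hmeet (x₀ ^ p) hpo) τp.toAddEquiv (by
      intro a b hab
      have hb : b = σ a := hinj (by rw [hab, hσ])
      rw [hb]
      change ι (τp (σ a)) = x₀ ^ p * ι (τp a) * (x₀ ^ p)⁻¹
      rw [hτp, model_pow_conj ι hadd σ x₀ hσ])
  have hαpow : ∀ j : ℕ, ((αp : MulAut G) ^ j) x₀ = x₀ ^ (p ^ j) := by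
    intro j
    induction j with
    | zero => simp
    | succ j ih =>
      rw [pow_succ', MulAut.mul_apply, ih, map_pow, hαp, ← pow_mul, pow_succ']
  -- transitivity on elements of order q
  have hfac : (Nat.card G).factorization q = 1 := by
    rw [hcard, Nat.factorization_mul (pow_ne_zero _ hp.ne_zero) hq.ne_zero]
    simp [hp.factorization_pow, hq.factorization_self, hpq]
  have htq : ∀ x' : G, orderOf x' = q → AutRel x₀ x' := by
    intro x' hx'
    let Q₀ : Sylow q G := Sylow.ofCard (Subgroup.zpowers x₀)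
      (by rw [Nat.card_zpowers, hx₀, hfac, pow_one])
    let Q' : Sylow q G := Sylow.ofCard (Subgroup.zpowers x')
      (by rw [Nat.card_zpowers, hx', hfac, pow_one])
    obtain ⟨g, hg⟩ := MulAction.exists_smul_eq G Q₀ Q'
    have h1 : x' ∈ ((g • Q₀ : Sylow q G) : Subgroup G) := by
      rw [hg]
      exact Subgroup.mem_zpowers x'
    rw [Sylow.coe_subgroup_smul, Subgroup.mem_pointwise_smul_iff_inv_smul_mem] at h1
    have h2 : g⁻¹ * x' * g ∈ Subgroup.zpowers x₀ := by
      have h3 : (MulAut.conj g)⁻¹ • x' = g⁻¹ * x' * g := by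
        rw [MulAut.smul_def, MulAut.conj_inv_apply]
      rw [h3] at h1
      exact h1
    obtain ⟨k, hk⟩ := mem_powers_iff_mem_zpowers.mpr h2
    have hk' : x₀ ^ k = g⁻¹ * x' * g := hk
    have hkq : ¬ q ∣ k := by
      intro hd
      obtain ⟨m, rfl⟩ := hd
      rw [pow_mul, hx₀q, one_pow] at hk'
      have : x' = 1 := by
        have h4 : g * (g⁻¹ * x' * g) * g⁻¹ = x' := by group
        rw [← h4, ← hk']
        group
      rw [this, orderOf_one] at hx'
      exact hq.one_lt.ne hx'
    obtain ⟨j, hj⟩ := exists_pow_modEq_of_primitive_root hpq hprim k hkq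
    have hpow : x₀ ^ (p ^ j) = x₀ ^ k := pow_eq_pow_iff_modEq.mpr (by rw [hx₀]; exact hj)
    refine ⟨MulAut.conj g * (αp : MulAut G) ^ j, ?_⟩
    rw [MulAut.mul_apply, hαpow, hpow, hk', MulAut.conj_apply]
    group
  -- assembly
  have hy₀1 : orderOf y₀ ≠ 1 := by rw [hy₀]; exact hp.one_lt.ne'
  have hx₀1 : orderOf x₀ ≠ 1 := by rw [hx₀]; exact hq.one_lt.ne'
  apply card_orbits_eq_three (x₀ := (1 : G)) (x₁ := y₀) (x₂ := x₀)
  · intro h
    have := h.orderOf_eq
    rw [orderOf_one] at this
    exact hy₀1 this.symm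
  · intro h
    have := h.orderOf_eq
    rw [orderOf_one] at this
    exact hx₀1 this.symm
  · intro h
    have := h.orderOf_eq
    rw [hy₀, hx₀] at this
    exact hpq this
  · intro g
    by_cases hgA : g ∈ A
    · rcases (hAmem g).mp hgA with h | h
      · left
        rw [h]
        exact AutRel.refl 1
      · right; left
        exact htp g h
    · right; right
      exact htq g (hnotA g hgA)

end Cfsg.Agent.Lib.Helper68
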