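import Mathlib
import Cfsg.Prelude.Def_Transfer
import Cfsg.Agent.Lib.Helper48.Generation
import Cfsg.Agent.Lib.Helper68.PrimRootForward
import Cfsg.Agent.Lib.Helper68.ElemAbModel
import Cfsg.Agent.Lib.Helper68.AutOrbits

/-!
# S4081, forward direction, group-theoretic core (helper68)
-/

set_option autoImplicit false
set_option linter.unusedSectionVars false

namespace Cfsg.Agent.Lib.Helper68

universe u

section Twist

variable {G : Type*} [Group G] {p : ℕ} [Fact p.Prime] {A : Subgroup G}
  {V : Type*} [AddCommGroup V] [Module (ZMod p) V]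
  (ι : V → G) (hinj : Function.Injective ι) (hadd : ∀ v w, ι (v + w) = ι v * ι w)
  (hrange : Set.range ι = (A : Set G))

include hinj hadd hrange in
/-- An automorphism `α` of `G` preserving the abelian normal subgroup `A` with `α x = z * x ^ k`,
`z ∈ A`, induces `τ` on the model with `τ σ = σ ^ k τ`. -/
theorem twist_of_aut (hA : A.Normal) (hAcomm : ∀ a ∈ A, ∀ b ∈ A, a * b = b * a)
    (σ : Module.End (ZMod p) V) (x : G) (hσ : ∀ v, ι (σ v) = x * ι v * x⁻¹)
    (α : G ≃* G) (hα : ∀ g, g ∈ A ↔ α g ∈ A) (z : G) (hz : z ∈ A) (k : ℕ)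
    (hαx : α x = z * x ^ k) :
    ∃ τ : V ≃ₗ[ZMod p] V, (∀ v, ι (τ v) = α (ι v)) ∧ ∀ w, τ (σ w) = (σ ^ k) (τ w) := by
  obtain ⟨τ, hτ⟩ := model_exists_linearEquiv (p := p) ι hinj hadd hrange α hα
  refine ⟨τ, hτ, ?_⟩
  intro w
  apply hinj
  rw [hτ, hσ, map_mul, map_mul, map_inv, hαx, model_pow_conj ι hadd σ x hσ, hτ]
  have h1 : x ^ k * α (ι w) * (x ^ k)⁻¹ ∈ A := by
    apply hA.conj_mem
    rw [← hτ]
    exact model_mem ι hrange _
  have h2 := hAcomm z hz _ h1
  calc z * x ^ k * α (ι w) * (z * x ^ k)⁻¹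
      = z * (x ^ k * α (ι w) * (x ^ k)⁻¹) * z⁻¹ := by group
    _ = (x ^ k * α (ι w) * (x ^ k)⁻¹) * z * z⁻¹ := by rw [h2]
    _ = x ^ k * α (ι w) * (x ^ k)⁻¹ := by group

end Twist

section Core

variable {G : Type u} [Group G] [Finite G] {p q : ℕ} [Fact p.Prime] [Fact q.Prime]

/-- No element of order `q` commutes with an element of order `p` when all orders are `1, p, q`. -/
theorem fpf_of_orders (hpq : p ≠ q)
    (hord : ∀ g : G, g = 1 ∨ orderOf g = p ∨ orderOf g = q)
    (x y : G) (hx : orderOf x = q) (hy : orderOf y = p) : x * y * x⁻¹ ≠ y := by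
  intro h
  have hp := (Fact.out : p.Prime)
  have hq := (Fact.out : q.Prime)
  have hc : Commute x y := by
    have : x * y = y * x := by
      calc x * y = x * y * x⁻¹ * x := by group
        _ = y * x := by rw [h]
    exact this
  have hcop : (orderOf x).Coprime (orderOf y) := by
    rw [hx, hy]
    exact (Nat.coprime_primes hq hp).mpr hpq.symm
  have hmul := hc.orderOf_mul_eq_mul_orderOf_of_coprime hcop
  rw [hx, hy] at hmul
  rcases hord (x * y) with h1 | h1 | h1
  · rw [h1, orderOf_one] at hmul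
    have := hq.two_le
    have := hp.two_le
    nlinarith
  · rw [h1] at hmul
    have := hq.two_le
    have := hp.pos
    nlinarith
  · rw [h1] at hmul
    have := hp.two_le
    have := hq.pos
    nlinarith

theorem forward_core (hpq : p ≠ q)
    (hord : ∀ g : G, g = 1 ∨ orderOf g = p ∨ orderOf g = q)
    (htp : ∀ a b : G, orderOf a = p → orderOf b = p → AutRel a b)
    (htq : ∀ a b : G, orderOf a = q → orderOf b = q → AutRel a b)
    (a₀ : G) (ha₀ : orderOf a₀ = p) (b₀ : G) (hb₀ : orderOf b₀ = q)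
    (A : Subgroup G) [hAchar : A.Characteristic] (hAcomm : ∀ x ∈ A, ∀ y ∈ A, x * y = y * x)
    (hA : ∀ g, g ∈ A ↔ g = 1 ∨ orderOf g = p) :
    ∃ n : ℕ, 1 ≤ n ∧ Nat.card G = p ^ n * q ∧
      (∀ P : Sylow p G, (P : Subgroup G).Normal ∧ Cfsg.IsElementaryAbelian p (P : Subgroup G)) ∧
      orderOf (p : ZMod q) = q - 1 ∧
      ∀ x y : G, orderOf x = q → orderOf y = p → x * y * x⁻¹ ≠ y := by
  classical
  have hp := (Fact.out : p.Prime)
  have hq := (Fact.out : q.Prime)
  have hfpf := fpf_of_orders hpq hord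
  have hAnorm : A.Normal := Subgroup.normal_of_characteristic A
  have hAexp : ∀ a ∈ A, a ^ p = 1 := by
    intro a ha
    rcases (hA a).mp ha with h | h
    · rw [h, one_pow]
    · rw [← h, pow_orderOf_eq_one]
  have hApg : IsPGroup p A := by
    intro a
    refine ⟨1, ?_⟩
    apply Subtype.ext
    rw [pow_one, Subgroup.coe_pow]
    exact hAexp a a.2
  have ha₀A : a₀ ∈ A := (hA a₀).mpr (Or.inr ha₀)
  have ha₀1 : a₀ ≠ 1 := by
    intro h
    rw [h, orderOf_one] at ha₀
    exact hp.one_lt.ne ha₀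
  -- every Sylow p-subgroup is A
  have hSyl : ∀ P : Sylow p G, (P : Subgroup G) = A := by
    intro P
    have hle : (P : Subgroup G) ≤ A := by
      intro g hg
      rw [hA]
      rcases hord g with h | h | h
      · exact Or.inl h
      · exact Or.inr h
      · exfalso
        obtain ⟨k, hk⟩ := (IsPGroup.iff_orderOf.mp P.isPGroup') ⟨g, hg⟩
        rw [Subgroup.orderOf_mk, h] at hk
        have : p ∣ q := by
          rcases Nat.eq_zero_or_pos k with h0 | h0
          · rw [h0, pow_zero] at hk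
            exact absurd hk hq.one_lt.ne'
          · rw [hk]
            exact dvd_pow_self p h0.ne'
        exact hpq ((Nat.prime_dvd_prime_iff_eq hp hq).mp this)
    exact (P.is_maximal' hApg hle).symm
  obtain ⟨n, hn⟩ := IsPGroup.iff_card.mp hApg
  have hn1 : 1 ≤ n := by
    rcases Nat.eq_zero_or_pos n with h0 | h0
    · exfalso
      rw [h0, pow_zero] at hn
      have : A = ⊥ := Subgroup.card_eq_one.mp hn
      rw [this, Subgroup.mem_bot] at ha₀A
      exact ha₀1 ha₀A
    · exact h0
  -- the index of A is a power of q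
  have hidx : ¬ p ∣ A.index := by
    obtain ⟨P⟩ : Nonempty (Sylow p G) := inferInstance
    rw [← hSyl P]
    exact P.not_dvd_index
  have hcardG : Nat.card G = p ^ n * A.index := by
    rw [← hn, Subgroup.card_mul_index]
  have hidxpow : A.index = q ^ A.index.primeFactorsList.length := by
    apply Nat.eq_prime_pow_of_unique_prime_dvd A.index_ne_zero_of_finite
    intro r hr hrd
    have : Fact r.Prime := ⟨hr⟩
    have hrG : r ∣ Nat.card G := by
      rw [hcardG]
      exact hrd.mul_left _
    obtain ⟨g, hg⟩ := exists_prime_orderOf_dvd_card' r hrG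
    rcases hord g with h | h | h
    · rw [h, orderOf_one] at hg
      exact absurd hg.symm hr.one_lt.ne'
    · exfalso
      apply hidx
      rw [← h, hg]
      exact hrd
    · rw [← hg, h]
  set b := A.index.primeFactorsList.length with hb
  have hqG : q ∣ Nat.card G := by
    rw [← hb₀]
    exact orderOf_dvd_natCard b₀
  have hqA : ¬ q ∣ Nat.card A := by
    rw [hn]
    intro h
    exact hpq.symm ((Nat.prime_dvd_prime_iff_eq hq hp).mp (hq.dvd_of_dvd_pow h))
  -- b ≤ 1 by coprime generation
  have hb1 : b ≤ 1 := by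
    by_contra hcon
    have hb2 : 2 ≤ b := by omega
    have hq2 : q ^ 2 ∣ Nat.card G := by
      rw [hcardG, hidxpow]
      exact (pow_dvd_pow q hb2).mul_left _
    obtain ⟨E, hE⟩ := Sylow.exists_subgroup_card_pow_prime q hq2
    have hEcomm : ∀ x ∈ E, ∀ y ∈ E, x * y = y * x := by
      intro x hx y hy
      have hc : IsMulCommutative E := IsPGroup.isMulCommutative_of_card_eq_prime_sq hE
      exact congrArg Subtype.val (hc.is_comm.comm ⟨x, hx⟩ ⟨y, hy⟩)
    have hEexp : ∀ x ∈ E, x ^ q = 1 := by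
      intro x hx
      rcases hord x with h | h | h
      · rw [h, one_pow]
      · exfalso
        have h1 : orderOf x ∣ Nat.card E := by
          have := orderOf_dvd_natCard (⟨x, hx⟩ : E)
          rwa [Subgroup.orderOf_mk] at this
        rw [h, hE] at h1
        exact hpq ((Nat.prime_dvd_prime_iff_eq hp hq).mp (hp.dvd_of_dvd_pow h1))
      · rw [← h, pow_orderOf_eq_one]
    have hEA : E ≤ Subgroup.normalizer (A : Set G) := by
      rw [Subgroup.normalizer_eq_top]
      exact le_top
    have hle : A ≤ ⊥ := by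
      apply Cfsg.Agent.Lib.Helper48.elemAb_generation (p := q) E hEcomm hEexp (by rw [hE]) A ⊥ hqA hEA
      intro u hu hu1 y hy
      rw [Subgroup.mem_bot]
      by_contra hy1
      obtain ⟨hyA, hyc⟩ := Subgroup.mem_inf.mp hy
      have hyo : orderOf y = p := by
        rcases (hA y).mp hyA with h | h
        · exact absurd h hy1
        · exact h
      have huo : orderOf u = q := orderOf_eq_prime (hEexp u hu) hu1
      apply hfpf u y huo hyo
      have hcomm : y * u = u * y := by
        have := Subgroup.mem_centralizer_iff.mp hyc u (Set.mem_singleton u)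
        exact this.symm
      calc u * y * u⁻¹ = y * u * u⁻¹ := by rw [hcomm]
        _ = y := by group
    have := hle ha₀A
    rw [Subgroup.mem_bot] at this
    exact ha₀1 this
  have hb0 : b ≠ 0 := by
    intro h0
    rw [h0, pow_zero] at hidxpow
    rw [hcardG, hidxpow, mul_one, ← hn] at hqG
    exact hqA hqG
  have hbeq : b = 1 := by omega
  have hidxq : A.index = q := by rw [hidxpow, hbeq, pow_one]
  have hcard : Nat.card G = p ^ n * q := by rw [hcardG, hidxq]
  refine ⟨n, hn1, hcard, ?_, ?_, hfpf⟩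
  · intro P
    rw [hSyl P]
    exact ⟨hAnorm, IsMulCommutative.of_comm (fun a b => Subtype.ext (hAcomm a a.2 b b.2)), hAexp⟩
  · -- `p` is a primitive root modulo `q`
    have hxq : b₀ ^ q = 1 := by rw [← hb₀]; exact pow_orderOf_eq_one b₀
    have hcompl : A.IsComplement' (Subgroup.zpowers b₀) := by
      apply Subgroup.isComplement'_of_coprime
      · rw [Nat.card_zpowers, hb₀, hn, hcard]
      · rw [Nat.card_zpowers, hb₀, hn]
        exact ((Nat.coprime_primes hp hq).mpr hpq).pow_left n
    have hdecomp : ∀ g : G, ∃ z ∈ A, ∃ k : ℕ, g = z * b₀ ^ k := by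
      intro g
      obtain ⟨⟨z, c⟩, hzc⟩ := hcompl.2 g
      have hc : (c : G) ∈ Submonoid.powers b₀ := mem_powers_iff_mem_zpowers.mpr c.2
      obtain ⟨k, hk⟩ := hc
      refine ⟨z, z.2, k, ?_⟩
      have hzc' : (z : G) * (c : G) = g := hzc
      rw [← hzc', ← hk]
    obtain ⟨V, i1, i2, i3, ι, hinj, hadd, hrange⟩ := exists_model (p := p) A
      (IsMulCommutative.of_comm (fun a b => Subtype.ext (hAcomm a a.2 b b.2))) hAexp
    obtain ⟨σe, hσe⟩ := model_exists_conj (p := p) ι hinj hadd hrange hAnorm b₀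
    set σ : Module.End (ZMod p) V := σe.toLinearMap with hσdef
    have hσ : ∀ v, ι (σ v) = b₀ * ι v * b₀⁻¹ := hσe
    obtain ⟨v₀, hv₀⟩ := model_exists_preimage ι hrange ha₀A
    have : Nontrivial V := ⟨v₀, 0, fun h => ha₀1 (by rw [← hv₀, h, model_zero ι hadd])⟩
    have hAut : ∀ α : MulAut G, ∀ g, g ∈ A ↔ α g ∈ A := by
      intro α g
      have := hAchar.fixed α
      conv_lhs => rw [← this]
      rfl
    have hordι : ∀ v : V, v ≠ 0 → orderOf (ι v) = p := by
      intro v hv
      rcases (hA (ι v)).mp (model_mem ι hrange v) with h | h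
      · exact absurd ((model_eq_one_iff ι hinj hadd).mp h) hv
      · exact h
    apply primitive_root_of_transitive hpq σ
    · ext v
      apply hinj
      rw [model_pow_conj ι hadd σ b₀ hσ, hxq]
      simp
    · intro v hv
      by_contra hv0
      apply hfpf b₀ (ι v) hb₀ (hordι v hv0)
      rw [← hσ, hv]
    · intro v v' hv hv'
      obtain ⟨α, hα⟩ := htp (ι v) (ι v') (hordι v hv) (hordι v' hv')
      obtain ⟨z, hz, k, hzk⟩ := hdecomp (α b₀)
      obtain ⟨τ, hτ1, hτ2⟩ := twist_of_aut ι hinj hadd hrange hAnorm hAcomm σ b₀ hσ α (hAut α)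
        z hz k hzk
      exact ⟨τ, k, hτ2, hinj (by rw [hτ1, hα])⟩
    · intro k hk0 hkq
      have hcop : (orderOf b₀).Coprime k := by
        rw [hb₀]
        exact (Nat.Prime.coprime_iff_not_dvd hq).mpr (Nat.not_dvd_of_pos_of_lt hk0 hkq)
      have hko : orderOf (b₀ ^ k) = q := by rw [hcop.orderOf_pow, hb₀]
      obtain ⟨α, hα⟩ := htq b₀ (b₀ ^ k) hb₀ hko
      obtain ⟨τ, _, hτ2⟩ := twist_of_aut ι hinj hadd hrange hAnorm hAcomm σ b₀ hσ α (hAut α)
        1 A.one_mem k (by rw [hα, one_mul])
      exact ⟨τ, hτ2⟩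

end Core

end Cfsg.Agent.Lib.Helper68
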