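import Mathlib
import Cfsg.Prelude.Def_Transfer
import Cfsg.Agent.S0144
import Cfsg.Agent.Lib.Helper68.ThreeOrbitsFwd

/-!
# S4081, forward direction (helper68)
-/

set_option autoImplicit false

namespace Cfsg.Agent.Lib.Helper68

universe u

variable {G : Type u} [Group G] [Finite G]

/-- Symmetric form of the core: the characteristic abelian subgroup contains an element of order
`p`. -/
theorem forward_aux {p q : ℕ} [Fact p.Prime] [Fact q.Prime] (hpq : p ≠ q)
    (hord : ∀ g : G, g = 1 ∨ orderOf g = p ∨ orderOf g = q)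
    (htp : ∀ a b : G, orderOf a = p → orderOf b = p → AutRel a b)
    (htq : ∀ a b : G, orderOf a = q → orderOf b = q → AutRel a b)
    (a₀ : G) (ha₀ : orderOf a₀ = p) (b₀ : G) (hb₀ : orderOf b₀ = q)
    (A : Subgroup G) [hAchar : A.Characteristic] (hAcomm : ∀ x ∈ A, ∀ y ∈ A, x * y = y * x)
    (g₀ : G) (hg₀A : g₀ ∈ A) (hg₀ : orderOf g₀ = p) :
    ∃ n : ℕ, 1 ≤ n ∧ Nat.card G = p ^ n * q ∧
      (∀ P : Sylow p G, (P : Subgroup G).Normal ∧ Cfsg.IsElementaryAbelian p (P : Subgroup G)) ∧
      orderOf (p : ZMod q) = q - 1 ∧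
      ∀ x y : G, orderOf x = q → orderOf y = p → x * y * x⁻¹ ≠ y := by
  have hAut : ∀ α : MulAut G, ∀ g, g ∈ A → α g ∈ A := by
    intro α g hg
    have := hAchar.fixed α
    rw [← this] at hg
    exact hg
  have hpA : ∀ g, orderOf g = p → g ∈ A := by
    intro g hg
    obtain ⟨α, hα⟩ := htp g₀ g hg₀ hg
    rw [← hα]
    exact hAut α g₀ hg₀A
  apply forward_core hpq hord htp htq a₀ ha₀ b₀ hb₀ A hAcomm
  intro g
  constructor
  · intro hg
    rcases hord g with h | h | h
    · exact Or.inl h
    · exact Or.inr h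
    · exfalso
      have hqA : ∀ g', orderOf g' = q → g' ∈ A := by
        intro g' hg'
        obtain ⟨α, hα⟩ := htq g g' h hg'
        rw [← hα]
        exact hAut α g hg
      have h1 := hAcomm b₀ (hqA b₀ hb₀) a₀ (hpA a₀ ha₀)
      apply fpf_of_orders hpq hord b₀ a₀ hb₀ ha₀
      rw [h1]
      group
  · rintro (h | h)
    · rw [h]; exact A.one_mem
    · exact hpA g h

theorem forward (hnpp : ¬ IsPrimePow (Nat.card G)) (hnt : Nat.card G ≠ 1)
    (h3 : Nat.card (MulAction.orbitRel.Quotient (MulAut G) G) = 3) :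
    ∃ (p q n : ℕ) (_ : Fact p.Prime) (_ : Fact q.Prime), p ≠ q ∧ 1 ≤ n ∧ Nat.card G = p ^ n * q ∧
      (∀ P : Sylow p G, (P : Subgroup G).Normal ∧ Cfsg.IsElementaryAbelian p (P : Subgroup G)) ∧
      orderOf (p : ZMod q) = q - 1 ∧
      ∀ x y : G, orderOf x = q → orderOf y = p → x * y * x⁻¹ ≠ y := by
  classical
  have hpos : Nat.card G ≠ 0 := Nat.card_pos.ne'
  -- two distinct prime divisors
  set r := (Nat.card G).minFac with hr
  have hrp : r.Prime := Nat.minFac_prime hnt
  have hrd : r ∣ Nat.card G := Nat.minFac_dvd _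
  have hexs : ∃ s : ℕ, s.Prime ∧ s ∣ Nat.card G ∧ s ≠ r := by
    by_contra hcon
    push Not at hcon
    have h1 := Nat.eq_prime_pow_of_unique_prime_dvd (p := r) hpos (fun {d} hd hdd => hcon d hd hdd)
    apply hnpp
    rw [h1]
    refine hrp.isPrimePow.pow ?_
    intro h0
    rw [h0, pow_zero] at h1
    exact hnt h1
  obtain ⟨s, hsp, hsd, hsr⟩ := hexs
  have : Fact r.Prime := ⟨hrp⟩
  have : Fact s.Prime := ⟨hsp⟩
  obtain ⟨a, ha⟩ := exists_prime_orderOf_dvd_card' r hrd
  obtain ⟨b, hb⟩ := exists_prime_orderOf_dvd_card' s hsd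
  have h1a : ¬ AutRel (1 : G) a := by
    intro h
    have := h.orderOf_eq
    rw [orderOf_one, ha] at this
    exact hrp.one_lt.ne this
  have h1b : ¬ AutRel (1 : G) b := by
    intro h
    have := h.orderOf_eq
    rw [orderOf_one, hb] at this
    exact hsp.one_lt.ne this
  have hab : ¬ AutRel a b := by
    intro h
    have := h.orderOf_eq
    rw [ha, hb] at this
    exact hsr this.symm
  have hcover := autRel_cover h3 h1a h1b hab
  have hord : ∀ g : G, g = 1 ∨ orderOf g = r ∨ orderOf g = s := by
    intro g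
    rcases hcover g with h | h | h
    · left
      obtain ⟨α, hα⟩ := h
      rw [← hα, map_one]
    · right; left
      rw [← h.orderOf_eq, ha]
    · right; right
      rw [← h.orderOf_eq, hb]
  have htr : ∀ a' b' : G, orderOf a' = r → orderOf b' = r → AutRel a' b' := by
    have key : ∀ a' : G, orderOf a' = r → AutRel a a' := by
      intro a' ha'
      rcases hcover a' with h | h | h
      · exfalso
        have := h.orderOf_eq
        rw [orderOf_one, ha'] at this
        exact hrp.one_lt.ne this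
      · exact h
      · exfalso
        have := h.orderOf_eq
        rw [hb, ha'] at this
        exact hsr this
    intro a' b' ha' hb'
    exact (key a' ha').symm.trans (key b' hb')
  have hts : ∀ a' b' : G, orderOf a' = s → orderOf b' = s → AutRel a' b' := by
    have key : ∀ a' : G, orderOf a' = s → AutRel b a' := by
      intro a' ha'
      rcases hcover a' with h | h | h
      · exfalso
        have := h.orderOf_eq
        rw [orderOf_one, ha'] at this
        exact hsp.one_lt.ne this
      · exfalso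
        have := h.orderOf_eq
        rw [ha, ha'] at this
        exact hsr this.symm
      · exact h
    intro a' b' ha' hb'
    exact (key a' ha').symm.trans (key b' hb')
  -- the order of G is r^i * s^j, so G is solvable
  obtain ⟨i, m, hm, hcardm⟩ := Nat.exists_eq_pow_mul_and_not_dvd hpos r hrp.ne_one
  have hm0 : m ≠ 0 := by
    rintro rfl
    rw [mul_zero] at hcardm
    exact hpos hcardm
  have hmpow : m = s ^ m.primeFactorsList.length := by
    apply Nat.eq_prime_pow_of_unique_prime_dvd hm0
    intro d hd hdm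
    have : Fact d.Prime := ⟨hd⟩
    have hdG : d ∣ Nat.card G := by
      rw [hcardm]
      exact hdm.mul_left _
    obtain ⟨g, hg⟩ := exists_prime_orderOf_dvd_card' d hdG
    rcases hord g with h | h | h
    · rw [h, orderOf_one] at hg
      exact absurd hg.symm hd.one_lt.ne'
    · exfalso
      apply hm
      rw [← h, hg]
      exact hdm
    · rw [← hg, h]
  have hsol : Group.IsSolvable G :=
    Cfsg.Agent.S0144.result r s i _ hrp hsp (by rw [hcardm, ← hmpow])
  -- a nontrivial characteristic abelian subgroup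
  have hnontriv : Nontrivial G := by
    rw [← Finite.one_lt_card_iff_nontrivial]
    have := Nat.card_pos (α := G)
    omega
  obtain ⟨N, hN⟩ := (Group.isSolvable_def G).mp hsol
  have hfind : ∃ N, derivedSeries G N = ⊥ := ⟨N, hN⟩
  set N₀ := Nat.find hfind with hN₀
  have hN₀spec : derivedSeries G N₀ = ⊥ := Nat.find_spec hfind
  have hN₀pos : N₀ ≠ 0 := by
    intro h0
    rw [h0, derivedSeries_zero] at hN₀spec
    exact top_ne_bot hN₀spec
  obtain ⟨N₁, hN₁⟩ := Nat.exists_eq_succ_of_ne_zero hN₀pos
  have hA1 : derivedSeries G N₁ ≠ ⊥ := by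
    intro h
    have := Nat.find_min' hfind h
    omega
  have hAcomm : ∀ x ∈ derivedSeries G N₁, ∀ y ∈ derivedSeries G N₁, x * y = y * x := by
    have h1 : ⁅derivedSeries G N₁, derivedSeries G N₁⁆ = ⊥ := by
      rw [← derivedSeries_succ, ← Nat.succ_eq_add_one, ← hN₁]
      exact hN₀spec
    rw [Subgroup.commutator_eq_bot_iff_le_centralizer] at h1
    intro x hx y hy
    exact (Subgroup.mem_centralizer_iff.mp (h1 hx) y hy).symm
  obtain ⟨g₀, hg₀A, hg₀1⟩ : ∃ g₀ : G, g₀ ∈ derivedSeries G N₁ ∧ g₀ ≠ 1 := by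
    obtain ⟨g, hg⟩ := (Subgroup.ne_bot_iff_exists_ne_one).mp hA1
    exact ⟨(g : G), g.2, fun h => hg (Subtype.ext h)⟩
  rcases hord g₀ with h | h | h
  · exact absurd h hg₀1
  · obtain ⟨n, hn⟩ := forward_aux (p := r) (q := s) hsr.symm hord htr hts a ha b hb
      (derivedSeries G N₁) hAcomm g₀ hg₀A h
    exact ⟨r, s, n, inferInstance, inferInstance, hsr.symm, hn⟩
  · have hord' : ∀ g : G, g = 1 ∨ orderOf g = s ∨ orderOf g = r := by
      intro g
      rcases hord g with h | h | h
      · exact Or.inl h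
      · exact Or.inr (Or.inr h)
      · exact Or.inr (Or.inl h)
    obtain ⟨n, hn⟩ := forward_aux (p := s) (q := r) hsr hord' hts htr b hb a ha
      (derivedSeries G N₁) hAcomm g₀ hg₀A h
    exact ⟨s, r, n, inferInstance, inferInstance, hsr, hn⟩

end Cfsg.Agent.Lib.Helper68
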